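import Mathlib
import Groth.Agent.S0605
import Groth.Agent.IdealDepth.CM
import Groth.Agent.CMFlat.Algebra

/-! Depth of finite modules over regular local rings and syzygies. -/

set_option autoImplicit false
set_option backward.isDefEq.respectTransparency false
universe u
open IsLocalRing RingTheory.Sequence TensorProduct

namespace Groth.Agent.FibreDepth.Local

variable {R : Type u} [CommRing R] [IsRegularLocalRing R] {M : Type u} [AddCommGroup M] [Module R M]

/-- The depth of a finite flat module is at least the dimension. -/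
theorem le_depth_of_flat [Module.Flat R M] {d : ℕ} (hd : ringKrullDim R = d) :
    (d : ℕ∞) ≤ LocCoh.depth R M := by
  obtain ⟨l, hgen, hreg, hl⟩ := CMFlat.Algebra.isRegular_generators R
  have hlen : l.length = d := by exact_mod_cast hl.symm.trans hd
  have h := hreg.toIsWeaklyRegular.isWeaklyRegular_lTensor (M₂ := M)
  rw [← hlen]
  refine IdealDepth.len_le ⟨((TensorProduct.rid R M).isWeaklyRegular_congr l).mp h, fun r hr => ?_⟩
  exact hgen ▸ Ideal.subset_span hr

/-- Maximal depth characterises flatness. -/
theorem flat_iff [Module.Finite R M] {d : ℕ} (hd : ringKrullDim R = d) :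
    Module.Flat R M ↔ (d : ℕ∞) ≤ LocCoh.depth R M := by
  refine ⟨fun _ => le_depth_of_flat hd, fun h => ?_⟩
  rcases subsingleton_or_nontrivial M with hM | hM
  · infer_instance
  · have h1 : ((LocCoh.depth R M : ℕ∞) : WithBot ℕ∞) ≤ ringKrullDim R :=
      IdealDepth.depth_le_supportDim.trans (Module.supportDim_le_ringKrullDim R M)
    have h2 : ((LocCoh.depth R M : ℕ∞) : WithBot ℕ∞) = ringKrullDim R :=
      le_antisymm h1 (hd ▸ WithBot.coe_le_coe.mpr h)
    haveI := Groth.Agent.S0605.result R M h2
    infer_instance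

/-- The syzygy shift. -/
theorem shift [Module.Finite R M] {N F : Type u} [AddCommGroup N] [Module R N] [Module.Finite R N]
    [AddCommGroup F] [Module R F] [Module.Finite R F] [Module.Flat R F] (i : N →ₗ[R] F) (f : F →ₗ[R] M)
    (hi : Function.Injective i) (hf : Function.Surjective f) (he : Function.Exact i f)
    {d : ℕ} (hd : ringKrullDim R = d) (k : ℕ) :
    (d : ℕ∞) ≤ LocCoh.depth R N + k ↔ (d : ℕ∞) ≤ LocCoh.depth R M + (k + 1 : ℕ) := by
  obtain ⟨-, h2, h3⟩ := IdealDepth.shortExact (I := maximalIdeal R) i f hi hf he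
  have hF : (d : ℕ∞) ≤ LocCoh.depth R F := le_depth_of_flat hd
  change min (LocCoh.depth R F) (LocCoh.depth R N - 1) ≤ LocCoh.depth R M at h2
  change min (LocCoh.depth R F) (LocCoh.depth R M + 1) ≤ LocCoh.depth R N at h3
  generalize LocCoh.depth R F = a at hF h2 h3
  generalize LocCoh.depth R N = b at h2 h3 ⊢
  generalize LocCoh.depth R M = c at h2 h3 ⊢
  rw [min_le_iff] at h2 h3
  rcases h2 with h2 | h2 <;> rcases h3 with h3 | h3 <;> enat_to_nat <;>
    (try simp only [true_iff, iff_true]) <;> omega

end Groth.Agent.FibreDepth.Local
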