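import Mathlib
import Groth.Agent.Equidim.Core
import Groth.Agent.Flat.FibreRegular
import Groth.Agent.IdealDepth.CM

/-! The local rings of the fibres of affine space. -/

set_option autoImplicit false
set_option backward.isDefEq.respectTransparency false
noncomputable section
universe u
open scoped TensorProduct

namespace Groth.Agent.FibreDepth.Ring

variable (A : Type u) [CommRing A] {B : Type u} [CommRing B] [Algebra A B] (q : PrimeSpectrum B)

/-- the point of the base below -/
abbrev below : PrimeSpectrum A := PrimeSpectrum.comap (algebraMap A B) q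

/-- the ideal of the fibre -/
abbrev fibIdeal : Ideal B := (below A q).asIdeal.map (algebraMap A B)

/-- the local ring of the fibre at a point -/
abbrev Loc : Type u :=
  Localization.AtPrime q.asIdeal ⧸ (fibIdeal A q).map (algebraMap B (Localization.AtPrime q.asIdeal))

theorem fibIdeal_le : fibIdeal A q ≤ q.asIdeal := Ideal.map_comap_le

theorem map_le_maximal :
    (fibIdeal A q).map (algebraMap B (Localization.AtPrime q.asIdeal)) ≤ IsLocalRing.maximalIdeal _ :=
  (Ideal.map_mono (fibIdeal_le A q)).trans Localization.AtPrime.map_eq_maximalIdeal.le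

instance instNontrivial : Nontrivial (Loc A q) :=
  Ideal.Quotient.nontrivial_iff.mpr fun h => (IsLocalRing.maximalIdeal.isMaximal _).ne_top
    (top_le_iff.mp (h ▸ map_le_maximal A q))

instance instIsLocalRing : IsLocalRing (Loc A q) :=
  .of_surjective' (Ideal.Quotient.mk _) Ideal.Quotient.mk_surjective

theorem exists_denominator {p : Ideal A} [p.IsPrime] (z : p.ResidueField ⊗[A] B) :
    ∃ (t : A) (b : B), t ∉ p ∧ algebraMap A (p.ResidueField ⊗[A] B) t * z = 1 ⊗ₜ b := by
  induction z using TensorProduct.induction_on with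
  | zero => exact ⟨1, 0, fun h => Ideal.IsPrime.ne_top ‹_› ((Ideal.eq_top_iff_one p).mpr h), by simp⟩
  | tmul k b =>
    obtain ⟨a, t, ht, h⟩ := Flat.FibreRegular.exists_smul_eq_algebraMap p k
    refine ⟨t, a • b, ht, ?_⟩
    rw [Algebra.TensorProduct.algebraMap_apply, Algebra.TensorProduct.tmul_mul_tmul, one_mul, h,
      Algebra.algebraMap_eq_smul_one, TensorProduct.smul_tmul]
  | add x y hx hy =>
    obtain ⟨t, b, ht, h⟩ := hx
    obtain ⟨t', b', ht', h'⟩ := hy
    refine ⟨t * t', t' • b + t • b', fun hh => (Ideal.IsPrime.mem_or_mem ‹_› hh).elim ht ht', ?_⟩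
    rw [TensorProduct.tmul_add, ← TensorProduct.smul_tmul, ← TensorProduct.smul_tmul,
      ← TensorProduct.smul_tmul', ← TensorProduct.smul_tmul',
      ← h, ← h', Algebra.smul_def, Algebra.smul_def, map_mul]
    ring

variable {σ : Type} [Finite σ]

theorem mem_fib_of_tmul_eq_zero (p : Ideal A) [p.IsPrime] {x : MvPolynomial σ A}
    (h : (1 : p.ResidueField) ⊗ₜ[A] x = 0) : x ∈ p.map (algebraMap A (MvPolynomial σ A)) := by
  rw [MvPolynomial.algebraMap_eq, MvPolynomial.mem_map_C_iff]
  intro m
  have h1 := congrArg (MvPolynomial.algebraTensorAlgEquiv A p.ResidueField) h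
  rw [MvPolynomial.algebraTensorAlgEquiv_tmul, one_smul, map_zero] at h1
  have h2 := congrArg (fun f => MvPolynomial.coeff m f) h1
  simp only [MvPolynomial.coeff_map, MvPolynomial.coeff_zero] at h2
  exact Ideal.algebraMap_residueField_eq_zero.mp h2

/-- The fibre local ring is the localization of the fibre ring. -/
theorem exists_ringEquiv_compat (q : PrimeSpectrum (MvPolynomial σ A))
    (M : PrimeSpectrum ((below A q).asIdeal.Fiber (MvPolynomial σ A))) (hM : Equidim.Core.pr (below A q) M = q) :
    ∃ e : Loc A q ≃+* Localization.AtPrime M.asIdeal, ∀ b : MvPolynomial σ A,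
      e (algebraMap (MvPolynomial σ A) (Loc A q) b) =
        algebraMap _ (Localization.AtPrime M.asIdeal)
          ((1 : (below A q).asIdeal.ResidueField) ⊗ₜ[A] b : (below A q).asIdeal.Fiber (MvPolynomial σ A)) := by
  let P := MvPolynomial σ A
  let F := (below A q).asIdeal.Fiber P
  let φ : P →+* F := (Algebra.TensorProduct.includeRight : P →ₐ[A] F).toRingHom
  have hφM : ∀ b, φ b ∈ M.asIdeal ↔ b ∈ q.asIdeal := fun b => by
    conv_rhs => rw [← hM]
    exact Equidim.Core.mem_pr.symm
  let ψ : Localization.AtPrime q.asIdeal →+* (Localization.AtPrime M.asIdeal) :=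
    IsLocalization.lift (M := q.asIdeal.primeCompl) (g := (algebraMap F (Localization.AtPrime M.asIdeal)).comp φ)
      fun s => IsLocalization.map_units (Localization.AtPrime M.asIdeal) (⟨φ s, fun h => s.2 ((hφM s).mp h)⟩ : M.asIdeal.primeCompl)
  have hψ : ∀ b, ψ (algebraMap P _ b) = algebraMap F (Localization.AtPrime M.asIdeal) (φ b) := fun b => IsLocalization.lift_eq _ b
  have hCt : ∀ t ∉ (below A q).asIdeal, algebraMap A P t ∉ q.asIdeal := fun t ht h => ht h
  have hsurj : Function.Surjective ψ := fun y => by
    obtain ⟨⟨a, b⟩, hab⟩ := IsLocalization.surj M.asIdeal.primeCompl y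
    obtain ⟨t, a₀, ht, hta⟩ := exists_denominator A a
    obtain ⟨t', b₀, ht', htb⟩ := exists_denominator A (b : F)
    have hb₀ : b₀ ∉ q.asIdeal := fun h => by
      have h1 : φ b₀ ∈ M.asIdeal := (hφM b₀).mpr h
      rw [show φ b₀ = _ from htb.symm] at h1
      refine (M.isPrime.mem_or_mem h1).elim (fun h2 => hCt t' ht' ((hφM _).mp ?_)) b.2
      rwa [show φ (algebraMap A P t') = algebraMap A F t' from
        (Algebra.TensorProduct.includeRight : P →ₐ[A] F).commutes t']
    let s : q.asIdeal.primeCompl := ⟨algebraMap A P t * b₀,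
      fun h => (q.isPrime.mem_or_mem h).elim (hCt t ht) hb₀⟩
    refine ⟨IsLocalization.mk' _ (algebraMap A P t' * a₀) s, ?_⟩
    rw [IsLocalization.lift_mk'_spec]
    show algebraMap F (Localization.AtPrime M.asIdeal) (φ (algebraMap A P t' * a₀)) = algebraMap F (Localization.AtPrime M.asIdeal) (φ (algebraMap A P t * b₀)) * y
    rw [map_mul φ, map_mul φ, show φ a₀ = _ from hta.symm, show φ b₀ = _ from htb.symm,
      show φ (algebraMap A P t) = algebraMap A F t from
        (Algebra.TensorProduct.includeRight : P →ₐ[A] F).commutes t,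
      show φ (algebraMap A P t') = algebraMap A F t' from
        (Algebra.TensorProduct.includeRight : P →ₐ[A] F).commutes t']
    simp only [map_mul]
    have hab' : y * algebraMap F (Localization.AtPrime M.asIdeal) (b : F) =
        algebraMap F (Localization.AtPrime M.asIdeal) a := hab
    show algebraMap F _ (algebraMap A F t') * (algebraMap F _ (algebraMap A F t) * algebraMap F _ a) =
      algebraMap F _ (algebraMap A F t) * (algebraMap F _ (algebraMap A F t') * algebraMap F _ (b : F)) * y
    rw [← hab']
    ring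
  have hker : RingHom.ker ψ = (fibIdeal A q).map (algebraMap P (Localization.AtPrime q.asIdeal)) := by
    refine le_antisymm (fun x hx => ?_) ?_
    · obtain ⟨a, s, rfl⟩ := IsLocalization.exists_mk'_eq q.asIdeal.primeCompl x
      rw [RingHom.mem_ker, IsLocalization.lift_mk'_spec, mul_zero] at hx
      obtain ⟨⟨h, hh⟩, hh0⟩ := (IsLocalization.map_eq_zero_iff M.asIdeal.primeCompl (Localization.AtPrime M.asIdeal) _).mp hx
      obtain ⟨t, h₀, ht, hth⟩ := exists_denominator A h
      have hh₀ : h₀ ∉ q.asIdeal := fun hm => by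
        have h1 : φ h₀ ∈ M.asIdeal := (hφM h₀).mpr hm
        rw [show φ h₀ = _ from hth.symm] at h1
        refine (M.isPrime.mem_or_mem h1).elim (fun h2 => hCt t ht ((hφM _).mp ?_)) hh
        rwa [show φ (algebraMap A P t) = algebraMap A F t from
          (Algebra.TensorProduct.includeRight : P →ₐ[A] F).commutes t]
      have h0 : φ (h₀ * a) = 0 := by
        rw [map_mul, show φ h₀ = _ from hth.symm, mul_assoc, show h * φ a = 0 from hh0, mul_zero]
      refine (IsLocalization.mk'_mem_iff).mpr ?_
      have hu : IsUnit (algebraMap P (Localization.AtPrime q.asIdeal) h₀) :=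
        IsLocalization.map_units _ (⟨h₀, hh₀⟩ : q.asIdeal.primeCompl)
      refine (Ideal.unit_mul_mem_iff_mem _ hu).mp ?_
      rw [← map_mul]
      exact Ideal.mem_map_of_mem _ (mem_fib_of_tmul_eq_zero A _ h0)
    · rw [Ideal.map_le_iff_le_comap, Ideal.map_le_iff_le_comap]
      intro a ha
      show ψ (algebraMap P _ (algebraMap A P a)) = 0
      rw [hψ, show φ (algebraMap A P a) = algebraMap A F a from
          (Algebra.TensorProduct.includeRight : P →ₐ[A] F).commutes a,
        Algebra.TensorProduct.algebraMap_apply, Ideal.algebraMap_residueField_eq_zero.mpr ha,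
        TensorProduct.zero_tmul, map_zero]
  exact ⟨(Ideal.quotEquivOfEq hker.symm).trans (RingHom.quotientKerEquivOfSurjective hsurj), fun b => hψ b⟩

theorem exists_ringEquiv (q : PrimeSpectrum (MvPolynomial σ A))
    (M : PrimeSpectrum ((below A q).asIdeal.Fiber (MvPolynomial σ A))) (hM : Equidim.Core.pr (below A q) M = q) :
    Nonempty (Loc A q ≃+* Localization.AtPrime M.asIdeal) :=
  ⟨(exists_ringEquiv_compat A q M hM).choose⟩

theorem isRegularRing_fiber (p : Ideal A) [p.IsPrime] : IsRegularRing (p.Fiber (MvPolynomial σ A)) :=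
  IsRegularRing.of_ringEquiv
    (MvPolynomial.algebraTensorAlgEquiv (σ := σ) A p.ResidueField).symm.toRingEquiv

theorem exists_fibre_point (q : PrimeSpectrum B) :
    ∃ M : PrimeSpectrum ((below A q).asIdeal.Fiber B), Equidim.Core.pr (below A q) M = q :=
  Equidim.Core.exists_pr _ q rfl

instance instIsRegular (q : PrimeSpectrum (MvPolynomial σ A)) : IsRegularLocalRing (Loc A q) := by
  obtain ⟨M, hM⟩ := exists_fibre_point A q
  haveI := isRegularRing_fiber A (σ := σ) (below A q).asIdeal
  obtain ⟨e⟩ := exists_ringEquiv A q M hM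
  exact IsRegularLocalRing.of_ringEquiv (R := Localization.AtPrime M.asIdeal) e.symm

/-- The dimension formula in the fibre. -/
theorem dim_add_eq (q : PrimeSpectrum (MvPolynomial σ A))
    (M : PrimeSpectrum ((below A q).asIdeal.Fiber (MvPolynomial σ A))) (hM : Equidim.Core.pr (below A q) M = q) :
    ringKrullDim (Loc A q) + ringKrullDim ((below A q).asIdeal.Fiber (MvPolynomial σ A) ⧸ M.asIdeal) =
      (Nat.card σ : ℕ) := by
  let F := (below A q).asIdeal.Fiber (MvPolynomial σ A)
  let K := (below A q).asIdeal.ResidueField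
  obtain ⟨e⟩ := exists_ringEquiv A q M hM
  let E : F ≃+* MvPolynomial σ K := (MvPolynomial.algebraTensorAlgEquiv (σ := σ) A K).toRingEquiv
  haveI : IsDomain F := E.toMulEquiv.isDomain _
  haveI : Algebra.FiniteType K F := inferInstance
  have hF : ringKrullDim F = (Nat.card σ : ℕ) := by
    rw [ringKrullDim_eq_of_ringEquiv E, MvPolynomial.ringKrullDim_of_isNoetherianRing,
      ringKrullDim_eq_zero_of_field]
    simp
  rw [ringKrullDim_eq_of_ringEquiv e,
    show ringKrullDim (Localization.AtPrime M.asIdeal) = M.asIdeal.height from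
      IsLocalization.AtPrime.ringKrullDim_eq_height (A := Localization.AtPrime M.asIdeal) M.asIdeal, ← hF]
  refine le_antisymm ?_ (Equidim.ringKrullDim_le_height_add K F M.asIdeal)
  rw [← IdealDepth.coheight_eq_ringKrullDim_quotient M,
    show M.asIdeal.height = Order.height M from PrimeSpectrum.height_eq_orderHeight M, ← WithBot.coe_add]
  show _ ≤ Order.krullDim (PrimeSpectrum F)
  rw [Order.krullDim_eq_iSup_height_add_coheight_of_nonempty, WithBot.coe_le_coe]
  exact le_iSup (fun a : PrimeSpectrum F => Order.height a + Order.coheight a) M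

end Groth.Agent.FibreDepth.Ring
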