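import Mathlib.RingTheory.Flat.Equalizer
import Groth.Agent.Flat.GlobalModel

/-! Syzygies of flat finitely presented modules are finitely presented and flat. -/

set_option autoImplicit false

noncomputable section

namespace Groth.Agent.FibreDepth.Syzygy

universe u

open scoped TensorProduct
open Groth.Agent.Flat.Descent Groth.Agent.Flat.FlatAt Groth.Agent.Flat.OpenLocus Groth.Agent.Flat.GlobalModel

/-- the kernel of a surjection of flat modules is flat -/
theorem flat_ker {A N P : Type u} [CommRing A] [AddCommGroup N] [Module A N] [AddCommGroup P] [Module A P]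
    (f : N →ₗ[A] P) (hf : Function.Surjective f) [Module.Flat A N] [Module.Flat A P] :
    Module.Flat A (LinearMap.ker f) := by
  rw [Module.Flat.iff_lTensor_preserves_injective_linearMap]
  intro V W _ _ _ _ g hg
  have h1 : Function.Injective ((LinearMap.ker f).subtype.rTensor V) := by
    have h := LinearMap.lTensor_injective_of_exact_of_flat f hf (LinearMap.ker f).subtype
      (LinearMap.ker f).subtype_injective (LinearMap.exact_subtype_ker_map f) V
    exact (LinearMap.lTensor_inj_iff_rTensor_inj V _).1 h
  have h2 : Function.Injective (g.lTensor N) := Module.Flat.lTensor_preserves_injective_linearMap g hg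
  have e : ((LinearMap.ker f).subtype.rTensor W).comp (g.lTensor (LinearMap.ker f)) =
      (g.lTensor N).comp ((LinearMap.ker f).subtype.rTensor V) := by
    rw [LinearMap.rTensor_comp_lTensor, LinearMap.lTensor_comp_rTensor]
  refine Function.Injective.of_comp (f := (LinearMap.ker f).subtype.rTensor W) ?_
  rw [← LinearMap.coe_comp, e, LinearMap.coe_comp]
  exact h2.comp h1

variable {A : Type u} [CommRing A] {σ : Type} [Finite σ]

/-- the map given by a matrix -/
def mat {R : Type u} [CommRing R] {ι : Type} {k : ℕ} (g : Fin k → ι → MvPolynomial σ R) :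
    (Fin k → MvPolynomial σ R) →ₗ[MvPolynomial σ R] (ι → MvPolynomial σ R) :=
  Fintype.linearCombination (MvPolynomial σ R) g

theorem range_mat {R : Type u} [CommRing R] {ι : Type} {k : ℕ} (g : Fin k → ι → MvPolynomial σ R) :
    LinearMap.range (mat g) = Submodule.span (MvPolynomial σ R) (Set.range g) :=
  Fintype.range_linearCombination _ _

theorem mat_vmap {B : Type u} [CommRing B] (φ : A →+* B) {ι : Type} {k : ℕ}
    (g : Fin k → ι → MvPolynomial σ A) (g' : Fin k → ι → MvPolynomial σ B) (hg : ∀ l, vmap φ (g l) = g' l)
    (v : Fin k → MvPolynomial σ A) : mat g' (vmap φ v) = vmap φ (mat g v) := by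
  simp only [mat, Fintype.linearCombination_apply]
  funext i
  simp only [vmap, Finset.sum_apply, Pi.smul_apply, smul_eq_mul, map_sum, map_mul, ← hg]

set_option maxHeartbeats 1000000 in
/-- relations base change along flat cokernels -/
theorem ker_mat_le {B : Type u} [CommRing B] [Algebra A B] {ι : Type} [Finite ι] {k : ℕ}
    (g : Fin k → ι → MvPolynomial σ A) (g' : Fin k → ι → MvPolynomial σ B)
    (hg : ∀ l, vmap (algebraMap A B) (g l) = g' l) (h : Module.Flat A (Coker g))
    {n : ℕ} (w : Fin n → Fin k → MvPolynomial σ A)
    (hw : Submodule.span (MvPolynomial σ A) (Set.range w) = LinearMap.ker (mat g)) :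
    LinearMap.ker (mat g') ≤
      Submodule.span (MvPolynomial σ B) (Set.range fun l => vmap (algebraMap A B) (w l)) := by
  intro x hx
  have hjk := isBaseChange_vecMap (σ := σ) (ι := Fin k) A B
  have hjι := isBaseChange_vecMap (σ := σ) (ι := ι) A B
  let r₀ := (mat g).restrictScalars A
  let K := LinearMap.range r₀
  let π : (ι → MvPolynomial σ A) →ₗ[A] Coker g :=
    (Submodule.span (MvPolynomial σ A) (Set.range g)).mkQ.restrictScalars A
  have hexK : Function.Exact K.subtype π := fun v => by
    have h1 : v ∈ LinearMap.range (mat g) ↔ v ∈ K := by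
      rw [LinearMap.mem_range, LinearMap.mem_range]
      rfl
    have h2 : v ∈ Set.range K.subtype ↔ v ∈ K := by
      rw [← LinearMap.coe_range, SetLike.mem_coe, Submodule.range_subtype]
    rw [show π v = (Submodule.span (MvPolynomial σ A) (Set.range g)).mkQ v from rfl,
      Submodule.mkQ_apply, Submodule.Quotient.mk_eq_zero, ← range_mat, h1, h2]
  have hπ : Function.Surjective π := fun y => by
    obtain ⟨v, hv⟩ := Submodule.mkQ_surjective (Submodule.span (MvPolynomial σ A) (Set.range g)) y
    exact ⟨v, hv⟩
  have hKinj : Function.Injective (K.subtype.lTensor B) :=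
    LinearMap.lTensor_injective_of_exact_of_flat π hπ K.subtype K.subtype_injective hexK B
  obtain ⟨z, rfl⟩ := hjk.equiv.surjective x
  have key : ∀ z, hjι.equiv (r₀.lTensor B z) = mat g' (hjk.equiv z) := fun z => by
    induction z using TensorProduct.induction_on with
    | zero => simp
    | add a b ha hb => simp only [map_add, ha, hb]
    | tmul a v =>
      rw [LinearMap.lTensor_tmul, IsBaseChange.equiv_tmul, IsBaseChange.equiv_tmul,
        LinearMap.map_smul_of_tower, vecMap_apply, vecMap_apply, mat_vmap _ g g' hg]
      rfl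
  have hz : r₀.lTensor B z = 0 := by
    refine hjι.equiv.injective ?_
    rw [key, map_zero]
    exact hx
  have hz' : r₀.rangeRestrict.lTensor B z = 0 := by
    refine hKinj ?_
    rw [map_zero, ← LinearMap.lTensor_comp_apply]
    exact hz
  obtain ⟨y, rfl⟩ := (lTensor_exact B
    (f := (LinearMap.ker r₀).subtype) (g := r₀.rangeRestrict)
    (LinearMap.ker_rangeRestrict r₀ ▸ LinearMap.exact_subtype_ker_map r₀.rangeRestrict)
    r₀.surjective_rangeRestrict z).mp hz'
  clear hz hz' hx
  induction y using TensorProduct.induction_on with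
  | zero => simp
  | add a b ha hb => rw [map_add, map_add]; exact add_mem ha hb
  | tmul a v =>
    rw [LinearMap.lTensor_tmul, IsBaseChange.equiv_tmul, vecMap_apply]
    refine Submodule.smul_of_tower_mem _ a ?_
    exact vmap_mem_span (algebraMap A B) w _ (fun _ => rfl) (hw.symm ▸ v.2)

theorem fg_relations {ι : Type} [Finite ι] {k : ℕ} (g : Fin k → ι → MvPolynomial σ A)
    (h : Module.Flat A (Coker g)) : (LinearMap.ker (mat g)).FG := by
  obtain ⟨T, hT⟩ := exists_flat_model g h
  obtain ⟨g', hg', hflat⟩ := hT T subset_rfl
  haveI : IsNoetherianRing (adj T) := adj_isNoetherianRing T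
  letI : Algebra (adj T) A := (adjHom T).toAlgebra
  obtain ⟨n, w, hw⟩ := Submodule.fg_iff_exists_fin_generating_family.mp
    (IsNoetherian.noetherian (LinearMap.ker (mat g')))
  refine Submodule.fg_iff_exists_fin_generating_family.mpr
    ⟨n, fun l => vmap (adjHom T) (w l), ?_⟩
  refine le_antisymm (Submodule.span_le.mpr ?_) (ker_mat_le g' g hg' hflat w hw)
  rintro _ ⟨l, rfl⟩
  have hl : mat g' (w l) = 0 :=
    LinearMap.mem_ker.mp (hw ▸ Submodule.subset_span (Set.mem_range_self l))
  show mat g (vmap (adjHom T) (w l)) = 0
  rw [mat_vmap (adjHom T) g' g hg', hl]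
  exact vmap_zero _

variable (M : Type u) [AddCommGroup M] [Module (MvPolynomial σ A) M] [Module A M]
  [IsScalarTower A (MvPolynomial σ A) M]

/-- A flat finitely presented module has a flat finitely presented first syzygy. -/
theorem exists_step [Module.FinitePresentation (MvPolynomial σ A) M] [Module.Flat A M] :
    ∃ (m : ℕ) (f : (Fin m → MvPolynomial σ A) →ₗ[MvPolynomial σ A] M),
      Function.Surjective f ∧ Module.FinitePresentation (MvPolynomial σ A) (LinearMap.ker f) ∧
      Module.Flat A (LinearMap.ker f) := by
  classical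
  obtain ⟨m, K, e, hK⟩ := Module.FinitePresentation.exists_fin (MvPolynomial σ A) M
  obtain ⟨k, g, hg⟩ := Submodule.fg_iff_exists_fin_generating_family.mp hK
  subst hg
  let f := e.symm.toLinearMap ∘ₗ (Submodule.span (MvPolynomial σ A) (Set.range g)).mkQ
  have hf : Function.Surjective f := e.symm.surjective.comp (Submodule.mkQ_surjective _)
  have hker : LinearMap.ker f = Submodule.span (MvPolynomial σ A) (Set.range g) := by
    simp [f]
  haveI : Module.Flat A (Coker g) := Module.Flat.of_linearEquiv (e.symm.restrictScalars A)
  refine ⟨m, f, hf, ?_, ?_⟩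
  · haveI : Module.FinitePresentation (MvPolynomial σ A) ↥(LinearMap.range (mat g)) :=
      Module.finitePresentation_of_surjective (mat g).rangeRestrict (mat g).surjective_rangeRestrict
        (by rw [LinearMap.ker_rangeRestrict]; exact fg_relations g inferInstance)
    exact Module.FinitePresentation.of_equiv
      ((LinearEquiv.ofEq _ _ (range_mat g)).trans (LinearEquiv.ofEq _ _ hker.symm))
  · haveI : Module.Flat A (LinearMap.ker (f.restrictScalars A)) := flat_ker _ hf
    exact Module.Flat.of_linearEquiv
      ({ toFun := fun v => ⟨v.1, v.2⟩, invFun := fun v => ⟨v.1, v.2⟩, map_add' := fun _ _ => rfl,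
         map_smul' := fun _ _ => rfl } : LinearMap.ker f ≃ₗ[A] LinearMap.ker (f.restrictScalars A))

end Groth.Agent.FibreDepth.Syzygy
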