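import Mathlib
import Groth.Prelude.Def_CAlg
import Groth.Agent.FibreDepth.Local
import Groth.Agent.FibreDepth.Syzygy
import Groth.Agent.FibreDepth.Ring
import Groth.Agent.Flat.FibreCriterion

/-! Openness of the locus where the fibres have small projective dimension. -/

set_option autoImplicit false
set_option backward.isDefEq.respectTransparency false
noncomputable section
universe u
open scoped TensorProduct
open Groth.Agent.Flat.FlatAt Groth.Agent.Flat.FibreCriterion

namespace Groth.Agent.FibreDepth.Affine
open Ring

section general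

variable {A P : Type u} [CommRing A] [CommRing P] [Algebra A P] (q : PrimeSpectrum P)

/-- the depth of a fibre -/
abbrev dep (M : Type u) [AddCommGroup M] [Module P M] : ℕ∞ :=
  LocCoh.depth (Loc A q) (Loc A q ⊗[P] M)

/-- the fibre local ring is flat over the fibre ring -/
theorem flat_loc : Module.Flat (P ⧸ fibIdeal A q) (Loc A q) :=
  Module.Flat.of_linearEquiv
    (Algebra.TensorProduct.quotIdealMapEquivQuotTensor (Localization.AtPrime q.asIdeal) (fibIdeal A q)).toLinearEquiv

theorem quot_lTensor_injective {N F M : Type u} [AddCommGroup N] [Module P N] [AddCommGroup F] [Module P F]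
    [AddCommGroup M] [Module P M] [Module A M] [IsScalarTower A P M] [Module.Flat A M]
    (i : N →ₗ[P] F) (f : F →ₗ[P] M) (hi : Function.Injective i) (hf : Function.Surjective f)
    (he : Function.Exact i f) (p : Ideal A) :
    Function.Injective (i.lTensor (P ⧸ p.map (algebraMap A P))) := by
  letI : Module A N := Module.compHom N (algebraMap A P)
  letI : Module A F := Module.compHom F (algebraMap A P)
  haveI : IsScalarTower A P N := IsScalarTower.of_algebraMap_smul fun _ _ => rfl
  haveI : IsScalarTower A P F := IsScalarTower.of_algebraMap_smul fun _ _ => rfl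
  have hA : Function.Injective ((i.restrictScalars A).lTensor (A ⧸ p)) :=
    LinearMap.lTensor_injective_of_exact_of_flat (f.restrictScalars A) hf (i.restrictScalars A) hi he _
  rw [injective_iff_map_eq_zero]
  intro z hz
  obtain ⟨n, rfl⟩ : ∃ n, z = 1 ⊗ₜ n := by
    obtain ⟨n, hn⟩ := Submodule.mkQ_surjective _ (TensorProduct.quotTensorEquivQuotSMul N (p.map (algebraMap A P)) z)
    exact ⟨n, (LinearEquiv.eq_symm_apply _).mpr hn.symm⟩
  rw [LinearMap.lTensor_tmul] at hz
  have h1 := congrArg (TensorProduct.quotTensorEquivQuotSMul F (p.map (algebraMap A P))) hz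
  rw [map_zero, ← map_one (Ideal.Quotient.mk _), TensorProduct.quotTensorEquivQuotSMul_mk_tmul, one_smul,
    Submodule.Quotient.mk_eq_zero] at h1
  have h2 : i n ∈ (p • ⊤ : Submodule A F) := by
    rw [show ((p.map (algebraMap A P)) • (⊤ : Submodule P F)) = (p.map (algebraMap A P)) • ⊤ from rfl] at h1
    have : i n ∈ ((p.map (algebraMap A P)) • (⊤ : Submodule P F)).restrictScalars A := h1
    have e := Ideal.smul_restrictScalars (R := A) (S := P) p (⊤ : Submodule P F)
    rw [Submodule.restrictScalars_top] at e
    rwa [← e]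
  have h3 : (1 : A ⧸ p) ⊗ₜ[A] n = 0 := by
    refine hA ((TensorProduct.quotTensorEquivQuotSMul F p).injective ?_)
    rw [map_zero, map_zero, LinearMap.lTensor_tmul, ← map_one (Ideal.Quotient.mk _),
      TensorProduct.quotTensorEquivQuotSMul_mk_tmul, one_smul, Submodule.Quotient.mk_eq_zero]
    exact h2
  have h4 := congrArg (TensorProduct.quotTensorEquivQuotSMul N p) h3
  rw [map_zero, ← map_one (Ideal.Quotient.mk _), TensorProduct.quotTensorEquivQuotSMul_mk_tmul, one_smul,
    Submodule.Quotient.mk_eq_zero] at h4
  refine (TensorProduct.quotTensorEquivQuotSMul N (p.map (algebraMap A P))).injective ?_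
  rw [map_zero, ← map_one (Ideal.Quotient.mk _), TensorProduct.quotTensorEquivQuotSMul_mk_tmul, one_smul,
    Submodule.Quotient.mk_eq_zero]
  have : n ∈ ((p.map (algebraMap A P)) • (⊤ : Submodule P N)).restrictScalars A := by
    have e := Ideal.smul_restrictScalars (R := A) (S := P) p (⊤ : Submodule P N)
    rw [Submodule.restrictScalars_top] at e
    rwa [e]
  exact this

theorem loc_lTensor_injective {N F M : Type u} [AddCommGroup N] [Module P N] [AddCommGroup F] [Module P F]
    [AddCommGroup M] [Module P M] [Module A M] [IsScalarTower A P M] [Module.Flat A M]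
    (i : N →ₗ[P] F) (f : F →ₗ[P] M) (hi : Function.Injective i) (hf : Function.Surjective f)
    (he : Function.Exact i f) : Function.Injective (i.baseChange (Loc A q)) := by
  let Pb := P ⧸ fibIdeal A q
  have h1 : Function.Injective (i.baseChange Pb) :=
    quot_lTensor_injective i f hi hf he (below A q).asIdeal
  haveI := flat_loc (A := A) q
  have h2 : Function.Injective ((i.baseChange Pb).lTensor (Loc A q)) :=
    Module.Flat.lTensor_preserves_injective_linearMap _ h1
  let cN := TensorProduct.AlgebraTensorModule.cancelBaseChange P Pb (Loc A q) (Loc A q) N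
  let cF := TensorProduct.AlgebraTensorModule.cancelBaseChange P Pb (Loc A q) (Loc A q) F
  have key : ∀ z, cF ((i.baseChange Pb).lTensor (Loc A q) z) = i.baseChange (Loc A q) (cN z) := fun z => by
    induction z using TensorProduct.induction_on with
    | zero => simp
    | add a b ha hb => simp only [map_add, ha, hb]
    | tmul r w =>
      induction w using TensorProduct.induction_on with
      | zero => simp
      | add a b ha hb => simp only [TensorProduct.tmul_add, map_add, ha, hb]
      | tmul s n => simp [cN, cF]
  intro x y hxy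
  obtain ⟨x, rfl⟩ := cN.surjective x
  obtain ⟨y, rfl⟩ := cN.surjective y
  rw [← key, ← key] at hxy
  exact congrArg cN (h2 (cF.injective hxy))

theorem flat_loc_of_flatAt (N : Type u) [AddCommGroup N] [Module P N] (h : FlatAt P N q.asIdeal) :
    Module.Flat (Loc A q) (Loc A q ⊗[P] N) := by
  let Pq := Localization.AtPrime q.asIdeal
  haveI : Module.Flat P (LocalizedModule q.asIdeal.primeCompl N) := (flatAt_iff_localizedModule _).mp h
  haveI : Module.Flat P (Pq ⊗[P] N) :=
    Module.Flat.of_linearEquiv ((LocalizedModule.equivTensorProduct q.asIdeal.primeCompl N).restrictScalars P).symm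
  haveI : Module.Flat Pq (Pq ⊗[P] N) := (Module.flat_iff_of_isLocalization Pq q.asIdeal.primeCompl _).mpr inferInstance
  exact Module.Flat.of_linearEquiv
    (TensorProduct.AlgebraTensorModule.cancelBaseChange P Pq (Loc A q) (Loc A q) N).symm

theorem killed_of_flat_loc (N : Type u) [AddCommGroup N] [Module P N]
    (h : Module.Flat (Loc A q) (Loc A q ⊗[P] N)) : FlatAtKilled P N (fibIdeal A q) q.asIdeal := by
  let Pb := P ⧸ fibIdeal A q
  let Pq := Localization.AtPrime q.asIdeal
  let L := LocalizedModule q.asIdeal.primeCompl N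
  haveI := flat_loc (A := A) q
  haveI : Module.Flat Pb (Loc A q ⊗[P] N) := Module.Flat.trans Pb (Loc A q) _
  let e0 := Algebra.TensorProduct.quotIdealMapEquivQuotTensor Pq (fibIdeal A q)
  let e : Pb ⊗[P] L ≃ₗ[Pb] Loc A q ⊗[P] N :=
    (TensorProduct.AlgebraTensorModule.congr (LinearEquiv.refl Pb Pb)
      ((LocalizedModule.equivTensorProduct q.asIdeal.primeCompl N).restrictScalars P)).trans
    ((TensorProduct.AlgebraTensorModule.assoc P P Pb Pb Pq N).symm.trans
      (TensorProduct.AlgebraTensorModule.congr e0.symm.toLinearEquiv (LinearEquiv.refl P N)))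
  have hL : Module.Flat Pb (Pb ⊗[P] L) := Module.Flat.of_linearEquiv e
  intro P' Q' _ _ _ _ g hg hP hQ x hx
  have hP' : Module.IsTorsionBySet P P' (fibIdeal A q) := fun y a => hP a a.2 y
  have hQ' : Module.IsTorsionBySet P Q' (fibIdeal A q) := fun y a => hQ a a.2 y
  letI := hP'.module
  letI := hQ'.module
  haveI : IsScalarTower P Pb P' := hP'.isScalarTower
  haveI : IsScalarTower P Pb Q' := hQ'.isScalarTower
  let g' : P' →ₗ[Pb] Q' := LinearMap.extendScalarsOfSurjective Ideal.Quotient.mk_surjective g
  have hinj := Flat.LocalCriterion.lTensor_restrictScalars_injective hL g' hg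
  obtain ⟨s, hs, hs0⟩ := Flat.Descent.exists_smul_eq_zero_of_injective q.asIdeal.primeCompl
    (LocalizedModule.mkLinearMap q.asIdeal.primeCompl N) g hinj hx
  exact ⟨s, hs, hs0⟩

end general

variable {A : Type u} [CommRing A] {σ : Type} [Finite σ]

local notation "P" => MvPolynomial σ A

theorem flatAt_iff (q : PrimeSpectrum P) (N : Type u) [AddCommGroup N] [Module P N] [Module A N]
    [IsScalarTower A P N] [Module.FinitePresentation P N] [Module.Flat A N] :
    FlatAt P N q.asIdeal ↔ Module.Flat (Loc A q) (Loc A q ⊗[P] N) := by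
  refine ⟨flat_loc_of_flatAt q N, fun h => ?_⟩
  exact flatAt_of_fibre (R := A) (B := P) (C := P) q.asIdeal (FlatAt.of_flat _ q.isPrime.ne_top)
    (killed_of_flat_loc q N h)

/-- The locus where the projective dimension of the fibre is at most `k` is open. -/
theorem isOpen_dep : ∀ (k : ℕ) (M : Type u) [AddCommGroup M] [Module P M] [Module A M]
    [IsScalarTower A P M] [Module.FinitePresentation P M] [Module.Flat A M],
    IsOpen {q : PrimeSpectrum P | ringKrullDim (Loc A q) ≤ ((dep (A := A) q M + k : ℕ∞) : WithBot ℕ∞)}
  | 0, M, _, _, _, _, _, _ => by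
    convert Flat.OpenLocus.isOpen_flatLocus (R := P) (S := P) (M := M) using 1
    ext q
    rw [Set.mem_setOf_eq, Set.mem_setOf_eq]
    obtain ⟨d, hd⟩ := RegularLocal.Basic.exists_natCast_eq_ringKrullDim (R := Loc A q)
    rw [flatAt_iff, Local.flat_iff hd, hd, Nat.cast_zero, add_zero, ← WithBot.coe_natCast,
      WithBot.coe_le_coe]
  | k + 1, M, _, _, _, _, _, _ => by
    obtain ⟨m, f, hf, hfp, hflat⟩ := Syzygy.exists_step (A := A) (σ := σ) M
    haveI := hfp
    haveI := hflat
    convert isOpen_dep k (LinearMap.ker f) using 1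
    ext q
    rw [Set.mem_setOf_eq, Set.mem_setOf_eq]
    obtain ⟨d, hd⟩ := RegularLocal.Basic.exists_natCast_eq_ringKrullDim (R := Loc A q)
    rw [hd, ← WithBot.coe_natCast, WithBot.coe_le_coe, WithBot.coe_le_coe]
    refine (Local.shift ((LinearMap.ker f).subtype.baseChange (Loc A q)) (f.baseChange (Loc A q))
      (loc_lTensor_injective q _ f (LinearMap.ker f).subtype_injective hf (LinearMap.exact_subtype_ker_map f))
      (LinearMap.lTensor_surjective _ hf) ?_ hd k).symm
    exact lTensor_exact (Loc A q) (LinearMap.exact_subtype_ker_map f) hf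

end Groth.Agent.FibreDepth.Affine
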