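import Mathlib
import Groth.Agent.FibreDepth.Local
import Groth.Agent.IdealDepth.Localization
import Groth.Agent.S6284

/-! Depth and dimension of modules under flat local homomorphisms of regular local rings. -/

set_option autoImplicit false
set_option backward.isDefEq.respectTransparency false
universe u
open IsLocalRing RingTheory.Sequence
open scoped TensorProduct

namespace Groth.Agent.FibreDepth.Invariance

section depth

variable {R R' : Type u} [CommRing R] [CommRing R'] [IsLocalRing R] [IsLocalRing R'] [IsNoetherianRing R]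
  [IsNoetherianRing R'] [Algebra R R'] [Module.FaithfullyFlat R R']

/-- Depth along an ideal is invariant under faithfully flat base change. -/
theorem idealDepth_baseChange_eq (I : Ideal R) (hI : I ≠ ⊤) : ∀ (n : ℕ) (M : Type u) [AddCommGroup M] [Module R M]
    [Module.Finite R M], LocCoh.idealDepth I M = n →
    LocCoh.idealDepth (I.map (algebraMap R R')) (R' ⊗[R] M) = n
  | 0, M, _, _, _, h => by
    obtain ⟨p, hp, hle⟩ := IdealDepth.eq_zero_iff.1 h
    by_contra hne
    obtain ⟨x, hx, hreg⟩ := IdealDepth.one_le_iff_exists.1 (Order.one_le_iff_pos.2 (pos_iff_ne_zero.2 hne))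
    obtain ⟨hpp, m, hm⟩ := isAssociatedPrime_iff.mp hp
    have hm0 : m ≠ 0 := fun h0 => hpp.ne_top (by
      rw [hm, h0, Ideal.eq_top_iff_one]
      exact Submodule.mem_colon_singleton.mpr (by simp))
    have hkill : ∀ y ∈ I.map (algebraMap R R'), y • ((1 : R') ⊗ₜ[R] m) = 0 := fun y hy => by
      induction hy using Submodule.span_induction with
      | mem y hy =>
        obtain ⟨a, ha, rfl⟩ := hy
        have : a • m = 0 := by
          have := hle ha
          rw [hm, Submodule.mem_colon_singleton, Submodule.mem_bot] at this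
          exact this
        rw [algebraMap_smul, ← TensorProduct.tmul_smul, this, TensorProduct.tmul_zero]
      | zero => simp
      | add a b _ _ ha hb => rw [add_smul, ha, hb, add_zero]
      | smul c b _ hb => rw [smul_eq_mul, mul_smul, hb, smul_zero]
    exact hm0 ((Module.FaithfullyFlat.one_tmul_eq_zero_iff R M m).mp (hreg.right_eq_zero_of_smul (hkill x hx)))
  | n + 1, M, _, _, _, h => by
    obtain ⟨x, hx, hreg⟩ := IdealDepth.one_le_iff_exists.1 (by rw [h]; simp : 1 ≤ LocCoh.idealDepth I M)
    have hd : LocCoh.idealDepth I (QuotSMulTop x M) = n := by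
      have h2 := IdealDepth.add_one_eq hx hreg
      rw [h, Nat.cast_succ] at h2
      exact ENat.add_left_injective_of_ne_top (by simp) h2
    have ih := idealDepth_baseChange_eq I hI n (QuotSMulTop x M) hd
    rw [IdealDepth.congr _ (QuotSMulTop.algebraMapTensorEquivTensorQuotSMulTop x M R').symm] at ih
    rw [← IdealDepth.add_one_eq (Ideal.mem_map_of_mem _ hx)
      (IsSMulRegular.of_flat_of_isBaseChange (TensorProduct.isBaseChange R M R') hreg), ih, Nat.cast_succ]

end depth

section regular

variable {R R' : Type u} [CommRing R] [CommRing R'] [IsRegularLocalRing R] [IsRegularLocalRing R'] [Algebra R R']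
  [Module.FaithfullyFlat R R']

theorem pd_iff {d d' : ℕ} (hd : ringKrullDim R = d) (hd' : ringKrullDim R' = d') :
    ∀ (k : ℕ) (N : Type u) [AddCommGroup N] [Module R N] [Module.Finite R N],
      (d : ℕ∞) ≤ LocCoh.depth R N + k ↔ (d' : ℕ∞) ≤ LocCoh.depth R' (R' ⊗[R] N) + k
  | 0, N, _, _, _ => by
    rw [Nat.cast_zero, add_zero, add_zero, ← Local.flat_iff hd, ← Local.flat_iff hd']
    refine ⟨fun h => inferInstance, fun h => ?_⟩
    exact Module.Flat.of_flat_tensorProduct R N R'
  | k + 1, N, _, _, _ => by
    obtain ⟨m, f, hf⟩ := Module.Finite.exists_fin' R N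
    haveI : Module.Finite R (LinearMap.ker f) := Module.Finite.iff_fg.2 (IsNoetherian.noetherian _)
    rw [← Local.shift (LinearMap.ker f).subtype f Subtype.val_injective hf (LinearMap.exact_subtype_ker_map f) hd k,
      ← Local.shift ((LinearMap.ker f).subtype.baseChange R') (f.baseChange R')
        (Module.Flat.lTensor_preserves_injective_linearMap _ Subtype.val_injective)
        (LinearMap.lTensor_surjective _ hf) (lTensor_exact R' (LinearMap.exact_subtype_ker_map f) hf) hd' k]
    exact pd_iff hd hd' k (LinearMap.ker f)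

theorem isCM_self {d : ℕ} (hd : ringKrullDim R = d) : LocCoh.IsCohenMacaulayModule R R := by
  have h : Module.supportDim R R ≤ ((LocCoh.depth R R : ℕ∞) : WithBot ℕ∞) := by
    rw [Module.supportDim_self_eq_ringKrullDim, hd]
    exact WithBot.coe_le_coe.mpr (Local.le_depth_of_flat hd)
  exact le_antisymm h IdealDepth.depth_le_supportDim

/-- The defects of depth and of dimension are invariant. -/
theorem defects {d d' : ℕ} (hd : ringKrullDim R = d) (hd' : ringKrullDim R' = d') (N : Type u) [AddCommGroup N]
    [Module R N] [Module.Finite R N] [Nontrivial N] :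
    ∃ t t' s s' : ℕ, LocCoh.depth R N = t ∧ LocCoh.depth R' (R' ⊗[R] N) = t' ∧
      Module.supportDim R N = (s : ℕ) ∧ Module.supportDim R' (R' ⊗[R] N) = (s' : ℕ) ∧
      d + t' = d' + t ∧ d + s' = d' + s ∧ t ≤ d := by
  haveI : Nontrivial (R' ⊗[R] N) := Module.FaithfullyFlat.lTensor_nontrivial R R' N
  have bound : ∀ (S : Type u) [CommRing S] [IsRegularLocalRing S] (e : ℕ), ringKrullDim S = e →
      ∀ (E : Type u) [AddCommGroup E] [Module S E] [Module.Finite S E] [Nontrivial E],
        ∃ t : ℕ, LocCoh.depth S E = t ∧ t ≤ e := fun S _ _ e he E _ _ _ _ => by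
    have h : ((LocCoh.depth S E : ℕ∞) : WithBot ℕ∞) ≤ ((e : ℕ∞) : WithBot ℕ∞) :=
      (IdealDepth.depth_le_supportDim.trans (Module.supportDim_le_ringKrullDim S E)).trans_eq he
    rw [WithBot.coe_le_coe] at h
    obtain ⟨t, ht⟩ := ENat.ne_top_iff_exists.mp (fun ht => ENat.natCast_ne_top e (top_le_iff.mp (ht ▸ h)) :
      LocCoh.depth S E ≠ ⊤)
    exact ⟨t, ht.symm, by rw [← ht] at h; exact_mod_cast h⟩
  obtain ⟨t, ht, htd⟩ := bound R d hd N
  obtain ⟨t', ht', htd'⟩ := bound R' d' hd' (R' ⊗[R] N)
  have hpd : ∀ k, d ≤ t + k ↔ d' ≤ t' + k := fun k => by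
    have := pd_iff hd hd' k N
    rw [ht, ht'] at this
    exact_mod_cast this
  have he1 := (hpd (d - t)).mp (by omega)
  have he2 := (hpd (d' - t')).mpr (by omega)
  let I := Module.annihilator R N
  have hI : I ≠ ⊤ := fun h => by
    obtain ⟨v, hv⟩ := exists_ne (0 : N)
    have h1 : (1 : R) ∈ I := h.ge Submodule.mem_top
    exact hv (by rw [← one_smul R v]; exact Module.mem_annihilator.mp h1 v)
  have hI' : I.map (algebraMap R R') ≠ ⊤ := fun h =>
    hI (by rw [← Ideal.comap_map_eq_self_of_faithfullyFlat (B := R') I, h, Ideal.comap_top])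
  obtain ⟨g, hg⟩ := ENat.ne_top_iff_exists.mp (IdealDepth.idealDepth_ne_top (M := R) hI)
  have hg' : LocCoh.idealDepth (I.map (algebraMap R R')) R' = g := by
    rw [← IdealDepth.congr _ (TensorProduct.AlgebraTensorModule.rid R R' R')]
    exact idealDepth_baseChange_eq I hI g R hg.symm
  have hS : Module.supportDim R (R ⧸ I) = Module.supportDim R N := by
    rw [Module.supportDim_quotient_eq_ringKrullDim, Module.supportDim_eq_ringKrullDim_quotient_annihilator]
  have hS' : Module.supportDim R' (R' ⧸ I.map (algebraMap R R')) = Module.supportDim R' (R' ⊗[R] N) := by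
    have hset : Module.support R' (R' ⧸ I.map (algebraMap R R')) = Module.support R' (R' ⊗[R] N) := by
      rw [Groth.Agent.S6284.result, Module.support_eq_zeroLocus (R := R) (M := N),
        PrimeSpectrum.preimage_comap_zeroLocus, Module.support_eq_zeroLocus, Ideal.annihilator_quotient]
      exact PrimeSpectrum.zeroLocus_span _
    rw [Module.supportDim, Module.supportDim, hset]
  have key : ∀ (S : Type u) [CommRing S] [IsRegularLocalRing S] (e : ℕ) (J : Ideal S), ringKrullDim S = e → J ≠ ⊤ →
      LocCoh.idealDepth J S = g → Module.supportDim S (S ⧸ J) + ((g : ℕ∞) : WithBot ℕ∞) = (e : ℕ) := fun S _ _ e J he hJ hJg => by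
    have h := IdealDepth.supportDim_eq_add (M := S) J hJ (isCM_self he)
    rw [Module.supportDim_self_eq_ringKrullDim, he, hJg, smul_eq_mul, Ideal.mul_top] at h
    exact h.symm
  have h1 := key R d I hd hI hg.symm
  have h2 := key R' d' _ hd' hI' hg'
  rw [hS] at h1
  rw [hS'] at h2
  have hnat : ∀ (w : WithBot ℕ∞) (e : ℕ), w + ((g : ℕ∞) : WithBot ℕ∞) = (e : ℕ) → ∃ s : ℕ, w = (s : ℕ) ∧ s + g = e := by
    intro w e h
    induction w using WithBot.recBotCoe with
    | bot => simp at h
    | coe w =>
      rw [show ((e : ℕ) : WithBot ℕ∞) = ((e : ℕ∞) : WithBot ℕ∞) from rfl, ← WithBot.coe_add, WithBot.coe_inj] at h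
      induction w using ENat.recTopCoe with
      | top => simp at h
      | coe w => exact ⟨w, rfl, by exact_mod_cast h⟩
  obtain ⟨s, hs, hse⟩ := hnat _ _ h1
  obtain ⟨s', hs', hse'⟩ := hnat _ _ h2
  exact ⟨t, t', s, s', ht, ht', hs, hs', by omega, by omega, htd⟩

end regular

end Groth.Agent.FibreDepth.Invariance
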