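import Mathlib
import Groth.Agent.FibreDepth.Ring
import Groth.Agent.Equidim.Core
import Groth.Agent.IdealDepth.CM

/-! Dimension of the support in the fibres: formula and semicontinuity. -/

set_option autoImplicit false
set_option backward.isDefEq.respectTransparency false
noncomputable section
universe u
open scoped TensorProduct

namespace Groth.Agent.FibreDepth.Support
open Ring Equidim.Core

variable {A P : Type u} [CommRing A] [CommRing P] [Algebra A P]

/-- The dimension of the closure of a point in its fibre. -/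
def cl (q : PrimeSpectrum P) : WithBot ℕ∞ :=
  Order.krullDim {Q : PrimeSpectrum P // q ≤ Q ∧ below A Q = below A q}

theorem below_pr (p : PrimeSpectrum A) (η : PrimeSpectrum (p.asIdeal.Fiber P)) : below A (pr p η) = p :=
  PrimeSpectrum.ext (pr_under p η)

theorem pr_inj (p : PrimeSpectrum A) : Function.Injective (pr (D := P) p) := fun _ _ h =>
  le_antisymm (pr_le_iff.mp h.le) (pr_le_iff.mp h.ge)

theorem coheight_eq_cl (p : PrimeSpectrum A) (M : PrimeSpectrum (p.asIdeal.Fiber P)) :
    ((Order.coheight M : ℕ∞) : WithBot ℕ∞) = cl (A := A) (pr p M) := by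
  rw [Order.coheight_eq_krullDim_Ici, cl]
  refine le_antisymm ?_ ?_
  · exact Order.krullDim_le_of_strictMono
      (fun η : Set.Ici M => (⟨pr p η.1, pr_le_iff.mpr η.2, by rw [below_pr, below_pr]⟩ :
        {Q : PrimeSpectrum P // pr p M ≤ Q ∧ below A Q = below A (pr p M)}))
      fun a b h => Subtype.mk_lt_mk.mpr (pr_strictMono p h)
  · have hex : ∀ Q : {Q : PrimeSpectrum P // pr p M ≤ Q ∧ below A Q = below A (pr p M)},
        ∃ η : Set.Ici M, pr p η.1 = Q.1 := fun Q => by
      obtain ⟨η, hη⟩ := exists_pr p Q.1 ((congrArg PrimeSpectrum.asIdeal Q.2.2).trans (pr_under p M))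
      exact ⟨⟨η, pr_le_iff.mp (hη ▸ Q.2.1)⟩, hη⟩
    choose g hg using hex
    refine Order.krullDim_le_of_strictMono g fun a b h => ?_
    refine lt_of_le_not_ge (pr_le_iff.mp (by rw [hg, hg]; exact h.le)) fun h' => h.not_ge ?_
    have := (pr_le_iff (p := p)).mpr h'
    rwa [hg, hg] at this

theorem nontrivial_tensor (K K' : Type u) [Field K] [Field K'] [Algebra K K'] (N : Type u) [AddCommGroup N]
    [Module K N] (h : Nontrivial N) : Nontrivial (K' ⊗[K] N) :=
  Module.FaithfullyFlat.lTensor_nontrivial K K' N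

theorem mem_support_loc (q : PrimeSpectrum P) {M : Type u} [AddCommGroup M] [Module P M] [Module.Finite P M]
    (P' : PrimeSpectrum (Loc A q)) :
    P' ∈ Module.support (Loc A q) (Loc A q ⊗[P] M) ↔
      Module.annihilator P M ≤ P'.asIdeal.comap (algebraMap P (Loc A q)) := by
  let p' : PrimeSpectrum P := PrimeSpectrum.comap (algebraMap P (Loc A q)) P'
  rw [Module.mem_support_iff_nontrivial_residueField_tensorProduct,
    (TensorProduct.AlgebraTensorModule.cancelBaseChange P (Loc A q) P'.asIdeal.ResidueField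
      P'.asIdeal.ResidueField M).nontrivial_congr]
  letI : Algebra p'.asIdeal.ResidueField P'.asIdeal.ResidueField :=
    (Ideal.ResidueField.map p'.asIdeal P'.asIdeal (algebraMap P (Loc A q)) rfl).toAlgebra
  haveI : IsScalarTower P p'.asIdeal.ResidueField P'.asIdeal.ResidueField :=
    IsScalarTower.of_algebraMap_eq fun a =>
      ((Ideal.ResidueField.map_algebraMap _ _ _ _ _).trans
        (IsScalarTower.algebraMap_apply P (Loc A q) P'.asIdeal.ResidueField a).symm).symm
  rw [← (TensorProduct.AlgebraTensorModule.cancelBaseChange P p'.asIdeal.ResidueField P'.asIdeal.ResidueField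
      P'.asIdeal.ResidueField M).nontrivial_congr,
    show (Module.annihilator P M ≤ P'.asIdeal.comap (algebraMap P (Loc A q))) ↔ p' ∈ Module.support P M by
      rw [Module.support_eq_zeroLocus]; rfl,
    Module.mem_support_iff_nontrivial_residueField_tensorProduct]
  constructor
  · intro h
    by_contra hn
    rw [not_nontrivial_iff_subsingleton] at hn
    exact not_subsingleton _ (subsingleton_of_forall_eq
      (0 : P'.asIdeal.ResidueField ⊗[p'.asIdeal.ResidueField] (p'.asIdeal.ResidueField ⊗[P] M)) fun z => by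
        induction z using TensorProduct.induction_on with
        | zero => rfl
        | tmul a b => rw [Subsingleton.elim b 0, TensorProduct.tmul_zero]
        | add a b ha hb => rw [ha, hb, add_zero])
  · intro h
    exact nontrivial_tensor p'.asIdeal.ResidueField P'.asIdeal.ResidueField (p'.asIdeal.ResidueField ⊗[P] M) h

/-- points of the local ring of the fibre -/
def toP (q : PrimeSpectrum P) : PrimeSpectrum (Loc A q) ↪o PrimeSpectrum P :=
  OrderEmbedding.ofMapLEIff (PrimeSpectrum.comap (algebraMap P (Loc A q))) fun a b => by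
    refine ⟨fun h => ?_, fun h => Ideal.comap_mono h⟩
    refine (Ideal.comap_le_comap_iff_of_surjective (Ideal.Quotient.mk _) Ideal.Quotient.mk_surjective _ _).mp ?_
    rw [← IsLocalization.map_under q.asIdeal.primeCompl (Localization.AtPrime q.asIdeal) (Ideal.comap _ a.asIdeal),
      ← IsLocalization.map_under q.asIdeal.primeCompl (Localization.AtPrime q.asIdeal) (Ideal.comap _ b.asIdeal)]
    exact Ideal.map_mono h

theorem range_toP (q : PrimeSpectrum P) (Q : PrimeSpectrum P) :
    Q ∈ Set.range (toP (A := A) q) ↔ Q ≤ q ∧ below A Q = below A q := by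
  constructor
  · rintro ⟨a, rfl⟩
    have h1 : toP (A := A) q a ≤ q := fun x hx => by
      by_contra hxq
      exact a.2.ne_top (Ideal.eq_top_of_isUnit_mem _ hx
        ((IsLocalization.map_units (Localization.AtPrime q.asIdeal) (⟨x, hxq⟩ : q.asIdeal.primeCompl)).map
          (Ideal.Quotient.mk _)))
    refine ⟨h1, le_antisymm (Ideal.comap_mono h1) fun x hx => ?_⟩
    show algebraMap P (Loc A q) (algebraMap A P x) ∈ a.asIdeal
    rw [show algebraMap P (Loc A q) (algebraMap A P x) = 0 from
      Ideal.Quotient.eq_zero_iff_mem.mpr (Ideal.mem_map_of_mem _ (Ideal.mem_map_of_mem _ hx))]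
    exact zero_mem _
  · rintro ⟨hle, hQ⟩
    let Pq := Localization.AtPrime q.asIdeal
    obtain ⟨b, hb⟩ : Q ∈ Set.range (PrimeSpectrum.comap (algebraMap P Pq)) := by
      rw [PrimeSpectrum.localization_comap_range Pq q.asIdeal.primeCompl]
      exact Set.disjoint_left.mpr fun x hx hxQ => hx (hle hxQ)
    obtain ⟨a, ha⟩ : b ∈ Set.range (PrimeSpectrum.comap
        (Ideal.Quotient.mk ((fibIdeal A q).map (algebraMap P Pq)))) := by
      rw [range_comap_of_surjective _ _ Ideal.Quotient.mk_surjective, Ideal.mk_ker]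
      refine Ideal.map_le_iff_le_comap.mpr ?_
      rw [show b.asIdeal.comap (algebraMap P Pq) = Q.asIdeal from congrArg PrimeSpectrum.asIdeal hb]
      exact Ideal.map_le_iff_le_comap.mpr (congrArg PrimeSpectrum.asIdeal hQ).ge
    exact ⟨a, by rw [← hb, ← ha]; rfl⟩

variable (J : Ideal P)

/-- points of the closed subscheme of the fibre -/
def ofC (p : PrimeSpectrum A) : PrimeSpectrum (p.asIdeal.Fiber (P ⧸ J)) ↪o PrimeSpectrum P :=
  OrderEmbedding.ofMapLEIff (fun η => PrimeSpectrum.comap (Ideal.Quotient.mk J) (pr p η)) fun a b =>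
    (Ideal.comap_le_comap_iff_of_surjective _ Ideal.Quotient.mk_surjective _ _).trans pr_le_iff

theorem range_ofC (p : PrimeSpectrum A) (Q : PrimeSpectrum P) :
    Q ∈ Set.range (ofC J p) ↔ J ≤ Q.asIdeal ∧ below A Q = p := by
  constructor
  · rintro ⟨η, rfl⟩
    refine ⟨fun x hx => ?_, ?_⟩
    · show Ideal.Quotient.mk J x ∈ (pr p η).asIdeal
      rw [Ideal.Quotient.eq_zero_iff_mem.mpr hx]; exact zero_mem _
    · exact (PrimeSpectrum.ext rfl : below A (ofC J p η) = below A (pr p η)).trans (below_pr p η)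
  · rintro ⟨hJ, hQ⟩
    obtain ⟨Q', rfl⟩ : Q ∈ Set.range (PrimeSpectrum.comap (Ideal.Quotient.mk J)) := by
      rw [range_comap_of_surjective _ _ Ideal.Quotient.mk_surjective, Ideal.mk_ker]; exact hJ
    obtain ⟨η, hη⟩ := exists_pr p Q' (by rw [← hQ]; rfl)
    exact ⟨η, by rw [← hη]; rfl⟩

/-- The dimension of the support in the local ring of the fibre. -/
theorem supportDim_eq (q : PrimeSpectrum P) (M : Type u) [AddCommGroup M] [Module P M] [Module.Finite P M]
    (η : PrimeSpectrum ((below A q).asIdeal.Fiber (P ⧸ Module.annihilator P M)))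
    (hη : ofC (Module.annihilator P M) (below A q) η = q) :
    Module.supportDim (Loc A q) (Loc A q ⊗[P] M) = ((Order.height η : ℕ∞) : WithBot ℕ∞) := by
  let J := Module.annihilator P M
  rw [Order.height_eq_krullDim_Iic, Module.supportDim]
  let f : ↥(Module.support (Loc A q) (Loc A q ⊗[P] M)) ↪o PrimeSpectrum P := (OrderEmbedding.subtype (· ∈ Module.support (Loc A q) (Loc A q ⊗[P] M))).trans (toP (A := A) q)
  let g : ↥(Set.Iic η) ↪o PrimeSpectrum P := (OrderEmbedding.subtype (· ∈ Set.Iic η)).trans (ofC J (below A q))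
  have hfg : Set.range f = Set.range g := by
    ext Q
    constructor
    · rintro ⟨⟨a, ha⟩, rfl⟩
      obtain ⟨h1, h2⟩ := (range_toP q _).mp ⟨a, rfl⟩
      obtain ⟨ζ, hζ⟩ := (range_ofC J (below A q) (toP (A := A) q a)).mpr ⟨(mem_support_loc q a).mp ha, h2⟩
      exact ⟨⟨ζ, (ofC J (below A q)).le_iff_le.mp (by rw [hη, hζ]; exact h1)⟩, hζ⟩
    · rintro ⟨⟨ζ, hζ⟩, rfl⟩
      obtain ⟨h1, h2⟩ := (range_ofC J (below A q) _).mp ⟨ζ, rfl⟩
      obtain ⟨a, ha⟩ := (range_toP q (ofC J (below A q) ζ)).mpr
        ⟨((ofC J (below A q)).monotone hζ).trans_eq hη, h2⟩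
      exact ⟨⟨a, (mem_support_loc q a).mpr (by
        rw [show a.asIdeal.comap (algebraMap P (Loc A q)) = _ from congrArg PrimeSpectrum.asIdeal ha]
        exact h1)⟩, ha⟩
  exact Order.krullDim_eq_of_orderIso (f.orderIso.trans ((OrderIso.setCongr _ _ hfg).trans g.orderIso.symm))

theorem length_add_coheight_le {α : Type*} [Preorder α] : ∀ (n : ℕ) (l : LTSeries α), l.length = n →
    (n : ℕ∞) + Order.coheight l.last ≤ Order.coheight l.head
  | 0, l, h => by
    rw [Nat.cast_zero, zero_add]
    exact le_of_eq (congrArg Order.coheight (congrArg l.toFun (Fin.ext (show l.length = 0 from h))))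
  | n + 1, l, h => by
    have hpos : 0 < l.length := by omega
    have h1 := length_add_coheight_le n (l.tail (by omega)) (by simp [h])
    rw [RelSeries.last_tail, RelSeries.head_tail] at h1
    have h2 : Order.coheight (l 1) + 1 ≤ Order.coheight l.head :=
      Order.coheight_add_one_le (l.strictMono (show (0 : Fin (l.length + 1)) < 1 by
        rw [Fin.lt_def]; simp [Fin.val_one', Nat.mod_eq_of_lt (show 1 < l.length + 1 by omega)]))
    refine le_trans ?_ h2
    push_cast
    rw [add_right_comm]
    exact add_le_add h1 le_rfl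

theorem height_add_coheight_le_iff {C : Type u} [CommRing C] [Algebra A C] [Algebra.FiniteType A C]
    (p : PrimeSpectrum A) (M : PrimeSpectrum (p.asIdeal.Fiber C)) (c : ℕ∞) :
    Order.height M + Order.coheight M ≤ c ↔ ∀ η ≤ M, Order.coheight η ≤ c := by
  constructor
  · intro h η hη
    refine le_trans ?_ h
    have h1 := dim_le_height_add_quot p.asIdeal.ResidueField (p.asIdeal.Fiber C) η.asIdeal M.asIdeal hη
    rw [← IdealDepth.coheight_eq_ringKrullDim_quotient η, ← IdealDepth.coheight_eq_ringKrullDim_quotient M,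
      ← WithBot.coe_add, WithBot.coe_le_coe,
      show M.asIdeal.height = Order.height M from PrimeSpectrum.height_eq_orderHeight M] at h1
    exact h1
  · intro h
    by_cases hfin : Order.height M = ⊤
    · exfalso
      rw [← PrimeSpectrum.height_eq_orderHeight M] at hfin
      haveI : IsNoetherianRing (p.asIdeal.Fiber C) := Algebra.FiniteType.isNoetherianRing p.asIdeal.ResidueField _
      exact M.asIdeal.height_ne_top_of_isPrime hfin
    · obtain ⟨n, hn⟩ := ENat.ne_top_iff_exists.mp hfin
      obtain ⟨l, hl, hlen⟩ := Order.exists_series_of_height_eq_coe M hn.symm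
      have h2 := length_add_coheight_le l.length l rfl
      rw [hl, hlen] at h2
      rw [← hn]
      exact h2.trans (h l.head (hl ▸ l.head_le_last))

/-- Semicontinuity of the dimension of the fibres, algebraically. -/
theorem isOpen_coheight_le {C : Type u} [CommRing C] [Algebra A C] [Algebra.FiniteType A C] (c : ℕ∞) :
    IsOpen {Q : PrimeSpectrum C | ∀ η : PrimeSpectrum ((below A Q).asIdeal.Fiber C),
      pr (below A Q) η ≤ Q → Order.coheight η ≤ c} := by
  refine isOpen_iff_forall_mem_open.mpr fun Q hQ => ?_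
  let p := below A Q
  let F := p.asIdeal.Fiber C
  haveI : IsNoetherianRing F := Algebra.FiniteType.isNoetherianRing p.asIdeal.ResidueField _
  haveI : IsJacobsonRing F := isJacobsonRing_of_finiteType (A := p.asIdeal.ResidueField)
  obtain ⟨M₀, hM₀⟩ := exists_pr p Q rfl
  let bad : Set (PrimeSpectrum F) := {m | m.asIdeal ∈ minimalPrimes F ∧ ¬ m ≤ M₀}
  have hfin : bad.Finite := ((minimalPrimes.finite_of_isNoetherianRing _).preimage
    (fun a _ b _ h => PrimeSpectrum.ext h)).subset fun m hm => hm.1
  let Ω : Set (PrimeSpectrum F) := (⋃ m ∈ bad, PrimeSpectrum.zeroLocus (m.asIdeal : Set F))ᶜ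
  have hΩ : IsOpen Ω := (hfin.isClosed_biUnion fun _ _ => PrimeSpectrum.isClosed_zeroLocus _).isOpen_compl
  have hM₀Ω : M₀ ∈ Ω := fun h => by
    obtain ⟨m, hm, hmM⟩ := Set.mem_iUnion₂.mp h
    exact hm.2 hmM
  obtain ⟨M, hM, hM₀M, hMΩ⟩ := exists_maximal M₀ Ω hΩ hM₀Ω
  have hle : M.asIdeal.height ≤ c := by
    rw [PrimeSpectrum.height_eq_orderHeight M]
    refine le_trans le_self_add (((height_add_coheight_le_iff p M c)).mpr fun η hη => ?_)
    obtain ⟨m, hm, hmη⟩ := Ideal.exists_minimalPrimes_le (bot_le (a := η.asIdeal))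
    let m' : PrimeSpectrum F := ⟨m, hm.1.1⟩
    have hm' : m' ≤ M₀ := by
      by_contra hn
      exact hMΩ (Set.mem_iUnion₂.mpr ⟨m', ⟨hm, hn⟩, (hmη.trans hη : m ≤ M.asIdeal)⟩)
    refine (Order.coheight_anti (show m' ≤ η from hmη)).trans (hQ m' ?_)
    exact (pr_le_iff.mpr hm').trans_eq hM₀
  obtain ⟨d, hd⟩ := ENat.ne_top_iff_exists.mp (M.asIdeal.height_ne_top_of_isPrime)
  obtain ⟨r, hr, H⟩ := exists_nbhd p M hM d hd.symm
  refine ⟨PrimeSpectrum.basicOpen r, fun Q' hQ' η hη => ?_, (PrimeSpectrum.basicOpen r).isOpen, fun h => hr ?_⟩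
  · have h1 := H (below A Q') η fun h => hQ' (hη h)
    rw [← IdealDepth.coheight_eq_ringKrullDim_quotient η, ← WithBot.coe_natCast, WithBot.coe_le_coe] at h1
    exact h1.trans (hd.symm ▸ hle)
  · exact pr_le_iff.mpr hM₀M (hM₀ ▸ h)

end Groth.Agent.FibreDepth.Support
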