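import Mathlib
import Groth.Agent.FibreDepth.Affine
import Groth.Agent.FibreDepth.Support

/-! Openness of depth conditions on the fibres of a module over affine space. -/

set_option autoImplicit false
set_option backward.isDefEq.respectTransparency false
noncomputable section
universe u
open scoped TensorProduct

namespace Groth.Agent.FibreDepth.Locus
open Ring Affine Support Equidim.Core

variable {A : Type u} [CommRing A]

theorem cl_comap_eq {P B : Type u} [CommRing P] [CommRing B] [Algebra A P] [Algebra A B] (π : P →ₐ[A] B)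
    (hπ : Function.Surjective π) (Q : PrimeSpectrum B) :
    cl (A := A) Q = cl (A := A) (PrimeSpectrum.comap π.toRingHom Q) := by
  let π' := PrimeSpectrum.comap π.toRingHom
  have hb : ∀ R, below A (π' R) = below A R := fun R => PrimeSpectrum.ext (by
    show (R.asIdeal.comap π.toRingHom).comap (algebraMap A P) = R.asIdeal.comap (algebraMap A B)
    rw [Ideal.comap_comap, show π.toRingHom.comp (algebraMap A P) = algebraMap A B from π.comp_algebraMap])
  have hπle : ∀ a b, π' a ≤ π' b ↔ a ≤ b := fun a b => Ideal.comap_le_comap_iff_of_surjective π.toRingHom hπ _ _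
  let g : {R : PrimeSpectrum B // Q ≤ R ∧ below A R = below A Q} →
      {R : PrimeSpectrum P // π' Q ≤ R ∧ below A R = below A (π' Q)} :=
    fun R => ⟨π' R.1, (hπle _ _).mpr R.2.1, by rw [hb, hb]; exact R.2.2⟩
  have hg : Function.Surjective g := fun R => by
    obtain ⟨R', hR'⟩ : R.1 ∈ Set.range π' := by
      rw [range_comap_of_surjective _ _ hπ]
      exact (Ideal.ker_le_comap _).trans R.2.1
    exact ⟨⟨R', (hπle _ _).mp (hR' ▸ R.2.1), by rw [← hb, ← hb, hR']; exact R.2.2⟩, Subtype.ext hR'⟩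
  exact Order.krullDim_eq_of_orderIso (OrderIso.ofSurjective
    (OrderEmbedding.ofMapLEIff g fun a b => hπle a.1 b.1) hg)

variable {σ : Type} [Finite σ]

theorem cn (d : ℕ) : (d : WithBot ℕ∞) = ((d : ℕ∞) : WithBot ℕ∞) := rfl

theorem exists_nat_dims (q : PrimeSpectrum (MvPolynomial σ A)) : ∃ d e : ℕ, ringKrullDim (Loc A q) = (d : ℕ) ∧
    cl (A := A) q = ((e : ℕ∞) : WithBot ℕ∞) ∧ d + e = Nat.card σ := by
  obtain ⟨d, hd⟩ := RegularLocal.Basic.exists_natCast_eq_ringKrullDim (R := Loc A q)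
  obtain ⟨M, hM⟩ := exists_fibre_point A q
  have h := dim_add_eq A q M hM
  rw [← IdealDepth.coheight_eq_ringKrullDim_quotient M, hd, cn d, cn (Nat.card σ),
    ← WithBot.coe_add, WithBot.coe_inj] at h
  obtain ⟨e, he⟩ := ENat.ne_top_iff_exists.mp (show Order.coheight M ≠ ⊤ from fun ht => by
    rw [ht, add_top] at h
    exact ENat.natCast_ne_top _ h.symm)
  refine ⟨d, e, hd, ?_, ?_⟩
  · rw [he, coheight_eq_cl, hM]
  · rw [← he] at h
    exact_mod_cast h

variable (M : Type u) [AddCommGroup M] [Module (MvPolynomial σ A) M]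

theorem subsingleton_iff [Module.Finite (MvPolynomial σ A) M] (q : PrimeSpectrum (MvPolynomial σ A)) :
    Subsingleton (Loc A q ⊗[(MvPolynomial σ A)] M) ↔ ¬ Module.annihilator (MvPolynomial σ A) M ≤ q.asIdeal := by
  rw [← not_nontrivial_iff_subsingleton, not_iff_not, ← Module.nonempty_support_iff (R := Loc A q)]
  constructor
  · rintro ⟨a, ha⟩
    exact ((mem_support_loc q a).mp ha).trans ((range_toP q _).mp ⟨a, rfl⟩).1
  · intro h
    obtain ⟨a, ha⟩ := (range_toP (A := A) q q).mpr ⟨le_rfl, rfl⟩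
    refine ⟨a, (mem_support_loc q a).mpr ?_⟩
    exact h.trans (congrArg PrimeSpectrum.asIdeal ha).ge

theorem isOpen_subsingleton [Module.Finite (MvPolynomial σ A) M] :
    IsOpen {q : PrimeSpectrum (MvPolynomial σ A) | Subsingleton (Loc A q ⊗[(MvPolynomial σ A)] M)} := by
  have : {q : PrimeSpectrum (MvPolynomial σ A) | Subsingleton (Loc A q ⊗[(MvPolynomial σ A)] M)} =
      (PrimeSpectrum.zeroLocus (Module.annihilator (MvPolynomial σ A) M : Set (MvPolynomial σ A)))ᶜ := by
    ext q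
    exact subsingleton_iff M q
  rw [this]
  exact (PrimeSpectrum.isClosed_zeroLocus _).isOpen_compl

theorem dep_eq_top (q : PrimeSpectrum (MvPolynomial σ A)) (h : Subsingleton (Loc A q ⊗[(MvPolynomial σ A)] M)) : dep (A := A) q M = ⊤ := by
  show LocCoh.idealDepth _ _ = ⊤
  classical
  unfold LocCoh.idealDepth
  rw [if_pos (Subsingleton.elim _ _)]

theorem dep_le_supportDim [Module.Finite (MvPolynomial σ A) M] (q : PrimeSpectrum (MvPolynomial σ A)) (h : ¬ Subsingleton (Loc A q ⊗[(MvPolynomial σ A)] M)) :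
    ((dep (A := A) q M : ℕ∞) : WithBot ℕ∞) ≤ Module.supportDim (Loc A q) (Loc A q ⊗[(MvPolynomial σ A)] M) := by
  haveI := not_subsingleton_iff_nontrivial.mp h
  exact IdealDepth.depth_le_supportDim

variable [Module A M] [IsScalarTower A (MvPolynomial σ A) M] [Module.FinitePresentation (MvPolynomial σ A) M] [Module.Flat A M]

/-- Lower semicontinuity of the rectified depth. -/
theorem isOpen_rdepth (n : ℕ) : IsOpen {q : PrimeSpectrum (MvPolynomial σ A) |
    (n : WithBot ℕ∞) ≤ ((dep (A := A) q M : ℕ∞) : WithBot ℕ∞) + cl (A := A) q} := by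
  by_cases hn : n ≤ Nat.card σ
  · refine (congrArg IsOpen (Set.ext fun q => ?_)).mpr (isOpen_dep (Nat.card σ - n) M)
    rw [Set.mem_setOf_eq, Set.mem_setOf_eq]
    obtain ⟨d, e, hd, he, hde⟩ := exists_nat_dims q
    rw [hd, he, ← WithBot.coe_add, cn n, cn d, WithBot.coe_le_coe,
      WithBot.coe_le_coe]
    generalize dep (A := A) q M = t
    induction t using ENat.recTopCoe with
    | top => simp
    | coe t => norm_cast; omega
  · refine (congrArg IsOpen (Set.ext fun q => ?_)).mpr (isOpen_subsingleton (A := A) M)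
    rw [Set.mem_setOf_eq, Set.mem_setOf_eq]
    obtain ⟨d, e, hd, he, hde⟩ := exists_nat_dims q
    constructor
    · intro h
      by_contra hs
      have h1 := (dep_le_supportDim M q hs).trans (Module.supportDim_le_ringKrullDim _ _)
      rw [hd, cn, WithBot.coe_le_coe] at h1
      rw [he, ← WithBot.coe_add, cn, WithBot.coe_le_coe] at h
      generalize dep (A := A) q M = t at h h1
      induction t using ENat.recTopCoe with
      | top => simp at h1
      | coe t => norm_cast at h h1; omega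
    · intro hs
      rw [he, dep_eq_top M q hs, ← WithBot.coe_add, top_add, cn, WithBot.coe_le_coe]
      exact le_top

/-- Upper semicontinuity of the codepth. -/
theorem isOpen_codepth (k : ℕ) : IsOpen {q : PrimeSpectrum (MvPolynomial σ A) |
    Module.supportDim (Loc A q) (Loc A q ⊗[(MvPolynomial σ A)] M) ≤ ((dep (A := A) q M : ℕ∞) : WithBot ℕ∞) + k} := by
  let J := Module.annihilator (MvPolynomial σ A) M
  let C := (MvPolynomial σ A) ⧸ J
  let π : (MvPolynomial σ A) →ₐ[A] C := Ideal.Quotient.mkₐ A J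
  have hπ : Function.Surjective π := Ideal.Quotient.mk_surjective
  have key : ∀ q : PrimeSpectrum (MvPolynomial σ A), J ≤ q.asIdeal → ∃ (Q : PrimeSpectrum C)
      (η : PrimeSpectrum ((below A q).asIdeal.Fiber C)), PrimeSpectrum.comap π.toRingHom Q = q ∧
      pr (below A q) η = Q ∧
      Module.supportDim (Loc A q) (Loc A q ⊗[(MvPolynomial σ A)] M) = ((Order.height η : ℕ∞) : WithBot ℕ∞) ∧
      cl (A := A) q = ((Order.coheight η : ℕ∞) : WithBot ℕ∞) := fun q hq => by
    obtain ⟨η, hη⟩ := (range_ofC J (below A q) q).mpr ⟨hq, rfl⟩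
    refine ⟨pr (below A q) η, η, hη, rfl, supportDim_eq q M η hη, ?_⟩
    rw [coheight_eq_cl, cl_comap_eq π hπ]
    exact congrArg _ hη.symm
  refine isOpen_iff_forall_mem_open.mpr fun q₀ hq₀ => ?_
  by_cases hs₀ : Subsingleton (Loc A q₀ ⊗[(MvPolynomial σ A)] M)
  · refine ⟨_, fun q (hq : Subsingleton (Loc A q ⊗[(MvPolynomial σ A)] M)) => ?_, isOpen_subsingleton M, hs₀⟩
    rw [Set.mem_setOf_eq]
    haveI := hq
    rw [Module.supportDim_eq_bot_of_subsingleton]
    exact bot_le
  have hJ₀ : J ≤ q₀.asIdeal := not_not.mp fun h => hs₀ ((subsingleton_iff M q₀).mpr h)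
  obtain ⟨Q₀, η₀, hQ₀, hη₀, hsd₀, hcl₀⟩ := key q₀ hJ₀
  obtain ⟨d₀, e₀, hd₀, he₀, -⟩ := exists_nat_dims q₀
  have hfin : dep (A := A) q₀ M ≠ ⊤ := fun h => by
    have h1 := (dep_le_supportDim M q₀ hs₀).trans (Module.supportDim_le_ringKrullDim _ _)
    rw [hd₀, h, cn, WithBot.coe_le_coe] at h1
    exact ENat.natCast_ne_top _ (top_le_iff.mp h1)
  obtain ⟨t₀, ht₀⟩ := ENat.ne_top_iff_exists.mp hfin
  have hq₀' : Order.height η₀ ≤ ((t₀ + k : ℕ) : ℕ∞) := by
    have h1 : Module.supportDim (Loc A q₀) (Loc A q₀ ⊗[(MvPolynomial σ A)] M) ≤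
      ((dep (A := A) q₀ M : ℕ∞) : WithBot ℕ∞) + k := hq₀
    rw [hsd₀, ← ht₀, cn k, ← WithBot.coe_add, WithBot.coe_le_coe] at h1
    exact_mod_cast h1
  have hD : Order.height η₀ + Order.coheight η₀ ≤ ((t₀ + k + e₀ : ℕ) : ℕ∞) := by
    have h2 : Order.coheight η₀ = (e₀ : ℕ∞) := WithBot.coe_inj.mp (hcl₀.symm.trans he₀)
    rw [h2, Nat.cast_add _ e₀]
    exact add_le_add hq₀' le_rfl
  haveI : Algebra.FiniteType A C := Algebra.FiniteType.of_surjective π hπ
  let G := {Q : PrimeSpectrum C | ∀ η : PrimeSpectrum ((below A Q).asIdeal.Fiber C),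
    pr (below A Q) η ≤ Q → Order.coheight η ≤ ((t₀ + k + e₀ : ℕ) : ℕ∞)}
  have hG : IsOpen G := isOpen_coheight_le _
  obtain ⟨W, hW, hWG⟩ := (PrimeSpectrum.isClosedEmbedding_comap_of_surjective C π.toRingHom hπ).isInducing.isOpen_iff.mp hG
  let R := {q : PrimeSpectrum (MvPolynomial σ A) |
    ((t₀ + e₀ : ℕ) : WithBot ℕ∞) ≤ ((dep (A := A) q M : ℕ∞) : WithBot ℕ∞) + cl (A := A) q}
  refine ⟨W ∩ R, ?_, hW.inter (isOpen_rdepth M _), ?_, ?_⟩
  · rintro q ⟨hqW, hqR⟩
    rw [Set.mem_setOf_eq]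
    by_cases hJ : J ≤ q.asIdeal
    · obtain ⟨Q, η, hQ, hη, hsd, hcl⟩ := key q hJ
      have hQG : Q ∈ G := hWG.subset (show PrimeSpectrum.comap π.toRingHom Q ∈ W by rw [hQ]; exact hqW)
      have hb : below A Q = below A q := by rw [← hη, below_pr]
      obtain ⟨d, e, hd, he, -⟩ := exists_nat_dims q
      have hcond : ∀ (p : PrimeSpectrum A), p = below A Q → ∀ η : PrimeSpectrum (p.asIdeal.Fiber C),
          pr p η ≤ Q → Order.coheight η ≤ ((t₀ + k + e₀ : ℕ) : ℕ∞) := fun p hp => by subst hp; exact hQG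
      have h1 : Order.height η + Order.coheight η ≤ ((t₀ + k + e₀ : ℕ) : ℕ∞) :=
        (height_add_coheight_le_iff _ η _).mpr fun ζ hζ => hcond _ hb.symm ζ ((pr_le_iff.mpr hζ).trans_eq hη)
      have h2 : Order.coheight η = (e : ℕ∞) := WithBot.coe_inj.mp (hcl.symm.trans he)
      rw [h2] at h1
      have h3 : ((t₀ + e₀ : ℕ) : WithBot ℕ∞) ≤ ((dep (A := A) q M : ℕ∞) : WithBot ℕ∞) + cl (A := A) q := hqR
      rw [he, ← WithBot.coe_add, cn, WithBot.coe_le_coe] at h3
      rw [hsd, cn k, ← WithBot.coe_add, WithBot.coe_le_coe]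
      generalize dep (A := A) q M = t at h3
      generalize Order.height η = s at h1
      induction t using ENat.recTopCoe with
      | top => simp
      | coe t =>
        induction s using ENat.recTopCoe with
        | top => simp at h1
        | coe s => norm_cast at h1 h3 ⊢; omega
    · haveI := (subsingleton_iff M q).mpr hJ
      rw [Module.supportDim_eq_bot_of_subsingleton]
      exact bot_le
  · rw [← hQ₀]
    refine hWG.superset (show Q₀ ∈ G from ?_)
    have hb : below A Q₀ = below A q₀ := by rw [← hη₀, below_pr]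
    have hcond : ∀ (p : PrimeSpectrum A), p = below A q₀ → ∀ η : PrimeSpectrum (p.asIdeal.Fiber C),
        pr p η ≤ Q₀ → Order.coheight η ≤ ((t₀ + k + e₀ : ℕ) : ℕ∞) := fun p hp => by
      subst hp
      exact fun η hη => (height_add_coheight_le_iff _ η₀ _).mp hD η (pr_le_iff.mp (hη.trans_eq hη₀.symm))
    exact hcond _ hb
  · simp only [R, Set.mem_setOf_eq]
    rw [← ht₀, he₀, ← WithBot.coe_add, cn, WithBot.coe_le_coe]
    push_cast
    exact le_rfl

end Groth.Agent.FibreDepth.Locus
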