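import Mathlib
import Groth.Agent.FibreDepth.Locus
import Groth.Agent.FibreDepth.Invariance

/-! The fibre local rings of affine space under change of the base ring. -/

set_option autoImplicit false
set_option backward.isDefEq.respectTransparency false
set_option linter.style.haveILetI false
noncomputable section
universe u
open scoped TensorProduct

namespace Groth.Agent.FibreDepth.LocMap
open Ring Affine Support

variable {A A' : Type u} [CommRing A] [CommRing A'] (φ : A →+* A') {σ : Type}

/-- the map of affine spaces -/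
abbrev ζ : MvPolynomial σ A →+* MvPolynomial σ A' := MvPolynomial.map φ

/-- the point below -/
abbrev dn (q' : PrimeSpectrum (MvPolynomial σ A')) : PrimeSpectrum (MvPolynomial σ A) :=
  PrimeSpectrum.comap (ζ φ) q'

theorem below_dn (q' : PrimeSpectrum (MvPolynomial σ A')) :
    below A (dn φ q') = PrimeSpectrum.comap φ (below A' q') := PrimeSpectrum.ext (by
  show (q'.asIdeal.comap (MvPolynomial.map φ)).comap (algebraMap A (MvPolynomial σ A)) =
    (q'.asIdeal.comap (algebraMap A' (MvPolynomial σ A'))).comap φ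
  rw [Ideal.comap_comap, Ideal.comap_comap]
  congr 1
  exact RingHom.ext fun a => MvPolynomial.map_C φ a)

theorem exists_hom (q' : PrimeSpectrum (MvPolynomial σ A')) :
    ∃ h : Loc A (dn φ q') →+* Loc A' q', IsLocalHom h ∧ ∀ b,
      h (algebraMap (MvPolynomial σ A) (Loc A (dn φ q')) b) = algebraMap (MvPolynomial σ A') (Loc A' q') (ζ φ b) := by
  let q := dn φ q'
  let h0 : Localization.AtPrime q.asIdeal →+* Localization.AtPrime q'.asIdeal :=
    Localization.localRingHom q.asIdeal q'.asIdeal (ζ φ) rfl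
  have hle : (fibIdeal A q).map (algebraMap _ (Localization.AtPrime q.asIdeal)) ≤
      ((fibIdeal A' q').map (algebraMap _ (Localization.AtPrime q'.asIdeal))).comap h0 := by
    rw [Ideal.map_le_iff_le_comap, Ideal.map_le_iff_le_comap]
    intro a ha
    rw [Ideal.mem_comap, Ideal.mem_comap, Ideal.mem_comap, Localization.localRingHom_to_map]
    refine Ideal.mem_map_of_mem _ ?_
    rw [show ζ φ (algebraMap A (MvPolynomial σ A) a) = algebraMap A' (MvPolynomial σ A') (φ a) from MvPolynomial.map_C φ a]
    refine Ideal.mem_map_of_mem _ ?_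
    have := congrArg PrimeSpectrum.asIdeal (below_dn φ q')
    exact this.le ha
  let h : Loc A q →+* Loc A' q' := Ideal.quotientMap _ h0 hle
  refine ⟨h, ⟨fun a ha => ?_⟩, fun b => ?_⟩
  · obtain ⟨w, rfl⟩ := Ideal.Quotient.mk_surjective a
    have h1 : IsUnit (Ideal.Quotient.mk ((fibIdeal A' q').map (algebraMap _ _)) (h0 w)) := ha
    haveI : IsLocalHom (Ideal.Quotient.mk ((fibIdeal A' q').map (algebraMap _ (Localization.AtPrime q'.asIdeal)))) :=
      Ideal.Quotient.mk_surjective.isLocalHom _
    haveI : IsLocalHom h0 := Localization.isLocalHom_localRingHom q.asIdeal q'.asIdeal (ζ φ) rfl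
    exact ((isUnit_of_map_unit _ _ (isUnit_of_map_unit _ _ h1))).map _
  · exact congrArg (Ideal.Quotient.mk _) (Localization.localRingHom_to_map _ _ _ rfl b)

theorem flat_of_flat_comp {Pb R R' : Type u} [CommRing Pb] [CommRing R] [CommRing R'] [Algebra Pb R] (S : Submonoid Pb)
    [IsLocalization S R] (h : R →+* R') (hf : (h.comp (algebraMap Pb R)).Flat) : h.Flat := by
  letI : Algebra R R' := h.toAlgebra
  letI : Algebra Pb R' := (h.comp (algebraMap Pb R)).toAlgebra
  haveI : IsScalarTower Pb R R' := IsScalarTower.of_algebraMap_eq fun _ => rfl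
  show Module.Flat R R'
  exact (Module.flat_iff_of_isLocalization R S R').mpr hf

variable [Finite σ]

set_option maxHeartbeats 1000000 in
theorem flat_of_compat (q' : PrimeSpectrum (MvPolynomial σ A')) (h : Loc A (dn φ q') →+* Loc A' q')
    (hc : ∀ b, h (algebraMap (MvPolynomial σ A) (Loc A (dn φ q')) b) = algebraMap (MvPolynomial σ A') (Loc A' q') (ζ φ b)) :
    h.Flat := by
  classical
  let q := dn φ q'
  let p := (below A q).asIdeal
  let p' := (below A' q').asIdeal
  have hp : p = p'.comap φ := congrArg PrimeSpectrum.asIdeal (below_dn φ q')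
  let D := A ⧸ p
  let K := p.ResidueField
  let K' := p'.ResidueField
  let ι : D →+* K' := (Ideal.ResidueField.map p p' φ hp).comp (algebraMap D K)
  have hι : ι.Flat := by
    refine RingHom.Flat.comp ?_ ?_
    · show Module.Flat D K
      exact IsLocalization.flat K (nonZeroDivisors D)
    · letI := (Ideal.ResidueField.map p p' φ hp).toAlgebra
      show Module.Flat K K'
      haveI : Module.Free K K' := Module.Free.of_divisionRing K K'
      exact Module.Flat.of_free
  have hιC : ∀ a : A, ι (Ideal.Quotient.mk p a) = algebraMap A' K' (φ a) := fun a => by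
    show Ideal.ResidueField.map p p' φ hp (algebraMap D K (Ideal.Quotient.mk p a)) = _
    exact Ideal.ResidueField.map_algebraMap _ _ _ _ _
  have hmap : (MvPolynomial.map (σ := σ) ι).Flat := by
    letI : Algebra D K' := ι.toAlgebra
    letI : Algebra (MvPolynomial σ D) (MvPolynomial σ K') := MvPolynomial.algebraMvPolynomial
    haveI : Module.Flat D K' := hι
    show Module.Flat (MvPolynomial σ D) (MvPolynomial σ K')
    exact Module.Flat.isBaseChange D (MvPolynomial σ D) K' (MvPolynomial σ K')
      (Algebra.IsPushout.out (R := D) (S := MvPolynomial σ D) (R' := K') (S' := MvPolynomial σ K'))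
  obtain ⟨M', hM'⟩ := exists_fibre_point A' q'
  obtain ⟨e, he⟩ := exists_ringEquiv_compat A' q' M' hM'
  let E := (MvPolynomial.algebraTensorAlgEquiv (σ := σ) A' K').toRingEquiv
  let g : MvPolynomial σ D →+* Loc A' q' :=
    e.symm.toRingHom.comp ((algebraMap _ (Localization.AtPrime M'.asIdeal)).comp
      (E.symm.toRingHom.comp (MvPolynomial.map ι)))
  have hE : E.symm.toRingHom.Flat := RingHom.Flat.of_bijective E.symm.bijective
  have hL : RingHom.Flat (R := (below A' q').asIdeal.Fiber (MvPolynomial σ A')) (S := Localization.AtPrime M'.asIdeal)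
      (algebraMap ((below A' q').asIdeal.Fiber (MvPolynomial σ A')) (Localization.AtPrime M'.asIdeal)) := by
    rw [RingHom.flat_algebraMap_iff]
    exact IsLocalization.flat _ M'.asIdeal.primeCompl
  have he' := @RingHom.Flat.of_bijective (Localization.AtPrime M'.asIdeal) (Loc A' q') _ _ e.symm.toRingHom e.symm.bijective
  have hg : g.Flat := RingHom.Flat.comp (RingHom.Flat.comp (RingHom.Flat.comp hmap hE) hL) he'
  let δ : MvPolynomial σ A →+* MvPolynomial σ D := MvPolynomial.map (Ideal.Quotient.mk p)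
  have hδ : Function.Surjective δ := MvPolynomial.map_surjective _ Ideal.Quotient.mk_surjective
  have hker : fibIdeal A q = RingHom.ker δ := by
    ext x
    rw [fibIdeal, MvPolynomial.algebraMap_eq, MvPolynomial.mem_map_C_iff, RingHom.mem_ker]
    rw [MvPolynomial.ext_iff]
    simp only [δ, MvPolynomial.coeff_map, MvPolynomial.coeff_zero]
    exact forall_congr' fun m => Ideal.Quotient.eq_zero_iff_mem.symm
  let i : (MvPolynomial σ A ⧸ fibIdeal A q) ≃+* MvPolynomial σ D :=
    (Ideal.quotEquivOfEq hker).trans (RingHom.quotientKerEquivOfSurjective hδ)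
  have hcomp : h.comp (algebraMap (MvPolynomial σ A ⧸ fibIdeal A q) (Loc A q)) = g.comp i.toRingHom := by
    refine Ideal.Quotient.ringHom_ext (RingHom.ext fun b => ?_)
    show h (algebraMap (MvPolynomial σ A) (Loc A q) b) = g (δ b)
    rw [hc]
    refine (RingEquiv.eq_symm_apply e).mpr ?_
    rw [he]
    refine congrArg (algebraMap _ (Localization.AtPrime M'.asIdeal)) ?_
    refine (RingEquiv.eq_symm_apply E).mpr ?_
    show MvPolynomial.algebraTensorAlgEquiv A' K' ((1 : K') ⊗ₜ[A'] MvPolynomial.map φ b) = MvPolynomial.map ι (δ b)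
    rw [MvPolynomial.algebraTensorAlgEquiv_tmul, one_smul, MvPolynomial.map_map, MvPolynomial.map_map]
    exact congrArg (fun t => MvPolynomial.map t b) (RingHom.ext fun a => (hιC a).symm)
  have hflat : (h.comp (algebraMap (MvPolynomial σ A ⧸ fibIdeal A q) (Loc A q))).Flat := by
    rw [hcomp]
    exact RingHom.Flat.comp (RingHom.Flat.of_bijective i.bijective) hg
  exact flat_of_flat_comp (Algebra.algebraMapSubmonoid (MvPolynomial σ A ⧸ fibIdeal A q) q.asIdeal.primeCompl) h hflat

section generic

variable {R R' P P' : Type u} [CommRing R] [CommRing R'] [CommRing P] [CommRing P'] [IsRegularLocalRing R]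
  [IsRegularLocalRing R'] [Algebra P R] [Algebra P' R']
  {M : Type u} [AddCommGroup M] [Module P M] [Module.Finite P M]
  {M' : Type u} [AddCommGroup M'] [Module P' M']

omit [Finite σ] in
/-- Invariants under a flat local homomorphism. -/
theorem generic (h : R →+* R') (ψ : P →+* P') (hloc : IsLocalHom h) (hflat : h.Flat)
    (hc : ∀ b, h (algebraMap P R b) = algebraMap P' R' (ψ b))
    (hM : letI := ψ.toAlgebra; Nonempty ((P' ⊗[P] M) ≃ₗ[P'] M')) :
    (Subsingleton (R' ⊗[P'] M') ↔ Subsingleton (R ⊗[P] M)) ∧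
    ∃ d d' : ℕ, ringKrullDim R = (d : ℕ) ∧ ringKrullDim R' = (d' : ℕ) ∧ d ≤ d' ∧
      (¬ Subsingleton (R ⊗[P] M) → ∃ t t' s s' : ℕ,
        LocCoh.depth R (R ⊗[P] M) = t ∧ LocCoh.depth R' (R' ⊗[P'] M') = t' ∧
        Module.supportDim R (R ⊗[P] M) = (s : ℕ) ∧
        Module.supportDim R' (R' ⊗[P'] M') = (s' : ℕ) ∧
        d + t' = d' + t ∧ d + s' = d' + s ∧ t ≤ d) := by
  letI : Algebra P P' := ψ.toAlgebra
  obtain ⟨E⟩ := hM
  letI : Algebra R R' := h.toAlgebra
  letI : Algebra P R' := ((algebraMap P' R').comp ψ).toAlgebra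
  haveI : IsScalarTower P P' R' := IsScalarTower.of_algebraMap_eq fun _ => rfl
  haveI : IsScalarTower P R R' := IsScalarTower.of_algebraMap_eq fun b => (hc b).symm
  haveI : IsLocalHom (algebraMap R R') := hloc
  haveI : Module.Flat R R' := hflat
  haveI : Module.FaithfullyFlat R R' := Module.FaithfullyFlat.of_flat_of_isLocalHom
  let e : R' ⊗[R] (R ⊗[P] M) ≃ₗ[R'] R' ⊗[P'] M' :=
    (TensorProduct.AlgebraTensorModule.cancelBaseChange P R R' R' M).trans
      ((TensorProduct.AlgebraTensorModule.cancelBaseChange P P' R' R' M).symm.trans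
        (TensorProduct.AlgebraTensorModule.congr (LinearEquiv.refl R' R') E))
  obtain ⟨d, hd⟩ := RegularLocal.Basic.exists_natCast_eq_ringKrullDim (R := R)
  obtain ⟨d', hd'⟩ := RegularLocal.Basic.exists_natCast_eq_ringKrullDim (R := R')
  have hsub : Subsingleton (R' ⊗[P'] M') ↔ Subsingleton (R ⊗[P] M) :=
    e.toEquiv.subsingleton_congr.symm.trans (Module.FaithfullyFlat.subsingleton_tensorProduct_iff_right R R')
  refine ⟨hsub, d, d', hd, hd', ?_, fun hn => ?_⟩
  · have h1 : ringKrullDim R ≤ ringKrullDim R' := by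
      haveI : (IsLocalRing.maximalIdeal R').LiesOver (IsLocalRing.maximalIdeal R) :=
        ⟨Ideal.ext fun x => by
          simp only [Ideal.mem_comap, IsLocalRing.mem_maximalIdeal, mem_nonunits_iff, isUnit_map_iff]⟩
      rw [← IsLocalRing.maximalIdeal_height_eq_ringKrullDim, ← IsLocalRing.maximalIdeal_height_eq_ringKrullDim,
        WithBot.coe_le_coe, Ideal.height_eq_height_add_of_liesOver_of_hasGoingDown (R := R) (S := R')
          (IsLocalRing.maximalIdeal R) (IsLocalRing.maximalIdeal R')]
      exact le_self_add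
    rw [hd, hd'] at h1
    exact_mod_cast h1
  · haveI : Nontrivial (R ⊗[P] M) := not_subsingleton_iff_nontrivial.mp hn
    obtain ⟨t, t', s, s', h1, h2, h3, h4, h5, h6, h7⟩ := Invariance.defects hd hd' (R ⊗[P] M)
    exact ⟨t, t', s, s', h1, (IdealDepth.congr _ e).symm.trans h2, h3,
      (Module.supportDim_eq_of_equiv e).symm.trans h4, h5, h6, h7⟩

end generic

variable (M : Type u) [AddCommGroup M] [Module (MvPolynomial σ A) M] [Module.Finite (MvPolynomial σ A) M]
  (M' : Type u) [AddCommGroup M'] [Module (MvPolynomial σ A') M']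

/-- `M'` is the base change of `M` -/
def IsBC : Prop :=
  letI := (ζ (σ := σ) φ).toAlgebra
  Nonempty ((MvPolynomial σ A' ⊗[MvPolynomial σ A] M) ≃ₗ[MvPolynomial σ A'] M')

set_option maxHeartbeats 4000000 in
/-- Invariants of the fibre modules after change of the base. -/
theorem invariants (hM : IsBC (σ := σ) φ M M') (q' : PrimeSpectrum (MvPolynomial σ A')) :
    (Subsingleton (Loc A' q' ⊗[MvPolynomial σ A'] M') ↔ Subsingleton (Loc A (dn φ q') ⊗[MvPolynomial σ A] M)) ∧
    ∃ d d' : ℕ, ringKrullDim (Loc A (dn φ q')) = (d : ℕ) ∧ ringKrullDim (Loc A' q') = (d' : ℕ) ∧ d ≤ d' ∧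
      (¬ Subsingleton (Loc A (dn φ q') ⊗[MvPolynomial σ A] M) → ∃ t t' s s' : ℕ,
        dep (A := A) (dn φ q') M = t ∧ dep (A := A') q' M' = t' ∧
        Module.supportDim (Loc A (dn φ q')) (Loc A (dn φ q') ⊗[MvPolynomial σ A] M) = (s : ℕ) ∧
        Module.supportDim (Loc A' q') (Loc A' q' ⊗[MvPolynomial σ A'] M') = (s' : ℕ) ∧
        d + t' = d' + t ∧ d + s' = d' + s ∧ t ≤ d) := by
  obtain ⟨h, hloc, hc⟩ := exists_hom φ q'
  exact generic h (ζ φ) hloc (flat_of_compat φ q' h hc) hc hM

end Groth.Agent.FibreDepth.LocMap
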