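import Mathlib
import Groth.Agent.FibreDepth.LocMap

/-! The sets of the depth stratification in affine space and their behaviour under change of the base. -/

set_option autoImplicit false
set_option backward.isDefEq.respectTransparency false
set_option linter.style.haveILetI false
noncomputable section
universe u
open scoped TensorProduct

namespace Groth.Agent.FibreDepth.Sets
open Ring Affine Support LocMap

variable (A : Type u) [CommRing A] (σ : Type) (M : Type u) [AddCommGroup M] [Module (MvPolynomial σ A) M]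

/-- rectified depth at least `n` -/
def rdSet (n : ℕ) : Set (PrimeSpectrum (MvPolynomial σ A)) :=
  {q | (n : WithBot ℕ∞) ≤ ((dep (A := A) q M : ℕ∞) : WithBot ℕ∞) + cl (A := A) q}

/-- codepth at most `k` -/
def cpSet (k : ℕ) : Set (PrimeSpectrum (MvPolynomial σ A)) :=
  {q | Module.supportDim (Loc A q) (Loc A q ⊗[MvPolynomial σ A] M) ≤ ((dep (A := A) q M : ℕ∞) : WithBot ℕ∞) + k}

/-- rectified depth at most `j` -/
def T (j : ℕ) : Set (PrimeSpectrum (MvPolynomial σ A)) := (rdSet A σ M (j + 1))ᶜ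

/-- positive codepth -/
def C : Set (PrimeSpectrum (MvPolynomial σ A)) := (cpSet A σ M 0)ᶜ

/-- generizations in `W` in the fibre with closure of dimension at least `m` -/
def E {P : Type u} [CommRing P] [Algebra A P] (W : Set (PrimeSpectrum P)) (m : ℕ) : Set (PrimeSpectrum P) :=
  {q | ∃ η ∈ W, η ≤ q ∧ below A η = below A q ∧ (m : WithBot ℕ∞) ≤ cl (A := A) η}

variable {A} {σ} {M}

theorem wc (d : ℕ) : ((d : ℕ∞) : WithBot ℕ∞) = (d : WithBot ℕ∞) := rfl

variable [Finite σ]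

theorem exists_cl (q : PrimeSpectrum (MvPolynomial σ A)) {d : ℕ} (hd : ringKrullDim (Loc A q) = (d : ℕ)) :
    ∃ e : ℕ, cl (A := A) q = (e : ℕ) ∧ d + e = Nat.card σ := by
  obtain ⟨d₁, e, hd₁, he, hde⟩ := Locus.exists_nat_dims q
  rw [hd] at hd₁
  have : d = d₁ := by exact_mod_cast hd₁
  exact ⟨e, he, by omega⟩

variable {A' : Type u} [CommRing A'] (φ : A →+* A') {M' : Type u} [AddCommGroup M'] [Module (MvPolynomial σ A') M']

section inv

variable [Module.Finite (MvPolynomial σ A) M] (hM : IsBC (σ := σ) φ M M')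
include hM

theorem mem_rdSet_iff (n : ℕ) (q' : PrimeSpectrum (MvPolynomial σ A')) :
    dn φ q' ∈ rdSet A σ M n ↔ q' ∈ rdSet A' σ M' n := by
  obtain ⟨hsub, d, d', hd, hd', hle, H⟩ := LocMap.invariants φ M M' hM q'
  obtain ⟨e, he, hde⟩ := exists_cl (dn φ q') hd
  obtain ⟨e', he', hde'⟩ := exists_cl q' hd'
  rw [rdSet, rdSet, Set.mem_setOf_eq, Set.mem_setOf_eq, he, he']
  by_cases hs : Subsingleton (Loc A (dn φ q') ⊗[MvPolynomial σ A] M)
  · rw [Locus.dep_eq_top M _ hs, Locus.dep_eq_top M' _ (hsub.mpr hs), ← wc e, ← wc e', ← WithBot.coe_add,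
      ← WithBot.coe_add, top_add, top_add]
  · obtain ⟨t, t', s, s', h1, h2, -, -, h5, -, -⟩ := H hs
    rw [h1, h2, wc, wc]
    norm_cast
    omega

theorem mem_cpSet_iff (k : ℕ) (q' : PrimeSpectrum (MvPolynomial σ A')) :
    dn φ q' ∈ cpSet A σ M k ↔ q' ∈ cpSet A' σ M' k := by
  obtain ⟨hsub, d, d', hd, hd', hle, H⟩ := LocMap.invariants φ M M' hM q'
  rw [cpSet, cpSet, Set.mem_setOf_eq, Set.mem_setOf_eq]
  by_cases hs : Subsingleton (Loc A (dn φ q') ⊗[MvPolynomial σ A] M)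
  · haveI := hs
    haveI := hsub.mpr hs
    rw [Module.supportDim_eq_bot_of_subsingleton, Module.supportDim_eq_bot_of_subsingleton]
    exact iff_of_true bot_le bot_le
  · obtain ⟨t, t', s, s', h1, h2, h3, h4, h5, h6, -⟩ := H hs
    rw [h1, h2, h3, h4, wc, wc]
    norm_cast
    omega

theorem T_eq (j : ℕ) : dn φ ⁻¹' T A σ M j = T A' σ M' j :=
  Set.ext fun q' => not_congr (mem_rdSet_iff φ hM (j + 1) q')

theorem C_eq : dn φ ⁻¹' C A σ M = C A' σ M' :=
  Set.ext fun q' => not_congr (mem_cpSet_iff φ hM 0 q')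

end inv

omit [Finite σ] in
theorem lift_aux {R R' : Type u} [CommRing R] [CommRing R'] [IsLocalRing R] [IsLocalRing R'] [IsNoetherianRing R]
    [IsNoetherianRing R'] (h : R →+* R') (hloc : IsLocalHom h) (hflat : h.Flat) (a : PrimeSpectrum R) :
    ∃ a' : PrimeSpectrum R', PrimeSpectrum.comap h a' = a ∧ a'.asIdeal.height = a.asIdeal.height := by
  letI : Algebra R R' := h.toAlgebra
  haveI : IsLocalHom (algebraMap R R') := hloc
  haveI : Module.Flat R R' := hflat
  haveI : (IsLocalRing.maximalIdeal R').LiesOver (IsLocalRing.maximalIdeal R) :=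
    ⟨Ideal.ext fun x => by simp only [Ideal.mem_comap, IsLocalRing.mem_maximalIdeal, mem_nonunits_iff, isUnit_map_iff]⟩
  obtain ⟨Q, -, hQ, hQo⟩ := Ideal.exists_ideal_le_liesOver_of_le (IsLocalRing.maximalIdeal R')
    (p := a.asIdeal) (q := IsLocalRing.maximalIdeal R) (IsLocalRing.le_maximalIdeal a.2.ne_top)
  have hmapQ : a.asIdeal.map (algebraMap R R') ≤ Q := Ideal.map_le_iff_le_comap.mpr hQo.over.le
  obtain ⟨m, hm, hmQ⟩ := Ideal.exists_minimalPrimes_le hmapQ
  haveI := hm.1.1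
  haveI : m.LiesOver a.asIdeal :=
    ⟨le_antisymm (Ideal.map_le_iff_le_comap.mp hm.1.2) ((Ideal.comap_mono hmQ).trans hQo.over.ge)⟩
  refine ⟨⟨m, hm.1.1⟩, PrimeSpectrum.ext (Ideal.LiesOver.over (P := m) (p := a.asIdeal)).symm, ?_⟩
  show m.height = _
  rw [Ideal.height_eq_height_add_of_liesOver_of_hasGoingDown a.asIdeal m]
  have h0 : (m.map (Ideal.Quotient.mk (a.asIdeal.map (algebraMap R R')))).height = 0 := by
    haveI := Ideal.map_isPrime_of_surjective (f := Ideal.Quotient.mk (a.asIdeal.map (algebraMap R R')))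
      Ideal.Quotient.mk_surjective (I := m) (by rw [Ideal.mk_ker]; exact hm.1.2)
    rw [Ideal.height_eq_zero_iff]
    refine ⟨⟨inferInstance, bot_le⟩, fun J hJ hle => ?_⟩
    haveI := hJ.1
    have h1 : J.comap (Ideal.Quotient.mk _) ≤ m := by
      refine (Ideal.comap_mono hle).trans (le_of_eq ?_)
      rw [Ideal.comap_map_of_surjective _ Ideal.Quotient.mk_surjective, ← RingHom.ker_eq_comap_bot, Ideal.mk_ker,
        sup_eq_left.mpr hm.1.2]
    refine (Ideal.map_mono (hm.2 ⟨inferInstance, ?_⟩ h1)).trans (le_of_eq ?_)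
    · intro x hx
      rw [Ideal.mem_comap, Ideal.Quotient.eq_zero_iff_mem.mpr hx]
      exact zero_mem _
    · exact Ideal.map_comap_of_surjective _ Ideal.Quotient.mk_surjective J
  rw [h0, add_zero]

theorem dim_toP (q : PrimeSpectrum (MvPolynomial σ A)) (a : PrimeSpectrum (Loc A q)) :
    ringKrullDim (Loc A (toP (A := A) q a)) = ((a.asIdeal.height : ℕ∞) : WithBot ℕ∞) := by
  rw [show a.asIdeal.height = Order.height a from PrimeSpectrum.height_eq_orderHeight a, Order.height_eq_krullDim_Iic]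
  let η := toP (A := A) q a
  obtain ⟨hle, hb⟩ := (range_toP (A := A) q η).mp ⟨a, rfl⟩
  let g : ↥(Set.Iic a) ↪o PrimeSpectrum (MvPolynomial σ A) :=
    (OrderEmbedding.subtype (· ∈ Set.Iic a)).trans (toP (A := A) q)
  have hfg : Set.range (toP (A := A) η) = Set.range g := by
    ext Q
    rw [range_toP]
    constructor
    · rintro ⟨h1, h2⟩
      obtain ⟨b, hbQ⟩ := (range_toP (A := A) q Q).mpr ⟨h1.trans hle, h2.trans hb⟩
      exact ⟨⟨b, (toP (A := A) q).le_iff_le.mp (hbQ ▸ h1)⟩, hbQ⟩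
    · rintro ⟨⟨b, hb'⟩, rfl⟩
      exact ⟨(toP (A := A) q).monotone hb', ((range_toP (A := A) q _).mp ⟨b, rfl⟩).2.trans hb.symm⟩
  exact Order.krullDim_eq_of_orderIso
    ((toP (A := A) η).orderIso.trans ((OrderIso.setCongr _ _ hfg).trans g.orderIso.symm))

omit [Finite σ] in
theorem dn_mono {η' q' : PrimeSpectrum (MvPolynomial σ A')} (hle : η' ≤ q') (hb : below A' η' = below A' q') :
    dn φ η' ≤ dn φ q' ∧ below A (dn φ η') = below A (dn φ q') :=
  ⟨Ideal.comap_mono hle, by rw [below_dn, below_dn, hb]⟩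

theorem dim_le (η' : PrimeSpectrum (MvPolynomial σ A')) {d d' : ℕ} (hd : ringKrullDim (Loc A (dn φ η')) = (d : ℕ))
    (hd' : ringKrullDim (Loc A' η') = (d' : ℕ)) : d ≤ d' := by
  obtain ⟨h, hloc, hc⟩ := exists_hom φ η'
  obtain ⟨a', ha', hh⟩ := lift_aux h hloc (flat_of_compat φ η' h hc) (IsLocalRing.closedPoint _)
  have h1 : (a'.asIdeal.height : WithBot ℕ∞) ≤ ringKrullDim (Loc A' η') :=
    Ideal.height_le_ringKrullDim_of_ne_top a'.2.ne_top
  rw [hh, show ((IsLocalRing.closedPoint (Loc A (dn φ η'))).asIdeal.height : WithBot ℕ∞) = ringKrullDim (Loc A (dn φ η'))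
    from IsLocalRing.maximalIdeal_height_eq_ringKrullDim, hd, hd'] at h1
  exact_mod_cast h1

theorem exists_lift (q' : PrimeSpectrum (MvPolynomial σ A')) (η : PrimeSpectrum (MvPolynomial σ A))
    (hle : η ≤ dn φ q') (hb : below A η = below A (dn φ q')) :
    ∃ η', η' ≤ q' ∧ below A' η' = below A' q' ∧ dn φ η' = η ∧ cl (A := A') η' = cl (A := A) η := by
  obtain ⟨h, hloc, hc⟩ := exists_hom φ q'
  obtain ⟨a, ha⟩ := (range_toP (A := A) (dn φ q') η).mpr ⟨hle, hb⟩
  obtain ⟨a', ha', hh⟩ := lift_aux h hloc (flat_of_compat φ q' h hc) a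
  obtain ⟨h1, h2⟩ := (range_toP (A := A') q' _).mp ⟨a', rfl⟩
  have hdn : dn φ (toP (A := A') q' a') = η := by
    rw [← ha, ← ha']
    refine PrimeSpectrum.ext (Ideal.ext fun x => ?_)
    show algebraMap _ (Loc A' q') (ζ φ x) ∈ a'.asIdeal ↔ h (algebraMap _ (Loc A (dn φ q')) x) ∈ a'.asIdeal
    rw [hc]
  refine ⟨toP (A := A') q' a', h1, h2, hdn, ?_⟩
  obtain ⟨d, e, hd, he, hde⟩ := Locus.exists_nat_dims η
  obtain ⟨d', e', hd', he', hde'⟩ := Locus.exists_nat_dims (toP (A := A') q' a')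
  rw [dim_toP, hh] at hd'
  have hd2 := hd
  rw [← ha, dim_toP, hd'] at hd2
  have : d' = d := by exact_mod_cast hd2
  rw [he, he', show e' = e by omega]

theorem E_eq (W : Set (PrimeSpectrum (MvPolynomial σ A))) (m : ℕ) :
    dn φ ⁻¹' E A W m = E A' (dn φ ⁻¹' W) m := by
  ext q'
  constructor
  · rintro ⟨η, hη, hle, hb, hm⟩
    obtain ⟨η', h1, h2, h3, h4⟩ := exists_lift φ q' η hle hb
    exact ⟨η', (show dn φ η' ∈ W from h3 ▸ hη), h1, h2, h4 ▸ hm⟩
  · rintro ⟨η', hη, h1, h2, hm⟩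
    obtain ⟨hle, hb⟩ := dn_mono φ h1 h2
    refine ⟨dn φ η', hη, hle, hb, hm.trans ?_⟩
    obtain ⟨d, e, hd, he, hde⟩ := Locus.exists_nat_dims (dn φ η')
    obtain ⟨d', e', hd', he', hde'⟩ := Locus.exists_nat_dims η'
    have := dim_le φ η' hd hd'
    rw [he, he', wc, wc]
    exact_mod_cast (show e' ≤ e by omega)

omit [Finite σ] in
/-- Semicontinuity of the dimension in the fibres of a closed subset. -/
theorem isClosed_E {P : Type u} [CommRing P] [Algebra A P] [Algebra.FiniteType A P]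
    {W : Set (PrimeSpectrum P)} (hW : IsClosed W) (m : ℕ) : IsClosed (E A W (m + 1)) := by
  obtain ⟨I, hI⟩ := (PrimeSpectrum.isClosed_iff_zeroLocus_ideal _).mp hW
  let π : P →ₐ[A] P ⧸ I := Ideal.Quotient.mkₐ _ I
  have hπ : Function.Surjective π := Ideal.Quotient.mk_surjective
  haveI : Algebra.FiniteType A (P ⧸ I) := Algebra.FiniteType.of_surjective π hπ
  let G := {Q : PrimeSpectrum (P ⧸ I) | ∀ η : PrimeSpectrum ((below A Q).asIdeal.Fiber (P ⧸ I)),
    Equidim.Core.pr (below A Q) η ≤ Q → Order.coheight η ≤ (m : ℕ∞)}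
  let c := PrimeSpectrum.comap π.toRingHom
  have hrange : Set.range c = W := by
    rw [range_comap_of_surjective _ _ hπ, show RingHom.ker π.toRingHom = I from Ideal.mk_ker, hI]
  have hb : ∀ Q, below A (c Q) = below A Q := fun Q => PrimeSpectrum.ext (by
    show (Q.asIdeal.comap π.toRingHom).comap (algebraMap A P) = _
    rw [Ideal.comap_comap, show π.toRingHom.comp (algebraMap A P) = algebraMap A (P ⧸ I) from π.comp_algebraMap]
    rfl)
  have hc : ∀ Q Q', c Q ≤ c Q' ↔ Q ≤ Q' := fun Q Q' => Ideal.comap_le_comap_iff_of_surjective π.toRingHom hπ _ _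
  have key : ∀ (Q : PrimeSpectrum (P ⧸ I)) (η : PrimeSpectrum ((below A Q).asIdeal.Fiber (P ⧸ I))),
      (((m + 1 : ℕ) : WithBot ℕ∞) ≤ cl (A := A) (c (Equidim.Core.pr (below A Q) η))) ↔ ¬ Order.coheight η ≤ (m : ℕ∞) := by
    intro Q η
    rw [← Locus.cl_comap_eq π hπ, ← coheight_eq_cl, ← wc (m + 1), WithBot.coe_le_coe, not_le]
    generalize Order.coheight η = t
    induction t using ENat.recTopCoe with
    | top => simp
    | coe t => norm_cast
  have : E A W (m + 1) = c '' Gᶜ := by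
    ext q
    constructor
    · rintro ⟨η, hη, hle, hbη, hm⟩
      obtain ⟨R', rfl⟩ := hrange.superset hη
      obtain ⟨Q', rfl⟩ := hrange.superset (((PrimeSpectrum.le_iff_specializes _ _).mp hle).mem_closed hW hη)
      rw [hb, hb] at hbη
      obtain ⟨θ, hθ⟩ := Equidim.Core.exists_pr (below A Q') R' (congrArg PrimeSpectrum.asIdeal hbη)
      exact ⟨Q', fun hG => (key Q' θ).mp (by rw [hθ]; exact hm) (hG θ (hθ.trans_le ((hc _ _).mp hle))), rfl⟩
    · rintro ⟨Q', hQ', rfl⟩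
      obtain ⟨θ, hθ, hn⟩ : ∃ θ, Equidim.Core.pr (below A Q') θ ≤ Q' ∧ ¬ Order.coheight θ ≤ (m : ℕ∞) := by
        by_contra hne
        exact hQ' fun θ hθ => by_contra fun hn => hne ⟨θ, hθ, hn⟩
      exact ⟨_, hrange.subset ⟨_, rfl⟩, (hc _ _).mpr hθ, by rw [hb, hb, below_pr], (key Q' θ).mpr hn⟩
  rw [this]
  exact (PrimeSpectrum.isClosedEmbedding_comap_of_surjective _ π.toRingHom hπ).isClosedMap _
    (isOpen_coheight_le (A := A) (C := P ⧸ I) _).isClosed_compl

theorem E_zero {W : Set (PrimeSpectrum (MvPolynomial σ A))} (hW : IsClosed W) : E A W 0 = W := by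
  ext q
  constructor
  · rintro ⟨η, hη, hle, -, -⟩
    exact ((PrimeSpectrum.le_iff_specializes _ _).mp hle).mem_closed hW hη
  · intro hq
    obtain ⟨d, e, -, he, -⟩ := Locus.exists_nat_dims q
    exact ⟨q, hq, le_rfl, rfl, by rw [he, wc]; exact_mod_cast Nat.zero_le e⟩

theorem isClosed_E' {W : Set (PrimeSpectrum (MvPolynomial σ A))} (hW : IsClosed W) : ∀ m, IsClosed (E A W m)
  | 0 => by rw [E_zero hW]; exact hW
  | m + 1 => isClosed_E hW m

end Groth.Agent.FibreDepth.Sets
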