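import Mathlib
import Groth.Agent.FibreDepth.Sets
import Groth.Agent.Flat.GenericFree
import Groth.Agent.Flat.OpenLocus

/-! Constructibility of invariant families of subsets of affine space. -/

set_option autoImplicit false
set_option backward.isDefEq.respectTransparency false
set_option linter.style.haveILetI false
noncomputable section
universe u
open scoped TensorProduct
open Topology

namespace Groth.Agent.FibreDepth.Strata
open Ring LocMap

theorem isConstructible_comap {R S : Type u} [CommRing R] [CommRing S] (f : R →+* S) {s : Set (PrimeSpectrum R)}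
    (hs : IsConstructible s) : IsConstructible (PrimeSpectrum.comap f ⁻¹' s) := by
  obtain ⟨D, rfl⟩ := PrimeSpectrum.exists_constructibleSetData_iff.mpr hs
  rw [← PrimeSpectrum.ConstructibleSetData.toSet_map]
  exact PrimeSpectrum.ConstructibleSetData.isConstructible_toSet _

attribute [local instance] MvPolynomial.algebraMvPolynomial
attribute [-instance] ModuleCat.sMulCommClass_mk

variable {σ : Type}

local instance commPB {A₀ B : Type u} [CommRing A₀] [CommRing B] [Algebra A₀ B] :
    SMulCommClass (MvPolynomial σ A₀) B (MvPolynomial σ B) := ⟨fun p b x => by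
  rw [Algebra.smul_def, Algebra.smul_def, Algebra.smul_def, Algebra.smul_def]; ring⟩

section bc

variable {A₀ B : Type u} [CommRing A₀] [CommRing B] [Algebra A₀ B]
  {M₀ : Type u} [AddCommGroup M₀] [Module (MvPolynomial σ A₀) M₀] [Module A₀ M₀]
  [IsScalarTower A₀ (MvPolynomial σ A₀) M₀]

/-- a base change of the coefficients is a base change of the polynomial ring -/
theorem isBC_of_isBaseChange {M : Type u} [AddCommGroup M] [Module (MvPolynomial σ B) M] [Module B M]
    [IsScalarTower B (MvPolynomial σ B) M] [Module A₀ M] [IsScalarTower A₀ B M]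
    (j : M₀ →ₗ[A₀] M) (hj : IsBaseChange B j)
    (hlin : ∀ (s : MvPolynomial σ A₀) x, j (s • x) = MvPolynomial.map (algebraMap A₀ B) s • j x) :
    IsBC (σ := σ) (algebraMap A₀ B) M₀ M := by
  letI : Module (MvPolynomial σ A₀) M := Module.compHom M (MvPolynomial.map (algebraMap A₀ B))
  haveI : IsScalarTower (MvPolynomial σ A₀) (MvPolynomial σ B) M := IsScalarTower.of_algebraMap_smul fun _ _ => rfl
  let f : M₀ →ₗ[MvPolynomial σ A₀] M := { toFun := j, map_add' := j.map_add, map_smul' := hlin }
  let F := f.liftBaseChange (MvPolynomial σ B)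
  let e := Algebra.IsPushout.cancelBaseChange A₀ B (MvPolynomial σ A₀) (MvPolynomial σ B) M₀
  have key : ∀ z, F (e.symm z) = hj.equiv z := fun z => by
    induction z using TensorProduct.induction_on with
    | zero => simp
    | add a b ha hb => simp only [map_add, ha, hb]
    | tmul b m =>
      rw [Algebra.IsPushout.cancelBaseChange_symm_tmul, IsBaseChange.equiv_tmul]
      show F _ = _
      rw [LinearMap.liftBaseChange_tmul, algebraMap_smul]
      rfl
  have hF : Function.Bijective F := by
    have : (F : _ → _) = hj.equiv ∘ e := funext fun y => by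
      have := key (e y)
      rwa [e.symm_apply_apply] at this
    rw [this]
    exact hj.equiv.bijective.comp e.bijective
  exact ⟨LinearEquiv.ofBijective F hF⟩

theorem isBC_tensor : IsBC (σ := σ) (algebraMap A₀ B) M₀ (MvPolynomial σ B ⊗[MvPolynomial σ A₀] M₀) := ⟨LinearEquiv.refl _ _⟩

theorem flat_tensor (h : Module.Flat B (B ⊗[A₀] M₀)) :
    Module.Flat B (MvPolynomial σ B ⊗[MvPolynomial σ A₀] M₀) :=
  Module.Flat.of_linearEquiv (Algebra.IsPushout.cancelBaseChange A₀ B (MvPolynomial σ A₀) (MvPolynomial σ B) M₀)

end bc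

variable [Finite σ]

variable {W : ∀ (A : Type u) [CommRing A] (M : Type u) [AddCommGroup M] [Module (MvPolynomial σ A) M],
    Set (PrimeSpectrum (MvPolynomial σ A))}
  (hinv : ∀ {A A' : Type u} [CommRing A] [CommRing A'] (φ : A →+* A') (M : Type u) [AddCommGroup M]
    [Module (MvPolynomial σ A) M] [Module.Finite (MvPolynomial σ A) M] (M' : Type u) [AddCommGroup M']
    [Module (MvPolynomial σ A') M'], IsBC (σ := σ) φ M M' → dn φ ⁻¹' W A M = W A' M')
  (hflat : ∀ (A : Type u) [CommRing A] [IsNoetherianRing A] (M : Type u) [AddCommGroup M]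
    [Module (MvPolynomial σ A) M] [Module A M] [IsScalarTower A (MvPolynomial σ A) M]
    [Module.FinitePresentation (MvPolynomial σ A) M] [Module.Flat A M], IsConstructible (W A M))

omit [Finite σ] in
theorem ker_map {A B : Type u} [CommRing A] [CommRing B] (φ : A →+* B) :
    RingHom.ker (ζ (σ := σ) φ) = (RingHom.ker φ).map (algebraMap A (MvPolynomial σ A)) :=
  MvPolynomial.ker_map φ

omit [Finite σ] in
theorem range_dn_mk {A : Type u} [CommRing A] (p : Ideal A) :
    Set.range (dn (σ := σ) (Ideal.Quotient.mk p)) = {q | p ≤ (below A q).asIdeal} := by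
  rw [range_comap_of_surjective _ _ (MvPolynomial.map_surjective _ Ideal.Quotient.mk_surjective), ker_map,
    Ideal.mk_ker]
  ext q
  rw [PrimeSpectrum.mem_zeroLocus, SetLike.coe_subset_coe, Ideal.map_le_iff_le_comap]
  rfl

omit [Finite σ] in
theorem range_dn_away {A : Type u} [CommRing A] (f : A) :
    Set.range (dn (σ := σ) (algebraMap A (Localization.Away f))) = {q | f ∉ (below A q).asIdeal} := by
  haveI : IsLocalization.Away (MvPolynomial.C (σ := σ) f) (MvPolynomial σ (Localization.Away f)) := by
    have := MvPolynomial.isLocalization (σ := σ) (Submonoid.powers f) (Localization.Away f)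
    rwa [Submonoid.map_powers] at this
  exact PrimeSpectrum.localization_away_comap_range (MvPolynomial σ (Localization.Away f)) (MvPolynomial.C (σ := σ) f)

theorem fp_map {A B : Type u} [CommRing A] [IsNoetherianRing A] [CommRing B] [Algebra A B] [Algebra.FiniteType A B] :
    (ζ (σ := σ) (algebraMap A B)).FinitePresentation := by
  haveI : Algebra.FiniteType A (MvPolynomial σ B) := Algebra.FiniteType.trans (R := A) (S := B) inferInstance inferInstance
  haveI : Algebra.FiniteType (MvPolynomial σ A) (MvPolynomial σ B) :=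
    Algebra.FiniteType.of_restrictScalars_finiteType A _ _
  haveI : Algebra.FinitePresentation (MvPolynomial σ A) (MvPolynomial σ B) :=
    Algebra.FinitePresentation.of_finiteType.mp inferInstance
  exact RingHom.finitePresentation_algebraMap.mpr ‹_›

section noeth

variable {A : Type u} [CommRing A] [IsNoetherianRing A] (M : Type u) [AddCommGroup M]
  [Module (MvPolynomial σ A) M] [Module A M] [IsScalarTower A (MvPolynomial σ A) M] [Module.Finite (MvPolynomial σ A) M]

include hinv hflat

set_option maxHeartbeats 1000000 in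
/-- the part where the module is free over the base -/
theorem free_part (f : A)
    (hfree : ∀ (L : Type u) [CommRing L] [Algebra A L], IsUnit (algebraMap A L f) → Module.Free L (L ⊗[A] M)) :
    IsConstructible (W A M ∩ {q | f ∉ (below A q).asIdeal}) := by
  let L := Localization.Away f
  let ML := MvPolynomial σ L ⊗[MvPolynomial σ A] M
  haveI := hfree L (IsLocalization.Away.algebraMap_isUnit f)
  haveI : Module.Flat L ML := flat_tensor (σ := σ) (A₀ := A) (B := L) (M₀ := M) inferInstance
  haveI : Module.FinitePresentation (MvPolynomial σ L) ML := Module.finitePresentation_of_finite (MvPolynomial σ L) ML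
  have hL := hflat L ML
  have hWL := hinv (algebraMap A L) M ML isBC_tensor
  have heq : W A M ∩ {q | f ∉ (below A q).asIdeal} = dn (algebraMap A L) '' W L ML := by
    rw [← hWL, Set.image_preimage_eq_inter_range]
    exact congrArg (W A M ∩ ·) (range_dn_away f).symm
  rw [heq]
  exact PrimeSpectrum.isConstructible_comap_image fp_map hL

set_option maxHeartbeats 1000000 in
theorem stratum (p : Ideal A) [p.IsPrime]
    (ih : ∀ J : Ideal A, p < J → IsConstructible (W A M ∩ {q | J ≤ (below A q).asIdeal})) :
    IsConstructible (W A M ∩ {q | p ≤ (below A q).asIdeal}) := by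
  let R := A ⧸ p
  let MR := MvPolynomial σ R ⊗[MvPolynomial σ A] M
  haveI : Module.Finite (MvPolynomial σ R) MR := inferInstance
  obtain ⟨f, hf0, hfree⟩ := Flat.GenericFree.freeAway_of_finite (R := R) (MvPolynomial σ R) MR
  obtain ⟨f₀, rfl⟩ := Ideal.Quotient.mk_surjective f
  let f : R := Ideal.Quotient.mk p f₀
  have hfree' := free_part hinv hflat MR f hfree
  have hWR := hinv (algebraMap A R) M MR isBC_tensor
  have hlt : p < p ⊔ Ideal.span {f₀} := left_lt_sup.mpr fun h =>
    hf0 (Ideal.Quotient.eq_zero_iff_mem.mpr (h (Ideal.mem_span_singleton_self f₀)))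
  have hR : IsConstructible (W R MR) := by
    have : W R MR = (W R MR ∩ {q | f ∉ (below R q).asIdeal}) ∪
        dn (Ideal.Quotient.mk p) ⁻¹' (W A M ∩ {q | p ⊔ Ideal.span {f₀} ≤ (below A q).asIdeal}) := by
      have hq : ∀ q : PrimeSpectrum (MvPolynomial σ R),
          (p ⊔ Ideal.span {f₀} ≤ (below A (dn (Ideal.Quotient.mk p) q)).asIdeal) ↔ f ∈ (below R q).asIdeal := fun q => by
        rw [below_dn, sup_le_iff, Ideal.span_singleton_le_iff_mem]
        exact ⟨fun h => h.2, fun h => ⟨fun a ha => by
          rw [PrimeSpectrum.comap_asIdeal, Ideal.mem_comap, Ideal.Quotient.eq_zero_iff_mem.mpr ha]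
          exact zero_mem _, h⟩⟩
      rw [Set.preimage_inter,
        show dn (Ideal.Quotient.mk p) ⁻¹' W A M = W R MR from hWR, Set.preimage_setOf_eq]
      ext q
      simp only [Set.mem_union, Set.mem_inter_iff, Set.mem_setOf_eq, hq]
      tauto
    rw [this]
    exact hfree'.union (isConstructible_comap _ (ih _ hlt))
  have : W A M ∩ {q | p ≤ (below A q).asIdeal} = dn (algebraMap A R) '' W R MR := by
    rw [← hWR, Set.image_preimage_eq_inter_range]
    exact congrArg (W A M ∩ ·) (range_dn_mk p).symm
  rw [this]
  exact PrimeSpectrum.isConstructible_comap_image fp_map hR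

theorem isConstructible_inter (I : Ideal A) : IsConstructible (W A M ∩ {q | I ≤ (below A q).asIdeal}) := by
  induction I using WellFoundedGT.induction with
  | _ I ih =>
  by_cases hI : I.IsPrime
  · exact stratum hinv hflat M I ih
  by_cases hT : I = ⊤
  · convert IsConstructible.empty
    exact Set.eq_empty_of_forall_notMem fun q hq => (below A q).2.ne_top (top_le_iff.mp (hT ▸ hq.2))
  obtain ⟨a, ha, b, hb, hab⟩ := (Ideal.not_isPrime_iff.mp hI).resolve_left hT
  have : W A M ∩ {q | I ≤ (below A q).asIdeal} = (W A M ∩ {q | I ⊔ Ideal.span {a} ≤ (below A q).asIdeal}) ∪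
      (W A M ∩ {q | I ⊔ Ideal.span {b} ≤ (below A q).asIdeal}) := by
    ext q
    simp only [Set.mem_inter_iff, Set.mem_union, Set.mem_setOf_eq, sup_le_iff, Ideal.span_singleton_le_iff_mem]
    refine ⟨fun ⟨h, hI'⟩ => ((below A q).2.mem_or_mem (hI' hab)).imp (fun h' => ⟨h, hI', h'⟩) fun h' => ⟨h, hI', h'⟩, ?_⟩
    rintro (⟨h, h', -⟩ | ⟨h, h', -⟩) <;> exact ⟨h, h'⟩
  rw [this]
  exact (ih _ (left_lt_sup.mpr fun h => ha (h (Ideal.mem_span_singleton_self a)))).union
    (ih _ (left_lt_sup.mpr fun h => hb (h (Ideal.mem_span_singleton_self b))))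

theorem isConstructible_noeth : IsConstructible (W A M) := by
  have := isConstructible_inter hinv hflat M (⊥ : Ideal A)
  simpa using this

end noeth

open Flat.Descent Flat.OpenLocus in
include hinv hflat in
theorem of_model {A₀ A : Type u} [CommRing A₀] [IsNoetherianRing A₀] [CommRing A] [Algebra A₀ A] {k n : ℕ}
    (g₀ : Fin k → Fin n → MvPolynomial σ A₀) (g : Fin k → Fin n → MvPolynomial σ A)
    (hg : ∀ l, vmap (algebraMap A₀ A) (g₀ l) = g l) (M : Type u) [AddCommGroup M] [Module (MvPolynomial σ A) M]
    (e : M ≃ₗ[MvPolynomial σ A] Coker g) : IsConstructible (W A M) := by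
  have hbc : IsBC (σ := σ) (algebraMap A₀ A) (Coker g₀) M := by
    obtain ⟨E⟩ := isBC_of_isBaseChange (σ := σ) (cokerMap g₀ g hg) (isBaseChange_cokerMap g₀ g hg) (cokerMap_smul g₀ g hg)
    exact ⟨E.trans e.symm⟩
  rw [← hinv _ _ _ hbc]
  exact isConstructible_comap _ (isConstructible_noeth hinv hflat (Coker g₀))

open Flat.Descent Flat.OpenLocus in
include hinv hflat in
/-- An invariant family which is constructible in the flat Noetherian case is constructible. -/
theorem isConstructible {A : Type u} [CommRing A] (M : Type u) [AddCommGroup M] [Module (MvPolynomial σ A) M]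
    [Module.FinitePresentation (MvPolynomial σ A) M] : IsConstructible (W A M) := by
  obtain ⟨n, K, e, hK⟩ := Module.FinitePresentation.exists_fin (MvPolynomial σ A) M
  obtain ⟨k, g, rfl⟩ := Submodule.fg_iff_exists_fin_generating_family.mp hK
  obtain ⟨T, hT⟩ := exists_adjoin_vec (σ := σ) (fun x : Fin k × Fin n => g x.1 x.2)
  obtain ⟨v, hv⟩ := hT T le_rfl
  let g₀ : Fin k → Fin n → MvPolynomial σ (adj T) := fun l i => v (l, i)
  have hg : ∀ l, vmap (algebraMap (adj T) A) (g₀ l) = g l := fun l => funext fun i => congrFun hv (l, i)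
  haveI := adj_isNoetherianRing T
  exact of_model hinv hflat g₀ g hg M e

end Groth.Agent.FibreDepth.Strata
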