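import Mathlib
import Groth.Agent.Flat.GenericFree
import Groth.Agent.FibreDepth.Strata

/-! Constructibility of invariant families of subsets of finitely presented algebras. -/

set_option autoImplicit false
set_option backward.isDefEq.respectTransparency false
set_option linter.style.haveILetI false
noncomputable section
universe u
open scoped TensorProduct
open Topology

namespace Groth.Agent.FibreDepth.AlgStrata

section range

variable {R R' A : Type u} [CommRing R] [CommRing R'] [CommRing A] [Algebra R R'] [Algebra R A]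

/-- the projection from the base change -/
abbrev incl (R' A : Type u) [CommRing R'] [CommRing A] [Algebra R R'] [Algebra R A] :
    PrimeSpectrum (R' ⊗[R] A) → PrimeSpectrum A :=
  PrimeSpectrum.comap (Algebra.TensorProduct.includeRight : A →ₐ[R] R' ⊗[R] A).toRingHom

theorem mem_range_incl {K : Type u} [Field K] [Algebra R K] (q : PrimeSpectrum A) (χ : R' →ₐ[R] K)
    (ψ : A →ₐ[R] K) (hψ : RingHom.ker ψ = q.asIdeal) : q ∈ Set.range (incl (R := R) R' A) := by
  refine ⟨⟨RingHom.ker (Algebra.TensorProduct.lift χ ψ fun _ _ => Commute.all _ _), RingHom.ker_isPrime _⟩,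
    PrimeSpectrum.ext (Ideal.ext fun a => ?_)⟩
  show Algebra.TensorProduct.lift χ ψ _ ((1 : R') ⊗ₜ[R] a) = 0 ↔ a ∈ q.asIdeal
  rw [Algebra.TensorProduct.lift_tmul, map_one, one_mul, ← hψ]
  exact Iff.rfl

theorem below_incl (q : PrimeSpectrum (R' ⊗[R] A)) :
    Ring.below R (incl R' A q) = PrimeSpectrum.comap (algebraMap R R') (Ring.below R' q) := PrimeSpectrum.ext (by
  show (q.asIdeal.comap (Algebra.TensorProduct.includeRight : A →ₐ[R] R' ⊗[R] A).toRingHom).comap (algebraMap R A) =
    (q.asIdeal.comap (algebraMap R' (R' ⊗[R] A))).comap (algebraMap R R')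
  rw [Ideal.comap_comap, Ideal.comap_comap]
  congr 1
  ext r
  show (1 : R') ⊗ₜ[R] algebraMap R A r = algebraMap R R' r ⊗ₜ[R] (1 : A)
  rw [Algebra.algebraMap_eq_smul_one, Algebra.algebraMap_eq_smul_one (A := R'), TensorProduct.smul_tmul])

theorem range_incl_quotient (p : Ideal R) :
    Set.range (incl (R := R) (R ⧸ p) A) = {q | p ≤ (Ring.below R q).asIdeal} := by
  ext q
  constructor
  · rintro ⟨Q, rfl⟩ a ha
    rw [below_incl, PrimeSpectrum.comap_asIdeal, Ideal.mem_comap, Ideal.Quotient.algebraMap_eq,
      Ideal.Quotient.eq_zero_iff_mem.mpr ha]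
    exact zero_mem _
  · intro hq
    let ψ : A →ₐ[R] q.asIdeal.ResidueField := IsScalarTower.toAlgHom R A _
    exact mem_range_incl q (Ideal.Quotient.liftₐ p (Algebra.ofId R _) fun a ha => by
      show algebraMap R q.asIdeal.ResidueField a = 0
      rw [IsScalarTower.algebraMap_apply R A, Ideal.algebraMap_residueField_eq_zero]
      exact hq ha) ψ q.asIdeal.ker_algebraMap_residueField

theorem range_incl_away (f : R) :
    Set.range (incl (R := R) (Localization.Away f) A) = {q | f ∉ (Ring.below R q).asIdeal} := by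
  ext q
  constructor
  · rintro ⟨Q, rfl⟩ hf
    rw [below_incl, PrimeSpectrum.comap_asIdeal, Ideal.mem_comap] at hf
    exact (Ring.below (Localization.Away f) Q).2.ne_top
      (Ideal.eq_top_of_isUnit_mem _ hf (IsLocalization.Away.algebraMap_isUnit f))
  · intro hq
    let ψ : A →ₐ[R] q.asIdeal.ResidueField := IsScalarTower.toAlgHom R A _
    refine mem_range_incl q (IsLocalization.liftAlgHom (M := Submonoid.powers f) (f := Algebra.ofId R _) fun y => ?_) ψ
      q.asIdeal.ker_algebraMap_residueField
    obtain ⟨n, hn⟩ := y.2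
    show IsUnit (algebraMap R q.asIdeal.ResidueField y)
    rw [← hn, map_pow]
    refine IsUnit.pow n (isUnit_iff_ne_zero.mpr fun h => hq ?_)
    rw [IsScalarTower.algebraMap_apply R A, Ideal.algebraMap_residueField_eq_zero] at h
    exact h

end range

variable {W : ∀ (R A : Type u) [CommRing R] [CommRing A] [Algebra R A], Set (PrimeSpectrum A)}
  (hinv : ∀ (R R' A : Type u) [CommRing R] [CommRing R'] [CommRing A] [Algebra R R'] [Algebra R A]
    [Algebra.FinitePresentation R A], incl R' A ⁻¹' W R A = W R' (R' ⊗[R] A))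
  (hiso : ∀ (R A B : Type u) [CommRing R] [CommRing A] [CommRing B] [Algebra R A] [Algebra R B]
    [Algebra.FinitePresentation R A] (e : A ≃ₐ[R] B),
    PrimeSpectrum.comap e.toAlgHom.toRingHom ⁻¹' W R A = W R B)
  (hflat : ∀ (R A : Type u) [CommRing R] [IsNoetherianRing R] [CommRing A] [Algebra R A]
    [Algebra.FinitePresentation R A] [Module.Flat R A], IsConstructible (W R A))

section noeth

variable {R A : Type u} [CommRing R] [IsNoetherianRing R] [CommRing A] [Algebra R A] [Algebra.FinitePresentation R A]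

theorem fp_incl (R' : Type u) [CommRing R'] [Algebra R R'] [Algebra.FiniteType R R'] :
    ((Algebra.TensorProduct.includeRight : A →ₐ[R] R' ⊗[R] A).toRingHom).FinitePresentation := by
  haveI : IsNoetherianRing A := Algebra.FiniteType.isNoetherianRing R A
  haveI : Algebra.FinitePresentation R R' := Algebra.FinitePresentation.of_finiteType.mp inferInstance
  haveI : Algebra.FiniteType R (R' ⊗[R] A) := Algebra.FiniteType.trans (R := R) (S := R') inferInstance inferInstance
  refine RingHom.FinitePresentation.of_finiteType.mp ?_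
  refine RingHom.FiniteType.of_comp_finiteType (f := algebraMap R A) ?_
  rw [show ((Algebra.TensorProduct.includeRight : A →ₐ[R] R' ⊗[R] A).toRingHom).comp (algebraMap R A) =
      algebraMap R (R' ⊗[R] A) from RingHom.ext fun r => (Algebra.TensorProduct.includeRight : A →ₐ[R] R' ⊗[R] A).commutes r]
  exact RingHom.finiteType_algebraMap.mpr inferInstance

include hinv hflat

theorem free_part (f : R)
    (hfree : ∀ (L : Type u) [CommRing L] [Algebra R L], IsUnit (algebraMap R L f) → Module.Free L (L ⊗[R] A)) :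
    IsConstructible (W R A ∩ {q | f ∉ (Ring.below R q).asIdeal}) := by
  let L := Localization.Away f
  haveI := hfree L (IsLocalization.Away.algebraMap_isUnit f)
  have hL := hflat L (L ⊗[R] A)
  have heq : W R A ∩ {q | f ∉ (Ring.below R q).asIdeal} = incl L A '' W L (L ⊗[R] A) := by
    rw [← hinv R L A, Set.image_preimage_eq_inter_range]
    exact congrArg (W R A ∩ ·) (range_incl_away f).symm
  rw [heq]
  exact PrimeSpectrum.isConstructible_comap_image (fp_incl L) hL

theorem stratum (p : Ideal R) [p.IsPrime]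
    (ih : ∀ J : Ideal R, p < J → IsConstructible (W R A ∩ {q | J ≤ (Ring.below R q).asIdeal})) :
    IsConstructible (W R A ∩ {q | p ≤ (Ring.below R q).asIdeal}) := by
  let R₁ := R ⧸ p
  let A₁ := R₁ ⊗[R] A
  obtain ⟨f, hf0, hfree⟩ := Flat.GenericFree.freeAway_of_finite (R := R₁) A₁ A₁
  obtain ⟨f₀, rfl⟩ := Ideal.Quotient.mk_surjective f
  let f : R₁ := Ideal.Quotient.mk p f₀
  have hfree' := free_part hinv hflat (R := R₁) (A := A₁) f hfree
  have hlt : p < p ⊔ Ideal.span {f₀} := left_lt_sup.mpr fun h =>
    hf0 (Ideal.Quotient.eq_zero_iff_mem.mpr (h (Ideal.mem_span_singleton_self f₀)))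
  have hR : IsConstructible (W R₁ A₁) := by
    have : W R₁ A₁ = (W R₁ A₁ ∩ {q | f ∉ (Ring.below R₁ q).asIdeal}) ∪
        incl R₁ A ⁻¹' (W R A ∩ {q | p ⊔ Ideal.span {f₀} ≤ (Ring.below R q).asIdeal}) := by
      have hq : ∀ q : PrimeSpectrum A₁,
          (p ⊔ Ideal.span {f₀} ≤ (Ring.below R (incl R₁ A q)).asIdeal) ↔ f ∈ (Ring.below R₁ q).asIdeal := fun q => by
        rw [below_incl, sup_le_iff, Ideal.span_singleton_le_iff_mem]
        exact ⟨fun h => h.2, fun h => ⟨fun a ha => by
          rw [PrimeSpectrum.comap_asIdeal, Ideal.mem_comap, Ideal.Quotient.algebraMap_eq,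
            Ideal.Quotient.eq_zero_iff_mem.mpr ha]
          exact zero_mem _, h⟩⟩
      rw [Set.preimage_inter, hinv R R₁ A, Set.preimage_setOf_eq]
      ext q
      simp only [Set.mem_union, Set.mem_inter_iff, Set.mem_setOf_eq, hq]
      tauto
    rw [this]
    exact hfree'.union (Strata.isConstructible_comap _ (ih _ hlt))
  have heq : W R A ∩ {q | p ≤ (Ring.below R q).asIdeal} = incl R₁ A '' W R₁ A₁ := by
    rw [← hinv R R₁ A, Set.image_preimage_eq_inter_range]
    exact congrArg (W R A ∩ ·) (range_incl_quotient p).symm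
  rw [heq]
  exact PrimeSpectrum.isConstructible_comap_image (fp_incl R₁) hR

theorem isConstructible_inter (I : Ideal R) : IsConstructible (W R A ∩ {q | I ≤ (Ring.below R q).asIdeal}) := by
  induction I using WellFoundedGT.induction with
  | _ I ih =>
  by_cases hI : I.IsPrime
  · exact stratum hinv hflat I ih
  by_cases hT : I = ⊤
  · convert IsConstructible.empty
    exact Set.eq_empty_of_forall_notMem fun q hq => (Ring.below R q).2.ne_top (top_le_iff.mp (hT ▸ hq.2))
  obtain ⟨a, ha, b, hb, hab⟩ := (Ideal.not_isPrime_iff.mp hI).resolve_left hT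
  have : W R A ∩ {q | I ≤ (Ring.below R q).asIdeal} = (W R A ∩ {q | I ⊔ Ideal.span {a} ≤ (Ring.below R q).asIdeal}) ∪
      (W R A ∩ {q | I ⊔ Ideal.span {b} ≤ (Ring.below R q).asIdeal}) := by
    ext q
    simp only [Set.mem_inter_iff, Set.mem_union, Set.mem_setOf_eq, sup_le_iff, Ideal.span_singleton_le_iff_mem]
    refine ⟨fun ⟨h, hI'⟩ => ((Ring.below R q).2.mem_or_mem (hI' hab)).imp (fun h' => ⟨h, hI', h'⟩) fun h' => ⟨h, hI', h'⟩, ?_⟩
    rintro (⟨h, h', -⟩ | ⟨h, h', -⟩) <;> exact ⟨h, h'⟩
  rw [this]
  exact (ih _ (left_lt_sup.mpr fun h => ha (h (Ideal.mem_span_singleton_self a)))).union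
    (ih _ (left_lt_sup.mpr fun h => hb (h (Ideal.mem_span_singleton_self b))))

theorem isConstructible_noeth : IsConstructible (W R A) := by
  simpa using isConstructible_inter hinv hflat (R := R) (A := A) (⊥ : Ideal R)

end noeth

include hinv hiso hflat in
/-- An invariant family which is constructible in the flat Noetherian case is constructible. -/
theorem isConstructible (R A : Type u) [CommRing R] [CommRing A] [Algebra R A]
    [Algebra.FinitePresentation R A] : IsConstructible (W R A) := by
  let P := Algebra.Presentation.ofFinitePresentation R A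
  haveI : IsNoetherianRing P.Core := Algebra.FiniteType.isNoetherianRing ℤ _
  let A₀ := P.ModelOfHasCoeffs P.Core
  rw [← hiso R (R ⊗[P.Core] A₀) A (P.tensorModelOfHasCoeffsEquiv P.Core), ← hinv P.Core R A₀]
  exact Strata.isConstructible_comap _ (Strata.isConstructible_comap _ (isConstructible_noeth hinv hflat))

end Groth.Agent.FibreDepth.AlgStrata
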