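import Mathlib
import Groth.Agent.ModStalk.PullbackBC

/-! Local rings of fibres are quotients of the local rings of the total space. -/

set_option autoImplicit false
set_option backward.isDefEq.respectTransparency false
universe u
open CategoryTheory CategoryTheory.Limits AlgebraicGeometry IsLocalRing
open scoped TensorProduct

namespace Groth.Agent.FibreDepth.FibreStalk

theorem eq_zero_of_localization {K S : Type u} [Field K] [CommRing S] [IsLocalRing S] [Algebra K S]
    (M : Submonoid K) [IsLocalization M S] {a : S} (ha : a ∈ maximalIdeal S) : a = 0 := by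
  obtain ⟨⟨r, t⟩, h⟩ := IsLocalization.surj M a
  by_contra hne
  rcases eq_or_ne r 0 with hr | hr
  · have h' : a * algebraMap K S (t : K) = algebraMap K S r := h
    rw [hr, map_zero] at h'
    exact hne ((IsLocalization.map_units S t).mul_left_eq_zero.mp h')
  · have h' : a * algebraMap K S (t : K) = algebraMap K S r := h
    have hu : IsUnit (a * algebraMap K S (t : K)) := h' ▸ (isUnit_iff_ne_zero.mpr hr).map _
    exact (mem_maximalIdeal a).mp ha (isUnit_of_mul_isUnit_left hu)

theorem stalk_map_eq_zero {K : Type u} [Field K] (s : ↥(Spec (CommRingCat.of K)))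
    {a : (Spec (CommRingCat.of K)).presheaf.stalk s} (ha : a ∈ maximalIdeal _) : a = 0 := by
  let q : PrimeSpectrum K := s
  haveI : IsLocalRing ((Spec.structureSheaf K).presheaf.stalk q) :=
    IsLocalization.AtPrime.isLocalRing ((Spec.structureSheaf K).presheaf.stalk q) q.asIdeal
  exact eq_zero_of_localization (S := (Spec.structureSheaf K).presheaf.stalk q) q.asIdeal.primeCompl ha

variable {X Y : Scheme.{u}} (f : X ⟶ Y) (y : Y) (z : ↥(f.fiber y))

/-- the ideal of the fibre in the local ring of the total space -/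
noncomputable abbrev idl : Ideal (X.presheaf.stalk (f.fiberι y z)) :=
  (maximalIdeal (Y.presheaf.stalk (f (f.fiberι y z)))).map (f.stalkMap (f.fiberι y z)).hom

theorem surjective : Function.Surjective ((f.fiberι y).stalkMap z).hom :=
  Scheme.Hom.stalkMap_surjective (f.fiberι y) z

theorem ker_eq : RingHom.ker ((f.fiberι y).stalkMap z).hom = idl f y z := by
  have h : IsPullback (f.fiberι y) (f.fiberToSpecResidueField y) f (Y.fromSpecResidueField y) :=
    IsPullback.of_hasPullback _ _
  let g := Y.fromSpecResidueField y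
  let f' := f.fiberToSpecResidueField y
  let x := f.fiberι y z
  letI := (f.stalkMap x).hom.toAlgebra
  have hsp : g (f' z) = f x := by
    rw [← Scheme.Hom.comp_apply, ← h.w, Scheme.Hom.comp_apply]
  letI := (Y.presheaf.stalkSpecializes (specializes_of_eq hsp) ≫ g.stalkMap (f' z)).hom.toAlgebra
  obtain ⟨φ, hl, hr, Q, hQ, hK⟩ := ModStalk.exists_stalk_localization h z
  let R := Y.presheaf.stalk (f x)
  let A := X.presheaf.stalk x
  let R' := (Spec (Y.residueField y)).presheaf.stalk (f' z)
  let S := (f.fiber y).presheaf.stalk z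
  letI : Algebra (A ⊗[R] R') S := φ.toAlgebra
  haveI := hK
  have hRR : Function.Surjective (algebraMap R R') := by
    show Function.Surjective (Y.presheaf.stalkSpecializes _ ≫ g.stalkMap (f' z)).hom
    rw [CommRingCat.hom_comp]
    exact (Scheme.Hom.stalkMap_surjective g (f' z)).comp
      (ConcreteCategory.bijective_of_isIso (Y.presheaf.stalkCongr (Inseparable.of_eq hsp.symm)).hom).2
  haveI : IsLocalHom (algebraMap R R') := by
    show IsLocalHom (Y.presheaf.stalkSpecializes _ ≫ g.stalkMap (f' z)).hom
    haveI : IsLocalHom (Y.presheaf.stalkSpecializes (specializes_of_eq hsp)).hom := by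
      haveI : IsIso (Y.presheaf.stalkSpecializes (specializes_of_eq hsp)) :=
        (Y.presheaf.stalkCongr (Inseparable.of_eq hsp.symm)).isIso_hom
      exact isLocalHom_of_isIso _
    rw [CommRingCat.hom_comp]
    infer_instance
  have hR0 : ∀ r ∈ maximalIdeal R, algebraMap R R' r = 0 := fun r hr' =>
    stalk_map_eq_zero (f' z) (map_nonunit (algebraMap R R') r hr')
  have hRm : ∀ r, algebraMap R R' r = 0 → r ∈ maximalIdeal R := fun r hr' => by
    rw [mem_maximalIdeal]
    intro hu
    exact not_isUnit_zero (hr' ▸ hu.map (algebraMap R R'))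
  refine le_antisymm (fun a ha => ?_) (Ideal.map_le_iff_le_comap.mpr fun r hr' => ?_)
  · have ha' : algebraMap (A ⊗[R] R') S (a ⊗ₜ 1) = 0 := (hl a).trans ha
    obtain ⟨⟨s, hs⟩, hs0⟩ := (IsLocalization.map_eq_zero_iff Q.primeCompl S _).mp ha'
    have hAs : ∀ w : A ⊗[R] R', ∃ c : A, w = c ⊗ₜ 1 := fun w => by
      induction w using TensorProduct.induction_on with
      | zero => exact ⟨0, (TensorProduct.zero_tmul _ _).symm⟩
      | add u v hu hv =>
        obtain ⟨c, rfl⟩ := hu
        obtain ⟨c', rfl⟩ := hv
        exact ⟨c + c', (TensorProduct.add_tmul _ _ _).symm⟩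
      | tmul c r' =>
        obtain ⟨r, rfl⟩ := hRR r'
        exact ⟨r • c, by rw [Algebra.algebraMap_eq_smul_one, TensorProduct.smul_tmul]⟩
    obtain ⟨c, rfl⟩ := hAs s
    have hcu : IsUnit c := by
      have h1 : IsUnit (φ (c ⊗ₜ 1)) := IsLocalization.map_units S (⟨_, hs⟩ : Q.primeCompl)
      rw [hl] at h1
      exact (isUnit_map_iff ((f.fiberι y).stalkMap z).hom c).mp h1
    have h0 : a ⊗ₜ[R] (1 : R') = 0 := by
      refine (hcu.map (Algebra.TensorProduct.includeLeftRingHom (A := A) (B := R'))).mul_right_eq_zero.mp ?_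
      exact hs0
    -- kernel of `A → A ⊗ R'`
    let J : Ideal R := RingHom.ker (algebraMap R R')
    let e : (↑R ⧸ J) ≃ₐ[R] R' :=
      Ideal.quotientKerAlgEquivOfSurjective (f := Algebra.ofId R R') hRR
    have h1 := congrArg (TensorProduct.tensorQuotEquivQuotSMul A J)
      (congrArg (TensorProduct.congr (LinearEquiv.refl R A) e.symm.toLinearEquiv) h0)
    rw [map_zero, map_zero, TensorProduct.congr_tmul, LinearEquiv.refl_apply,
      show e.symm.toLinearEquiv (1 : R') = Ideal.Quotient.mk _ 1 from map_one e.symm,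
      TensorProduct.tensorQuotEquivQuotSMul_tmul_mk, one_smul, Submodule.Quotient.mk_eq_zero,
      Ideal.smul_top_eq_map] at h1
    exact Ideal.map_mono (fun r hr' => hRm r hr') h1
  · show (f.fiberι y).stalkMap z (algebraMap R A r) = 0
    rw [← hl, Algebra.algebraMap_eq_smul_one, TensorProduct.smul_tmul, ← Algebra.algebraMap_eq_smul_one,
      hR0 r hr', TensorProduct.tmul_zero, map_zero]

end Groth.Agent.FibreDepth.FibreStalk
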