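import Mathlib
import Groth.Prelude.Def_CohB1
import Groth.Agent.ModStalk.FinitePresentation
import Groth.Agent.ModStalk.PullbackQCoh

/-! Sections of finitely presented modules on small affine opens. -/

set_option autoImplicit false
set_option backward.isDefEq.respectTransparency false
universe u
open CategoryTheory CategoryTheory.Limits AlgebraicGeometry TopologicalSpace

namespace Groth.Agent.FibreDepth.Sections

theorem isQuasicoherent_of_isFP {X : Scheme.{u}} (F : X.Modules) (hF : CohB1.IsFP F) : F.IsQuasicoherent := by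
  obtain ⟨σ, hσ⟩ := hF
  exact σ.isQuasicoherent

/-- Global sections of a finitely presented module on a spectrum. -/
theorem fp_of_presentation {R : CommRingCat.{u}} (N : (Spec R).Modules) (P : N.Presentation)
    [Finite P.generators.I] [Finite P.relations.I] :
    Module.FinitePresentation R (moduleSpecΓFunctor.obj N) := by
  let g := (tilde.functor R).preimage <| (tildeFinsupp P.relations.I).hom ≫ P.relations.π ≫ kernel.ι _ ≫
    (tildeFinsupp P.generators.I).inv
  let iso : cokernel ((tilde.functor R).map g) ≅ cokernel (P.relations.π ≫ kernel.ι _) := by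
    refine cokernel.mapIso _ _ (tildeFinsupp _) (tildeFinsupp _) ?_
    simp only [g, (tilde.functor R).map_preimage]
    simp
  let e : (tilde.functor R).obj (cokernel g) ≅ N := PreservesCokernel.iso (tilde.functor R) g ≪≫ iso ≪≫
    IsColimit.coconePointUniqueUpToIso (colimit.isColimit _) P.isColimit
  let e' : cokernel g ≅ moduleSpecΓFunctor.obj N :=
    tilde.toTildeΓNatIso.app (cokernel g) ≪≫ moduleSpecΓFunctor.mapIso e
  haveI : Module.FinitePresentation R (cokernel g : ModuleCat R) := by
    haveI := Module.finitePresentation_of_surjective (LinearMap.range g.hom).mkQ (Submodule.mkQ_surjective _) ?_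
    · exact Module.FinitePresentation.of_equiv (ModuleCat.cokernelIsoRangeQuotient g).symm.toLinearEquiv
    rw [Submodule.ker_mkQ, LinearMap.range_eq_map]
    exact Module.Finite.fg_top.map _
  exact Module.FinitePresentation.of_equiv e'.toLinearEquiv

theorem exists_affine {X : Scheme.{u}} (F : X.Modules) (hF : CohB1.IsFP F) (x : X) :
    ∃ O : X.Opens, x ∈ O ∧ ∀ V : X.Opens, IsAffineOpen V → V ≤ O → Module.FinitePresentation Γ(X, V) Γ(F, V) := by
  obtain ⟨σ, hσ⟩ := hF
  have hcov := σ.coversTop
  rw [Opens.coversTop_iff, IsOpenCover] at hcov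
  obtain ⟨i, hi⟩ := Opens.mem_iSup.mp (hcov.ge (trivial : x ∈ (⊤ : X.Opens)))
  let O : X.Opens := σ.X i
  refine ⟨O, hi, fun V hV hVO => ?_⟩
  let P₀ := ModStalk.restrictPresentation F O (σ.presentation i)
  haveI hg : Finite P₀.generators.I := (hσ.isFinite_presentation i).isFiniteType_generators.finite
  haveI hr : Finite P₀.relations.I := (hσ.isFinite_presentation i).isFiniteType_relations.finite
  let j : Spec Γ(X, V) ⟶ (O : Scheme.{u}) := IsOpenImmersion.lift O.ι hV.fromSpec (by
    rw [Scheme.Opens.range_ι, hV.range_fromSpec]; exact hVO)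
  have hj : j ≫ O.ι = hV.fromSpec := IsOpenImmersion.lift_fac _ _ _
  haveI : IsOpenImmersion j := by
    haveI : IsOpenImmersion (j ≫ O.ι) := by rw [hj]; infer_instance
    exact IsOpenImmersion.of_comp j O.ι
  let N := F.restrict hV.fromSpec
  let i₁ : (F.restrict O.ι).restrict j ≅ N :=
    ((Scheme.Modules.restrictFunctorComp j O.ι).app F).symm ≪≫
      (Scheme.Modules.restrictFunctorCongr hj).app F
  let P := ModStalk.presIso i₁ (Scheme.Modules.presentationRestrict j P₀)
  haveI : Finite P.generators.I := hg
  haveI : Finite P.relations.I := hr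
  haveI := fp_of_presentation N P
  let L : ModuleCat Γ(X, V) := moduleSpecΓFunctor.obj N
  have hT : hV.fromSpec ''ᵁ ⊤ = V := by
    rw [Scheme.Hom.image_top_eq_opensRange, hV.opensRange_fromSpec]
  let e : Γ(F, V) → Γ(N, ⊤) := fun a =>
    (F.restrictAppIso hV.fromSpec ⊤).inv (F.presheaf.map (homOfLE hT.le).op a)
  have he : ∀ b : L, ∃ a, e a = b := fun b => by
    refine ⟨F.presheaf.map (homOfLE hT.ge).op ((F.restrictAppIso hV.fromSpec ⊤).hom b), ?_⟩
    show (F.restrictAppIso hV.fromSpec ⊤).inv _ = b
    rw [ModStalk.res_res, show (homOfLE (le_refl (hV.fromSpec ''ᵁ ⊤))).op = 𝟙 _ from rfl,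
      CategoryTheory.Functor.map_id, ConcreteCategory.id_apply]
    exact (F.restrictAppIso hV.fromSpec ⊤).hom_inv_id_apply b
  have hinj : Function.Injective e := fun a b hab => by
    have h1 : F.presheaf.map (homOfLE hT.le).op a = F.presheaf.map (homOfLE hT.le).op b :=
      (F.restrictAppIso hV.fromSpec ⊤).symm.addCommGroupIsoToAddEquiv.injective hab
    have h2 := congrArg (F.presheaf.map (homOfLE hT.ge).op) h1
    rw [ModStalk.res_res, ModStalk.res_res, show (homOfLE (le_refl V)).op = 𝟙 _ from rfl,
      CategoryTheory.Functor.map_id, ConcreteCategory.id_apply, ConcreteCategory.id_apply] at h2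
    exact h2
  have hsmul : ∀ (r : Γ(X, V)) (a : Γ(F, V)), e (r • a) = r • e a := fun r a => by
    apply (F.restrictAppIso hV.fromSpec ⊤).addCommGroupIsoToAddEquiv.injective
    show (F.restrictAppIso hV.fromSpec ⊤).hom (e (r • a)) = (F.restrictAppIso hV.fromSpec ⊤).hom (r • e a)
    rw [ModStalk.smul_restrict_fromSpec F hV ⊤ hT.le]
    show F.presheaf.map (homOfLE hT.le).op (r • a) = _ • F.presheaf.map (homOfLE hT.le).op a
    exact Scheme.Modules.map_smul _ _ _ _
  let e' : Γ(F, V) →ₗ[Γ(X, V)] L :=
    { toFun := e, map_add' := fun a b => by simp only [e, map_add], map_smul' := hsmul }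
  exact Module.FinitePresentation.of_equiv (LinearEquiv.ofBijective e' ⟨hinj, he⟩).symm

end Groth.Agent.FibreDepth.Sections
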