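import Mathlib
import Groth.Agent.FibreDepth.Affine
import Groth.Agent.IdealDepth.Localization

/-! From the fibre local ring of affine space to the fibre local ring of a closed subscheme. -/

set_option autoImplicit false
set_option backward.isDefEq.respectTransparency false
noncomputable section
universe u
open scoped TensorProduct
open IsLocalRing

namespace Groth.Agent.FibreDepth.Transport
open Ring Affine

/-- Depth and dimension of support are unchanged along a surjection of local rings. -/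
theorem depth_supportDim_eq {R S : Type u} [CommRing R] [CommRing S] [IsLocalRing R] [IsLocalRing S]
    [IsNoetherianRing R] [Algebra R S] (hs : Function.Surjective (algebraMap R S))
    (E : Type u) [AddCommGroup E] [Module S E] [Module R E] [IsScalarTower R S E] [Module.Finite R E] :
    LocCoh.depth R E = LocCoh.depth S E ∧ Module.supportDim R E = Module.supportDim S E := by
  haveI : IsNoetherianRing S := isNoetherianRing_of_surjective R S _ hs
  haveI : Module.Finite S E := Module.Finite.of_restrictScalars_finite R S E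
  refine ⟨?_, ?_⟩
  · rw [LocCoh.depth, LocCoh.depth, IdealDepth.idealDepth_map (S := S) (maximalIdeal R) E]
    congr 1
    rw [← IsLocalRing.eq_maximalIdeal (I := (maximalIdeal R).map (algebraMap R S))]
    rcases Ideal.map_eq_top_or_isMaximal_of_surjective _ hs (maximalIdeal.isMaximal R) with h | h
    · exfalso
      have h1 : (1 : S) ∈ (maximalIdeal R).map (algebraMap R S) := h ▸ Submodule.mem_top
      obtain ⟨a, ha, ha1⟩ := (Ideal.mem_map_iff_of_surjective _ hs).mp h1
      have hk : RingHom.ker (algebraMap R S) ≤ maximalIdeal R := le_maximalIdeal (RingHom.ker_ne_top _)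
      have h2 : (1 : R) - a ∈ maximalIdeal R := hk (by rw [RingHom.mem_ker, map_sub, map_one, ha1, sub_self])
      have h3 : (1 : R) ∈ maximalIdeal R := by simpa using add_mem h2 ha
      exact (maximalIdeal.isMaximal R).ne_top ((Ideal.eq_top_iff_one _).mpr h3)
    · exact h
  · rw [Module.supportDim_eq_ringKrullDim_quotient_annihilator, Module.supportDim_eq_ringKrullDim_quotient_annihilator]
    refine ringKrullDim_eq_of_ringEquiv ?_
    let g : R →+* S ⧸ Module.annihilator S E := (Ideal.Quotient.mk _).comp (algebraMap R S)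
    have hg : RingHom.ker g = Module.annihilator R E := by
      ext r
      rw [RingHom.mem_ker]
      show Ideal.Quotient.mk _ (algebraMap R S r) = 0 ↔ _
      rw [Ideal.Quotient.eq_zero_iff_mem, Module.mem_annihilator, Module.mem_annihilator]
      simp only [algebraMap_smul]
    exact (Ideal.quotEquivOfEq hg.symm).trans
      (RingHom.quotientKerEquivOfSurjective (f := g) (Ideal.Quotient.mk_surjective.comp hs))

variable {A : Type u} [CommRing A] {P : Type u} [CommRing P] [Algebra A P] {B : Type u} [CommRing B] [Algebra A B]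
  [Algebra P B]
  (hπ : Function.Surjective (algebraMap P B)) (Q : PrimeSpectrum B)

/-- the point of affine space -/
abbrev pt : PrimeSpectrum P := PrimeSpectrum.comap (algebraMap P B) Q

variable {M : Type u} [AddCommGroup M] [Module B M] [Module (P) M]
  [IsScalarTower P B M]
  {O : Type u} [CommRing O] [Algebra B O] [IsLocalization.AtPrime O Q.asIdeal]
  {F : Type u} [AddCommGroup F] [Module O F] [Module B F] [IsScalarTower B O F]
  (ℓ : M →ₗ[B] F) [IsLocalizedModule Q.asIdeal.primeCompl ℓ]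
  {S : Type u} [CommRing S] [IsLocalRing S] [Algebra O S] (hS : Function.Surjective (algebraMap O S))
  (hker : RingHom.ker (algebraMap O S) =
    (fibIdeal A (pt (P := P) Q)).map ((algebraMap B O).comp (algebraMap P B)))

include hπ hS hker in
theorem exists_rho :
    ∃ ρ : Loc A (pt (P := P) Q) →+* S, Function.Surjective ρ ∧
      ∀ a, ρ (algebraMap (P) _ a) =
        algebraMap O S (algebraMap B O (algebraMap (P) B a)) := by
  let q : PrimeSpectrum P := pt Q
  let φ : P →+* S := (algebraMap O S).comp ((algebraMap B O).comp (algebraMap P B))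
  have hu : ∀ s : q.asIdeal.primeCompl, IsUnit (φ s) := fun s =>
    (IsLocalization.map_units O (⟨algebraMap P B s, s.2⟩ : Q.asIdeal.primeCompl)).map (algebraMap O S)
  let ρ₀ : Localization.AtPrime q.asIdeal →+* S := IsLocalization.lift hu
  have hρ₀ : ∀ a, ρ₀ (algebraMap P _ a) = φ a := fun a => IsLocalization.lift_eq hu a
  have hI : ∀ a ∈ (fibIdeal A q).map (algebraMap P (Localization.AtPrime q.asIdeal)), ρ₀ a = 0 := by
    refine fun a ha => RingHom.mem_ker.mp (Ideal.map_le_iff_le_comap.mpr (fun c hc => ?_) ha)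
    show ρ₀ (algebraMap P _ c) = 0
    rw [hρ₀]
    show algebraMap O S _ = 0
    rw [← RingHom.mem_ker, hker]
    exact Ideal.mem_map_of_mem _ hc
  refine ⟨Ideal.Quotient.lift _ ρ₀ hI, fun t => ?_, hρ₀⟩
  obtain ⟨o, rfl⟩ := hS t
  obtain ⟨⟨b, s⟩, hbs⟩ := IsLocalization.surj Q.asIdeal.primeCompl o
  obtain ⟨b', rfl⟩ := hπ b
  obtain ⟨s', hs'⟩ := hπ (s : B)
  let s'' : q.asIdeal.primeCompl := ⟨s', fun h => s.2 (hs' ▸ h)⟩
  refine ⟨Ideal.Quotient.mk _ (IsLocalization.mk' _ b' s''), ?_⟩
  show ρ₀ _ = _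
  rw [IsLocalization.lift_mk'_spec]
  show algebraMap O S (algebraMap B O (algebraMap P B b')) = algebraMap O S (algebraMap B O (algebraMap P B s')) * algebraMap O S o
  rw [← map_mul, hs']
  exact congrArg _ (hbs.symm.trans (mul_comm _ _))

/-- Elements of the fibre of a module at a point. -/
theorem exists_unit_smul (q : PrimeSpectrum P) {M : Type u} [AddCommGroup M] [Module P M] (z : Loc A q ⊗[P] M) :
    ∃ (c : Loc A q) (m : M), IsUnit c ∧ z = c • ((1 : Loc A q) ⊗ₜ m) := by
  let Pq := Localization.AtPrime q.asIdeal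
  induction z using TensorProduct.induction_on with
  | zero => exact ⟨1, 0, isUnit_one, by simp⟩
  | tmul l m =>
    obtain ⟨w, rfl⟩ := Ideal.Quotient.mk_surjective l
    obtain ⟨a, s, rfl⟩ := IsLocalization.exists_mk'_eq q.asIdeal.primeCompl w
    refine ⟨Ideal.Quotient.mk _ (IsLocalization.mk' Pq 1 s), a • m, ?_, ?_⟩
    · exact (IsUnit.of_mul_eq_one (algebraMap P Pq (s : P)) (by rw [IsLocalization.mk'_spec, map_one])).map _
    · rw [TensorProduct.tmul_smul, ← algebraMap_smul (Loc A q) a, smul_smul, TensorProduct.smul_tmul',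
        smul_eq_mul, mul_one]
      congr 1
      show Ideal.Quotient.mk _ _ = Ideal.Quotient.mk _ _ * Ideal.Quotient.mk _ (algebraMap P Pq a)
      rw [← map_mul, mul_comm, IsLocalization.mul_mk'_eq_mk'_of_mul, mul_one]
  | add x y hx hy =>
    obtain ⟨c, m, hc, rfl⟩ := hx
    obtain ⟨c', m', hc', rfl⟩ := hy
    obtain ⟨w, hw⟩ : ∃ w : Pq, (Ideal.Quotient.mk _ w : Loc A q) = (↑hc.unit⁻¹ : Loc A q) * c' :=
      Ideal.Quotient.mk_surjective _
    obtain ⟨a, s, rfl⟩ := IsLocalization.exists_mk'_eq q.asIdeal.primeCompl w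
    refine ⟨c * Ideal.Quotient.mk _ (IsLocalization.mk' Pq 1 s), (s : P) • m + a • m',
      hc.mul ((IsUnit.of_mul_eq_one (algebraMap P Pq (s : P)) (by rw [IsLocalization.mk'_spec, map_one])).map _), ?_⟩
    rw [TensorProduct.tmul_add, TensorProduct.tmul_smul, TensorProduct.tmul_smul,
      ← algebraMap_smul (Loc A q) (s : P), ← algebraMap_smul (Loc A q) a, smul_add, smul_smul, smul_smul]
    congr 1
    · congr 1
      show c = c * Ideal.Quotient.mk _ _ * Ideal.Quotient.mk _ (algebraMap P Pq (s : P))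
      rw [mul_assoc, ← map_mul, IsLocalization.mk'_spec, map_one, map_one, mul_one]
    · congr 1
      show c' = c * Ideal.Quotient.mk _ _ * Ideal.Quotient.mk _ (algebraMap P Pq a)
      rw [mul_assoc, ← map_mul, mul_comm (IsLocalization.mk' Pq (1 : P) s), IsLocalization.mul_mk'_eq_mk'_of_mul,
        mul_one, hw, ← mul_assoc, IsUnit.mul_val_inv, one_mul]

/-- An element of a localized module in an extended ideal times it. -/
theorem exists_smul_mem (I : Ideal B) {v : F}
    (hv : v ∈ (I.map (algebraMap B O)) • (⊤ : Submodule O F)) :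
    ∃ (s : Q.asIdeal.primeCompl) (n : M), n ∈ I • (⊤ : Submodule B M) ∧ (s : B) • v = ℓ n := by
  refine Submodule.smul_induction_on hv (fun r hr w _ => ?_) ?_
  · obtain ⟨⟨⟨r₀, hr₀⟩, t⟩, hrt⟩ := (IsLocalization.mem_map_algebraMap_iff Q.asIdeal.primeCompl O).mp hr
    obtain ⟨⟨m₀, t'⟩, hmt⟩ := IsLocalizedModule.surj Q.asIdeal.primeCompl ℓ w
    refine ⟨t * t', r₀ • m₀, Submodule.smul_mem_smul hr₀ Submodule.mem_top, ?_⟩
    have h2 : (t' : B) • w = ℓ m₀ := hmt
    rw [map_smul, ← h2, Submonoid.coe_mul, mul_smul, smul_comm (t' : B) r, ← algebraMap_smul O (t : B),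
      smul_smul, mul_comm, show r * algebraMap B O (t : B) = algebraMap B O r₀ from hrt, algebraMap_smul]
  · rintro x y ⟨s, n, hn, hs⟩ ⟨s', n', hn', hs'⟩
    refine ⟨s * s', (s' : B) • n + (s : B) • n', add_mem (Submodule.smul_mem _ _ hn) (Submodule.smul_mem _ _ hn'), ?_⟩
    rw [map_add, map_smul, map_smul, ← hs, ← hs', Submonoid.coe_mul, smul_add, smul_smul, smul_smul,
      mul_comm (s' : B)]

include hπ hker hS in
set_option maxHeartbeats 1000000 in
theorem tmul_eq_zero {m : M} (h : (1 : S) ⊗ₜ[O] ℓ m = 0) :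
    (1 : Loc A (pt (P := P) Q)) ⊗ₜ[P] m = 0 := by
  let q : PrimeSpectrum P := pt Q
  let pB : Ideal B := (fibIdeal A q).map (algebraMap P B)
  let J := RingHom.ker (algebraMap O S)
  let e : (O ⧸ J) ≃ₐ[O] S := Ideal.quotientKerAlgEquivOfSurjective (f := Algebra.ofId O S) hS
  have h1 := congrArg (TensorProduct.quotTensorEquivQuotSMul F J)
    (congrArg (TensorProduct.congr e.symm.toLinearEquiv (LinearEquiv.refl O F)) h)
  rw [map_zero, map_zero, TensorProduct.congr_tmul, LinearEquiv.refl_apply,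
    show e.symm.toLinearEquiv (1 : S) = Ideal.Quotient.mk _ 1 from map_one e.symm,
    TensorProduct.quotTensorEquivQuotSMul_mk_tmul, one_smul, Submodule.Quotient.mk_eq_zero] at h1
  have hJ : J = pB.map (algebraMap B O) := by
    show RingHom.ker (algebraMap O S) = _
    rw [hker, ← Ideal.map_map]
  rw [hJ] at h1
  obtain ⟨s, n, hn, hsn⟩ := exists_smul_mem Q ℓ pB h1
  rw [← map_smul] at hsn
  obtain ⟨t, ht⟩ := (IsLocalizedModule.eq_iff_exists Q.asIdeal.primeCompl ℓ).mp hsn
  obtain ⟨r', hr'⟩ := hπ ((t : B) * (s : B))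
  have hr'q : r' ∉ q.asIdeal := fun h => (t * s).2 (by rw [Submonoid.coe_mul, ← hr']; exact h)
  have hkill : ∀ m ∈ pB • (⊤ : Submodule B M), (1 : Loc A q) ⊗ₜ[P] m = 0 := fun m hm => by
    refine Submodule.smul_induction_on hm (fun r hr n _ => ?_) (fun x y hx hy => by
      rw [TensorProduct.tmul_add, hx, hy, add_zero])
    obtain ⟨c, hc, rfl⟩ := (Ideal.mem_map_iff_of_surjective _ hπ).mp hr
    rw [algebraMap_smul, TensorProduct.tmul_smul, ← algebraMap_smul (Loc A q) c,
      show algebraMap P (Loc A q) c = 0 from Ideal.Quotient.eq_zero_iff_mem.mpr (Ideal.mem_map_of_mem _ hc)]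
    exact zero_smul (Loc A q) ((1 : Loc A q) ⊗ₜ[P] n)
  have h4 : IsUnit (algebraMap P (Loc A q) r') :=
    (IsLocalization.map_units (Localization.AtPrime q.asIdeal) (⟨r', hr'q⟩ : q.asIdeal.primeCompl)).map (Ideal.Quotient.mk _)
  refine h4.smul_eq_zero.mp ?_
  rw [algebraMap_smul, ← TensorProduct.tmul_smul]
  refine hkill _ ?_
  rw [← algebraMap_smul B r', hr', mul_smul]
  exact ht ▸ Submodule.smul_mem _ _ hn

omit [Algebra P B] in
theorem transport_aux (q : PrimeSpectrum P) [IsNoetherianRing (Loc A q)] {M : Type u} [AddCommGroup M]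
    [Module P M] [Module.Finite P M] {S : Type u} [CommRing S] [IsLocalRing S]
    (ρ : Loc A q →+* S) (hρ : Function.Surjective ρ) (E : Type u) [AddCommGroup E] [Module S E]
    (j : M →+ E) (hj : ∀ a m, j (a • m) = ρ (algebraMap P (Loc A q) a) • j m)
    (hgenE : ∀ e, ∃ (t : S) (m : M), e = t • j m) (hj0 : ∀ m, j m = 0 → (1 : Loc A q) ⊗ₜ[P] m = 0) :
    dep (A := A) q M = LocCoh.depth S E ∧
    Module.supportDim (Loc A q) (Loc A q ⊗[P] M) = Module.supportDim S E ∧
    (Subsingleton E ↔ Subsingleton (Loc A q ⊗[P] M)) := by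
  letI : Algebra (Loc A q) S := ρ.toAlgebra
  letI : Module (Loc A q) E := Module.compHom E ρ
  letI : Module P E := Module.compHom E (ρ.comp (algebraMap P (Loc A q)))
  haveI : IsScalarTower (Loc A q) S E := IsScalarTower.of_algebraMap_smul fun _ _ => rfl
  haveI : IsScalarTower P (Loc A q) E := by
    refine ⟨fun a l e => ?_⟩
    obtain ⟨w, rfl⟩ := Ideal.Quotient.mk_surjective l
    show ρ (Ideal.Quotient.mk _ (a • w)) • e =
      ρ (Ideal.Quotient.mk _ (algebraMap P _ a)) • ρ (Ideal.Quotient.mk _ w) • e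
    rw [Algebra.smul_def, map_mul, map_mul, mul_smul]
  let θ : M →ₗ[P] E := { toFun := j, map_add' := map_add j, map_smul' := fun a m => hj a m }
  let u := θ.liftBaseChange (Loc A q)
  have husurj : Function.Surjective u := fun e => by
    obtain ⟨t, m, rfl⟩ := hgenE e
    obtain ⟨l, rfl⟩ := hρ t
    exact ⟨l ⊗ₜ m, LinearMap.liftBaseChange_tmul _ _ _ _⟩
  have hinj : Function.Injective u := by
    rw [injective_iff_map_eq_zero]
    intro z hz
    obtain ⟨c, m, hc, rfl⟩ := exists_unit_smul q z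
    rw [map_smul, hc.smul_eq_zero, LinearMap.liftBaseChange_tmul, one_smul] at hz
    rw [hj0 m hz, smul_zero]
  let e := LinearEquiv.ofBijective u ⟨hinj, husurj⟩
  haveI : Module.Finite (Loc A q) E := Module.Finite.equiv e
  obtain ⟨h1, h2⟩ := depth_supportDim_eq (R := Loc A q) (S := S) hρ E
  exact ⟨(IdealDepth.congr _ e).trans h1, (Module.supportDim_eq_of_equiv e).trans h2,
    e.toEquiv.subsingleton_congr.symm⟩

include hπ hS hker ℓ in
theorem transport [IsNoetherianRing (Loc A (pt (P := P) Q))] [Module.Finite P M] :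
    dep (A := A) (pt (P := P) Q) M = LocCoh.depth S (S ⊗[O] F) ∧
    Module.supportDim (Loc A (pt (P := P) Q)) (Loc A (pt (P := P) Q) ⊗[P] M) =
      Module.supportDim S (S ⊗[O] F) ∧
    (Subsingleton (S ⊗[O] F) ↔ Subsingleton (Loc A (pt (P := P) Q) ⊗[P] M)) := by
  obtain ⟨ρ, hρs, hρ⟩ := exists_rho hπ Q hS hker
  refine transport_aux _ ρ hρs (S ⊗[O] F)
    (((TensorProduct.mk O S F 1).toAddMonoidHom).comp ℓ.toAddMonoidHom) (fun a m => ?_) (fun e => ?_)
    fun m hm => tmul_eq_zero hπ Q ℓ hS hker hm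
  · show (1 : S) ⊗ₜ[O] ℓ (a • m) = ρ (algebraMap P _ a) • ((1 : S) ⊗ₜ[O] ℓ m)
    rw [hρ, ← algebraMap_smul B a m, map_smul, ← algebraMap_smul O (algebraMap P B a) (ℓ m),
      TensorProduct.tmul_smul, ← algebraMap_smul S (algebraMap B O (algebraMap P B a))]
  · suffices h : ∃ (m : M) (t : S), e = t • ((1 : S) ⊗ₜ[O] ℓ m) by
      obtain ⟨m, t, h⟩ := h; exact ⟨t, m, h⟩
    induction e using TensorProduct.induction_on with
    | zero => exact ⟨0, 0, by rw [zero_smul]⟩
    | tmul t v =>
      obtain ⟨⟨m, s⟩, hms⟩ := IsLocalizedModule.surj Q.asIdeal.primeCompl ℓ v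
      refine ⟨m, t * algebraMap O S ↑(IsLocalization.map_units O s).unit⁻¹, ?_⟩
      have hv : algebraMap B O (s : B) • v = ℓ m := (algebraMap_smul O (s : B) v).trans hms
      rw [TensorProduct.smul_tmul', smul_eq_mul, mul_one, ← hv, TensorProduct.tmul_smul,
        TensorProduct.smul_tmul', Algebra.smul_def, mul_left_comm, ← map_mul, IsUnit.mul_val_inv,
        map_one, mul_one]
    | add a b ha hb =>
      obtain ⟨m, t, rfl⟩ := ha
      obtain ⟨m', t', rfl⟩ := hb
      obtain ⟨o, rfl⟩ := hS t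
      obtain ⟨o', rfl⟩ := hS t'
      obtain ⟨⟨m'', s⟩, hms⟩ := IsLocalizedModule.surj Q.asIdeal.primeCompl ℓ (o • ℓ m + o' • ℓ m')
      refine ⟨m'', algebraMap O S ↑(IsLocalization.map_units O s).unit⁻¹, ?_⟩
      have hv : algebraMap B O (s : B) • (o • ℓ m + o' • ℓ m') = ℓ m'' :=
        (algebraMap_smul O (s : B) _).trans hms
      rw [algebraMap_smul, algebraMap_smul, algebraMap_smul, ← TensorProduct.tmul_smul, ← TensorProduct.tmul_smul,
        ← TensorProduct.tmul_smul, ← TensorProduct.tmul_add, ← hv, smul_smul, IsUnit.val_inv_mul, one_smul]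

end Groth.Agent.FibreDepth.Transport
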