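import Mathlib
import Groth.Prelude.Def_CAlg
import Groth.Prelude.Def_FlatMod2
import Groth.Agent.FibreDepth.FibreStalk
import Groth.Agent.FibreDepth.Transport
import Groth.Agent.FibreDepth.Support
import Groth.Agent.FibreDepth.Sections
import Groth.Agent.ModStalk.Localization
import Groth.Agent.Equidim.Scheme

/-! The fibres of a module in an affine chart. -/

set_option autoImplicit false
set_option backward.isDefEq.respectTransparency false
noncomputable section
universe u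
open CategoryTheory AlgebraicGeometry TopologicalSpace Topology
open scoped TensorProduct

namespace Groth.Agent.FibreDepth.Chart
open Ring Affine

variable {X Y : Scheme.{u}} (f : X ⟶ Y) (F : X.Modules) {U₀ : Y.Opens} (hU₀ : IsAffineOpen U₀)
  {V : X.Opens} (hV : IsAffineOpen V) (hVU : V ≤ f ⁻¹ᵁ U₀) [Algebra Γ(Y, U₀) Γ(X, V)]
  (halg : algebraMap Γ(Y, U₀) Γ(X, V) = (f.appLE U₀ V hVU).hom)

include hU₀ hV halg in
theorem below_primeIdealOf (w : X) (hw : w ∈ V) :
    below Γ(Y, U₀) (hV.primeIdealOf ⟨w, hw⟩) = hU₀.primeIdealOf ⟨f w, hVU hw⟩ := by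
  refine hU₀.fromSpec.isOpenEmbedding.injective ?_
  rw [← Equidim.f_fromSpec f hU₀ hV hVU halg, hV.fromSpec_primeIdealOf, hU₀.fromSpec_primeIdealOf]

include halg in
theorem stalkMap_germ (w : X) (hw : w ∈ V) (a : Γ(Y, U₀)) :
    f.stalkMap w (Y.presheaf.germ U₀ (f w) (hVU hw) a) = X.presheaf.germ V w hw (algebraMap Γ(Y, U₀) Γ(X, V) a) := by
  rw [Scheme.Hom.germ_stalkMap_apply, halg]
  show _ = X.presheaf.germ V w hw ((f.app U₀ ≫ X.presheaf.map (homOfLE hVU).op) a)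
  rw [CommRingCat.comp_apply, TopCat.Presheaf.germ_res_apply]

include hU₀ hV halg in
theorem fibre_ideal_eq (w : X) (hw : w ∈ V) :
    (IsLocalRing.maximalIdeal (Y.presheaf.stalk (f w))).map (f.stalkMap w).hom =
      (below Γ(Y, U₀) (hV.primeIdealOf ⟨w, hw⟩)).asIdeal.map
        ((X.presheaf.germ V w hw).hom.comp (algebraMap Γ(Y, U₀) Γ(X, V))) := by
  letI := TopCat.Presheaf.algebra_section_stalk Y.presheaf (⟨f w, hVU hw⟩ : U₀)
  haveI := hU₀.isLocalization_stalk ⟨f w, hVU hw⟩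
  rw [below_primeIdealOf f hU₀ hV hVU halg w hw,
    ← IsLocalization.AtPrime.map_eq_maximalIdeal (hU₀.primeIdealOf ⟨f w, hVU hw⟩).asIdeal (Y.presheaf.stalk (f w)),
    Ideal.map_map]
  congr 1
  exact RingHom.ext fun a => stalkMap_germ f hVU halg w hw a

include hU₀ hV halg in
/-- Sections of a flat module are flat. -/
theorem flat_sections [F.IsQuasicoherent] (hflat : FlatMod.IsFlatOver f F) [Module Γ(Y, U₀) Γ(F, V)]
    [IsScalarTower Γ(Y, U₀) Γ(X, V) Γ(F, V)] : Module.Flat Γ(Y, U₀) Γ(F, V) := by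
  refine Module.flat_of_isLocalized_maximal Γ(X, V) _
    (fun P _ => LocalizedModule P.primeCompl Γ(F, V))
    (fun P _ => LocalizedModule.mkLinearMap P.primeCompl Γ(F, V)) fun P hP => ?_
  rw [← Flat.FlatAt.flatAt_iff_localizedModule]
  obtain ⟨⟨w, hw⟩, hwP⟩ := ModStalk.exists_point hV P
  subst hwP
  letI := ModStalk.sectionModule F (⟨w, hw⟩ : V)
  haveI := ModStalk.isLocalizedModule_germ hV F (⟨w, hw⟩ : V)
  letI := TopCat.Presheaf.algebra_section_stalk Y.presheaf (⟨f w, hVU hw⟩ : U₀)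
  haveI := hU₀.isLocalization_stalk ⟨f w, hVU hw⟩
  letI := FlatMod.moduleStalkOver f F w
  letI : Module Γ(Y, U₀) (F.presheaf.stalk w) := Module.compHom _ (algebraMap Γ(Y, U₀) Γ(X, V))
  haveI : IsScalarTower Γ(Y, U₀) Γ(X, V) (F.presheaf.stalk w) :=
    IsScalarTower.of_algebraMap_smul fun _ _ => rfl
  haveI : IsScalarTower Γ(Y, U₀) (Y.presheaf.stalk (f w)) (F.presheaf.stalk w) :=
    IsScalarTower.of_algebraMap_smul fun a v => by
      show f.stalkMap w (Y.presheaf.germ U₀ (f w) (hVU hw) a) • v =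
        X.presheaf.germ V w hw (algebraMap Γ(Y, U₀) Γ(X, V) a) • v
      rw [stalkMap_germ f hVU halg w hw a]
  haveI : Module.Flat (Y.presheaf.stalk (f w)) (F.presheaf.stalk w) := hflat w
  haveI : Module.Flat Γ(Y, U₀) (Y.presheaf.stalk (f w)) :=
    IsLocalization.flat _ (hU₀.primeIdealOf ⟨f w, hVU hw⟩).asIdeal.primeCompl
  refine (Flat.FlatAt.flatAt_iff _ (ModStalk.germₗ F (⟨w, hw⟩ : V))).mpr ?_
  exact Module.Flat.trans Γ(Y, U₀) (Y.presheaf.stalk (f w)) (F.presheaf.stalk w)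

variable {σ : Type} [Finite σ] [Algebra (MvPolynomial σ Γ(Y, U₀)) Γ(X, V)]
  [IsScalarTower Γ(Y, U₀) (MvPolynomial σ Γ(Y, U₀)) Γ(X, V)]
  (hπ : Function.Surjective (algebraMap (MvPolynomial σ Γ(Y, U₀)) Γ(X, V)))
  [Module (MvPolynomial σ Γ(Y, U₀)) Γ(F, V)]
  [IsScalarTower (MvPolynomial σ Γ(Y, U₀)) Γ(X, V) Γ(F, V)]
  [Module.Finite (MvPolynomial σ Γ(Y, U₀)) Γ(F, V)]

include hU₀ hπ halg in
set_option maxHeartbeats 1000000 in
/-- The stalk of the fibre of the module, computed in affine space. -/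
theorem stalk_eq [F.IsQuasicoherent] (y : Y) (z : ↥(f.fiber y)) (Q : PrimeSpectrum Γ(X, V))
    (hz : f.fiberι y z = hV.fromSpec Q) :
    dep (A := Γ(Y, U₀)) (Transport.pt (P := MvPolynomial σ Γ(Y, U₀)) Q) Γ(F, V) =
        LocCoh.depth ((f.fiber y).presheaf.stalk z)
          (((Scheme.Modules.pullback (f.fiberι y)).obj F).presheaf.stalk z) ∧
      Module.supportDim (Loc Γ(Y, U₀) (Transport.pt (P := MvPolynomial σ Γ(Y, U₀)) Q)) (Loc Γ(Y, U₀) (Transport.pt (P := MvPolynomial σ Γ(Y, U₀)) Q) ⊗[(MvPolynomial σ Γ(Y, U₀))] Γ(F, V)) =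
        Module.supportDim ((f.fiber y).presheaf.stalk z)
          (((Scheme.Modules.pullback (f.fiberι y)).obj F).presheaf.stalk z) ∧
      (Subsingleton (((Scheme.Modules.pullback (f.fiberι y)).obj F).presheaf.stalk z) ↔
        Subsingleton (Loc Γ(Y, U₀) (Transport.pt (P := MvPolynomial σ Γ(Y, U₀)) Q) ⊗[(MvPolynomial σ Γ(Y, U₀))] Γ(F, V))) := by
  let w := f.fiberι y z
  have hw : w ∈ V := by
    show f.fiberι y z ∈ V
    rw [hz]; exact hV.range_fromSpec.subset ⟨Q, rfl⟩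
  have hQ : hV.primeIdealOf ⟨w, hw⟩ = Q :=
    hV.fromSpec.isOpenEmbedding.injective ((hV.fromSpec_primeIdealOf _).trans hz)
  letI := ModStalk.sectionModule F (⟨w, hw⟩ : V)
  letI := TopCat.Presheaf.algebra_section_stalk X.presheaf (⟨w, hw⟩ : V)
  haveI := ModStalk.sectionTower F (⟨w, hw⟩ : V)
  haveI hloc : IsLocalization.AtPrime (X.presheaf.stalk w) Q.asIdeal := hQ ▸ hV.isLocalization_stalk ⟨w, hw⟩
  haveI hlocM : IsLocalizedModule Q.asIdeal.primeCompl (ModStalk.germₗ F (⟨w, hw⟩ : V)) :=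
    hQ ▸ ModStalk.isLocalizedModule_germ hV F (⟨w, hw⟩ : V)
  letI := ((f.fiberι y).stalkMap z).hom.toAlgebra
  have hbelow : below Γ(Y, U₀) (Transport.pt (P := MvPolynomial σ Γ(Y, U₀)) Q) = below Γ(Y, U₀) Q := PrimeSpectrum.ext (by
    show (Q.asIdeal.comap (algebraMap (MvPolynomial σ Γ(Y, U₀)) Γ(X, V))).comap (algebraMap Γ(Y, U₀) (MvPolynomial σ Γ(Y, U₀))) = _
    rw [Ideal.comap_comap, ← IsScalarTower.algebraMap_eq]
    rfl)
  have hker : RingHom.ker (algebraMap (X.presheaf.stalk w) ((f.fiber y).presheaf.stalk z)) =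
      (fibIdeal Γ(Y, U₀) (Transport.pt (P := MvPolynomial σ Γ(Y, U₀)) Q)).map
        ((algebraMap Γ(X, V) (X.presheaf.stalk w)).comp (algebraMap (MvPolynomial σ Γ(Y, U₀)) Γ(X, V))) := by
    rw [fibIdeal, Ideal.map_map, RingHom.comp_assoc, ← IsScalarTower.algebraMap_eq, hbelow]
    refine (FibreStalk.ker_eq f y z).trans ((fibre_ideal_eq f hU₀ hV hVU halg w hw).trans ?_)
    rw [hQ]
    rfl
  haveI : IsNoetherianRing (Loc Γ(Y, U₀) (Transport.pt (P := MvPolynomial σ Γ(Y, U₀)) Q)) := inferInstance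
  obtain ⟨h1, h2, h3⟩ := Transport.transport (A := Γ(Y, U₀)) (P := (MvPolynomial σ Γ(Y, U₀))) hπ Q (ModStalk.germₗ F (⟨w, hw⟩ : V))
    (S := (f.fiber y).presheaf.stalk z) (FibreStalk.surjective f y z) hker
  obtain ⟨e, -⟩ := ModStalk.exists_pullStalk_equiv (f.fiberι y) F z
  exact ⟨h1.trans (IdealDepth.congr _ e).symm, h2.trans (Module.supportDim_eq_of_equiv e).symm,
    e.toEquiv.subsingleton_congr.trans h3⟩

omit [Finite σ] in
include hπ in
theorem cl_eq (Q : PrimeSpectrum Γ(X, V)) :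
    Support.cl (A := Γ(Y, U₀)) Q = Support.cl (A := Γ(Y, U₀)) (Transport.pt (P := MvPolynomial σ Γ(Y, U₀)) Q) := by
  let π := PrimeSpectrum.comap (algebraMap (MvPolynomial σ Γ(Y, U₀)) Γ(X, V))
  have hb : ∀ R, below Γ(Y, U₀) (π R) = below Γ(Y, U₀) R := fun R => PrimeSpectrum.ext (by
    show (R.asIdeal.comap (algebraMap (MvPolynomial σ Γ(Y, U₀)) Γ(X, V))).comap (algebraMap Γ(Y, U₀) (MvPolynomial σ Γ(Y, U₀))) = _
    rw [Ideal.comap_comap, ← IsScalarTower.algebraMap_eq]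
    rfl)
  have hπle : ∀ a b, π a ≤ π b ↔ a ≤ b := fun a b => Ideal.comap_le_comap_iff_of_surjective _ hπ _ _
  let g : {R : PrimeSpectrum Γ(X, V) // Q ≤ R ∧ below Γ(Y, U₀) R = below Γ(Y, U₀) Q} →
      {R : PrimeSpectrum (MvPolynomial σ Γ(Y, U₀)) // π Q ≤ R ∧ below Γ(Y, U₀) R = below Γ(Y, U₀) (π Q)} :=
    fun R => ⟨π R.1, (hπle _ _).mpr R.2.1, by rw [hb, hb]; exact R.2.2⟩
  have hg : Function.Surjective g := fun R => by
    obtain ⟨R', hR'⟩ : R.1 ∈ Set.range π := by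
      rw [range_comap_of_surjective _ _ hπ]
      exact (Ideal.ker_le_comap _).trans R.2.1
    exact ⟨⟨R', (hπle _ _).mp (hR' ▸ R.2.1), by rw [← hb, ← hb, hR']; exact R.2.2⟩, Subtype.ext hR'⟩
  exact Order.krullDim_eq_of_orderIso (OrderIso.ofSurjective
    (OrderEmbedding.ofMapLEIff g fun a b => hπle a.1 b.1) hg)

include hU₀ hV halg in
set_option maxHeartbeats 1600000 in
/-- The dimension of the closure in the fibre. -/
theorem closure_dim_eq [LocallyOfFiniteType f] (y : Y) (z : ↥(f.fiber y)) (Q : PrimeSpectrum Γ(X, V))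
    (hz : f.fiberι y z = hV.fromSpec Q) :
    topologicalKrullDim ↥(closure ({z} : Set ↥(f.fiber y))) = Support.cl (A := Γ(Y, U₀)) Q := by
  let π := AlgHom.id Γ(Y, U₀) Γ(X, V)
  have hπ' : Function.Surjective π := Function.surjective_id
  let p := below Γ(Y, U₀) Q
  have hpy : hU₀.fromSpec p = y := by
    rw [← Equidim.f_fromSpec f hU₀ hV hVU halg, ← hz]
    exact (f.range_fiberι y).subset ⟨z, rfl⟩
  obtain ⟨M, hM⟩ := Equidim.Core.exists_pr p Q rfl
  have hMz : Equidim.ch hV π p M = f.fiberι y z := by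
    rw [hz, Equidim.ch, hM]; rfl
  rw [← hM, ← Support.coheight_eq_cl, IdealDepth.coheight_eq_ringKrullDim_quotient]
  let ι := f.fiberι y
  let C : Set ↥(f.fiber y) := closure {z}
  refine le_antisymm ?_ ?_
  · let O : (f.fiber y).Opens := ι ⁻¹ᵁ V
    have hzO : z ∈ O := by
      show ι z ∈ V
      rw [hz]; exact hV.range_fromSpec.subset ⟨Q, rfl⟩
    haveI : LocallyOfFiniteType (f.fiberToSpecResidueField y) :=
      MorphismProperty.pullback_snd (P := @LocallyOfFiniteType) _ _ inferInstance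
    refine (GenDim.dim_le_inter (K := Y.residueField y) (f.fiberToSpecResidueField y) C
      isIrreducible_singleton.closure isClosed_closure O z (subset_closure rfl) hzO).trans ?_
    refine Equidim.dim_le_quot (φ := fun s : ↥(C ∩ (O : Set _)) => ι s.1)
      (ι.isEmbedding.isInducing.comp IsInducing.subtypeVal) (Equidim.ch_isEmbedding hV π hπ' p)
      M.asIdeal fun s => ?_
    obtain ⟨R', hR'⟩ := hV.range_fromSpec.superset (show ι s.1 ∈ V from s.2.2)
    let R : PrimeSpectrum Γ(X, V) := R'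
    replace hR' : hV.fromSpec R = ι s.1 := hR'
    obtain ⟨M', hM'⟩ := Equidim.exists_ch f hU₀ hV hVU halg π hπ' p R
      (fun a ha => by rw [(show a = 0 from ha)]; exact Ideal.zero_mem _)
      (by rw [hR', hpy]; exact (f.range_fiberι y).subset ⟨s.1, rfl⟩)
    refine ⟨M', (Equidim.ch_specializes hV π hπ' p M M').mp ?_, hM'.trans hR'⟩
    rw [hMz, hM', hR']
    exact (specializes_iff_mem_closure.mpr s.2.1).map ι.continuous
  · rw [← PrimeSpectrum.topologicalKrullDim_eq_ringKrullDim]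
    let c : PrimeSpectrum ((p.asIdeal.Fiber Γ(X, V)) ⧸ M.asIdeal) → PrimeSpectrum (p.asIdeal.Fiber Γ(X, V)) :=
      PrimeSpectrum.comap (Ideal.Quotient.mk M.asIdeal)
    have hc : IsEmbedding c :=
      (PrimeSpectrum.isClosedEmbedding_comap_of_surjective _ _ Ideal.Quotient.mk_surjective).isEmbedding
    have hch : IsEmbedding (Equidim.ch hV π p) := Equidim.ch_isEmbedding hV π hπ' p
    have hφ : IsInducing (Equidim.ch hV π p ∘ c) := (hch.comp hc).isInducing
    have hg : IsEmbedding (fun s : C => ι s.1) := ι.isEmbedding.comp IsEmbedding.subtypeVal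
    refine Equidim.dim_le_of_range hφ hg fun s => ?_
    let M' := PrimeSpectrum.comap (Ideal.Quotient.mk M.asIdeal) s
    have hle : M ≤ M' := fun a ha => by
      show Ideal.Quotient.mk M.asIdeal a ∈ s.asIdeal
      rw [Ideal.Quotient.eq_zero_iff_mem.mpr ha]; exact zero_mem _
    have hsp : Equidim.ch hV π p M ⤳ Equidim.ch hV π p M' := (Equidim.ch_specializes hV π hπ' p M M').mpr hle
    obtain ⟨s', hs'⟩ : Equidim.ch hV π p M' ∈ Set.range ι := by
      rw [f.range_fiberι]; exact (Equidim.f_ch f hU₀ hV hVU halg π p M').trans hpy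
    refine ⟨⟨s', specializes_iff_mem_closure.mp (ι.isEmbedding.isInducing.specializes_iff.mp ?_)⟩, hs'⟩
    rw [hs', ← hMz]
    exact hsp

end Groth.Agent.FibreDepth.Chart
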