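import Mathlib
import Groth.Agent.FibreDepth.Strata

/-! Constructibility of the depth strata in affine space, without flatness. -/

set_option autoImplicit false
set_option backward.isDefEq.respectTransparency false
set_option linter.style.haveILetI false
noncomputable section
universe u
open scoped TensorProduct
open Topology

namespace Groth.Agent.FibreDepth.Families
open Ring Affine Support LocMap Sets

variable (A : Type u) [CommRing A] (σ : Type) (M : Type u) [AddCommGroup M] [Module (MvPolynomial σ A) M]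

/-- associated generization of dimension `i` -/
def gA (i : ℕ) : Set (PrimeSpectrum (MvPolynomial σ A)) := E A (T A σ M i) i

/-- embedded associated generization -/
def gB (i j : ℕ) : Set (PrimeSpectrum (MvPolynomial σ A)) := E A (T A σ M i ∩ gA A σ M j) i

/-- generization violating Serre's condition -/
def gS (k j : ℕ) : Set (PrimeSpectrum (MvPolynomial σ A)) := E A (T A σ M j ∩ C A σ M) (j + 1 - k)

variable {A σ M} [Finite σ]

theorem not_subsingleton_of_mem_T {j : ℕ} {η : PrimeSpectrum (MvPolynomial σ A)} (h : η ∈ T A σ M j) :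
    ¬ Subsingleton (Loc A η ⊗[MvPolynomial σ A] M) := fun hs => by
  obtain ⟨d, e, -, he, -⟩ := Locus.exists_nat_dims η
  refine h ?_
  rw [rdSet, Set.mem_setOf_eq, Locus.dep_eq_top M _ hs, he, ← WithBot.coe_add, top_add]
  exact WithBot.coe_le_coe.mpr le_top

theorem le_card_of_mem_E {W : Set (PrimeSpectrum (MvPolynomial σ A))} {m : ℕ} {q : PrimeSpectrum (MvPolynomial σ A)}
    (h : q ∈ E A W m) : m ≤ Nat.card σ := by
  obtain ⟨η, -, -, -, hm⟩ := h
  obtain ⟨d, e, -, he, hde⟩ := Locus.exists_nat_dims η
  rw [he] at hm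
  have : m ≤ e := by exact_mod_cast hm
  omega

theorem isConstructible_of_isClosed {R : Type u} [CommRing R] [IsNoetherianRing R] {s : Set (PrimeSpectrum R)}
    (hs : IsClosed s) : IsConstructible s :=
  isConstructible_compl.mp ((TopologicalSpace.NoetherianSpace.isCompact sᶜ).isConstructible hs.isOpen_compl)

section flat

variable {A : Type u} [CommRing A] [IsNoetherianRing A] (M : Type u) [AddCommGroup M] [Module (MvPolynomial σ A) M]
  [Module A M] [IsScalarTower A (MvPolynomial σ A) M] [Module.FinitePresentation (MvPolynomial σ A) M] [Module.Flat A M]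

theorem isClosed_T (j : ℕ) : IsClosed (T A σ M j) := (Locus.isOpen_rdepth M (j + 1)).isClosed_compl

theorem isClosed_C : IsClosed (C A σ M) := (Locus.isOpen_codepth M 0).isClosed_compl

theorem isClosed_gA (i : ℕ) : IsClosed (gA A σ M i) := isClosed_E' (isClosed_T M i) i

theorem isClosed_gB (i j : ℕ) : IsClosed (gB A σ M i j) :=
  isClosed_E' ((isClosed_T M i).inter (isClosed_gA M j)) i

theorem isClosed_gS (k j : ℕ) : IsClosed (gS A σ M k j) :=
  isClosed_E' ((isClosed_T M j).inter (isClosed_C M)) _

end flat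

section inv

variable {A' : Type u} [CommRing A'] [Module.Finite (MvPolynomial σ A) M] {M' : Type u} [AddCommGroup M']
  [Module (MvPolynomial σ A') M'] (φ : A →+* A') (hM : IsBC (σ := σ) φ M M')
include hM

theorem gA_eq (i : ℕ) : dn φ ⁻¹' gA A σ M i = gA A' σ M' i := by
  rw [gA, gA, E_eq, T_eq φ hM]

theorem gB_eq (i j : ℕ) : dn φ ⁻¹' gB A σ M i j = gB A' σ M' i j := by
  rw [gB, gB, E_eq, Set.preimage_inter, T_eq φ hM, gA_eq φ hM]

theorem gS_eq (k j : ℕ) : dn φ ⁻¹' gS A σ M k j = gS A' σ M' k j := by
  rw [gS, gS, E_eq, Set.preimage_inter, T_eq φ hM, C_eq φ hM]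

end inv

variable {A : Type u} [CommRing A] (M : Type u) [AddCommGroup M] [Module (MvPolynomial σ A) M]
  [Module.FinitePresentation (MvPolynomial σ A) M]

theorem isConstructible_rdSet (n : ℕ) : IsConstructible (rdSet A σ M n) :=
  Strata.isConstructible (W := fun A _ M _ _ => rdSet A σ M n)
    (fun φ _ _ _ _ _ _ _ hM => Set.ext fun q => mem_rdSet_iff φ hM n q)
    (fun A _ _ M _ _ _ _ _ _ => (TopologicalSpace.NoetherianSpace.isCompact _).isConstructible (Locus.isOpen_rdepth M n)) M

theorem isConstructible_cpSet (k : ℕ) : IsConstructible (cpSet A σ M k) :=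
  Strata.isConstructible (W := fun A _ M _ _ => cpSet A σ M k)
    (fun φ _ _ _ _ _ _ _ hM => Set.ext fun q => mem_cpSet_iff φ hM k q)
    (fun A _ _ M _ _ _ _ _ _ => (TopologicalSpace.NoetherianSpace.isCompact _).isConstructible (Locus.isOpen_codepth M k)) M

theorem isConstructible_gA (i : ℕ) : IsConstructible (gA A σ M i) :=
  Strata.isConstructible (W := fun A _ M _ _ => gA A σ M i) (fun φ _ _ _ _ _ _ _ hM => gA_eq φ hM i)
    (fun A _ _ M _ _ _ _ _ _ => isConstructible_of_isClosed (isClosed_gA M i)) M

theorem isConstructible_gB (i j : ℕ) : IsConstructible (gB A σ M i j) :=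
  Strata.isConstructible (W := fun A _ M _ _ => gB A σ M i j) (fun φ _ _ _ _ _ _ _ hM => gB_eq φ hM i j)
    (fun A _ _ M _ _ _ _ _ _ => isConstructible_of_isClosed (isClosed_gB M i j)) M

theorem isConstructible_gS (k j : ℕ) : IsConstructible (gS A σ M k j) :=
  Strata.isConstructible (W := fun A _ M _ _ => gS A σ M k j) (fun φ _ _ _ _ _ _ _ hM => gS_eq φ hM k j)
    (fun A _ _ M _ _ _ _ _ _ => isConstructible_of_isClosed (isClosed_gS M k j)) M

end Groth.Agent.FibreDepth.Families
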