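import Mathlib
import Groth.Prelude.Def_CAlg
import Groth.Prelude.Def_FDesc
import Groth.Prelude.Def_EGA4b
import Groth.Agent.ModStalk.Localization
import Groth.Agent.IdealDepth.CM
import Groth.Agent.FibreDepth.Transport

/-! Generizations of a point and invariants of localized stalks. -/

set_option autoImplicit false
set_option backward.isDefEq.respectTransparency false
set_option linter.style.haveILetI false
universe u
open CategoryTheory AlgebraicGeometry IsLocalRing

namespace Groth.Agent.FibreDepth.Gen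

variable {Z : Scheme.{u}} (M : Z.Modules)

/-- depth of the stalk -/
noncomputable abbrev dpS (x : Z) : ℕ∞ := LocCoh.depth (Z.presheaf.stalk x) (M.presheaf.stalk x)

/-- dimension of the support of the stalk -/
noncomputable abbrev sdS (x : Z) : WithBot ℕ∞ := Module.supportDim (Z.presheaf.stalk x) (M.presheaf.stalk x)

/-- the generization attached to a prime of the local ring -/
noncomputable def gen (x : Z) (p : PrimeSpectrum (Z.presheaf.stalk x)) : Z := Z.fromSpecStalk x p

theorem range_gen (x z : Z) : z ∈ Set.range (gen x) ↔ z ⤳ x :=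
  Set.ext_iff.mp (Scheme.range_fromSpecStalk (X := Z) (x := x)) z

theorem gen_specializes (x : Z) (p : PrimeSpectrum (Z.presheaf.stalk x)) : gen x p ⤳ x :=
  (range_gen x _).mp ⟨p, rfl⟩

theorem gen_le_iff (x : Z) (p q : PrimeSpectrum (Z.presheaf.stalk x)) : p ≤ q ↔ gen x p ⤳ gen x q :=
  (PrimeSpectrum.le_iff_specializes p q).trans
    (Z.fromSpecStalk x).isEmbedding.isInducing.specializes_iff.symm

theorem gen_injective (x : Z) : Function.Injective (gen x) := (Z.fromSpecStalk x).isEmbedding.injective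

theorem gen_eq {V : Z.Opens} (hV : IsAffineOpen V) (x : Z) (hx : x ∈ V) (p : PrimeSpectrum (Z.presheaf.stalk x)) :
    gen x p = hV.fromSpec (PrimeSpectrum.comap (Z.presheaf.germ V x hx).hom p) := by
  show Z.fromSpecStalk x p = _
  rw [← hV.fromSpecStalk_eq_fromSpecStalk hx]
  rfl

set_option maxHeartbeats 1000000 in
/-- The localized stalk at a prime is the stalk at the generization. -/
theorem invariants [M.IsQuasicoherent] (x : Z) (hR : ∀ z : Z, IsNoetherianRing (Z.presheaf.stalk z))
    (hM : ∀ z : Z, Module.Finite (Z.presheaf.stalk z) (M.presheaf.stalk z))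
    (p : PrimeSpectrum (Z.presheaf.stalk x)) :
    LocCoh.depth (Localization.AtPrime p.asIdeal) (LocalizedModule p.asIdeal.primeCompl (M.presheaf.stalk x)) =
      dpS M (gen x p) ∧
    Module.supportDim (Localization.AtPrime p.asIdeal) (LocalizedModule p.asIdeal.primeCompl (M.presheaf.stalk x)) =
      sdS M (gen x p) ∧
    (p ∈ Module.support (Z.presheaf.stalk x) (M.presheaf.stalk x) ↔ Nontrivial (M.presheaf.stalk (gen x p))) := by
  obtain ⟨V, hV, hxV, -⟩ := exists_isAffineOpen_mem_and_subset (X := Z) (U := ⊤) (x := x) trivial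
  have hzV : gen x p ∈ V := (gen_specializes x p).mem_open V.isOpen hxV
  let z : V := ⟨gen x p, hzV⟩
  let Q := PrimeSpectrum.comap (Z.presheaf.germ V x hxV).hom p
  have hQ : hV.primeIdealOf z = Q :=
    hV.fromSpec.isOpenEmbedding.injective ((hV.fromSpec_primeIdealOf z).trans (gen_eq hV x hxV p))
  let R := Γ(Z, V)
  let O := Z.presheaf.stalk x
  let Op := Localization.AtPrime p.asIdeal
  letI := ModStalk.sectionModule M (⟨x, hxV⟩ : V)
  letI := TopCat.Presheaf.algebra_section_stalk Z.presheaf (⟨x, hxV⟩ : V)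
  haveI := ModStalk.sectionTower M (⟨x, hxV⟩ : V)
  haveI : IsLocalization.AtPrime O (hV.primeIdealOf ⟨x, hxV⟩).asIdeal := hV.isLocalization_stalk ⟨x, hxV⟩
  haveI := ModStalk.isLocalizedModule_germ hV M (⟨x, hxV⟩ : V)
  letI := ModStalk.sectionModule M z
  letI := TopCat.Presheaf.algebra_section_stalk Z.presheaf z
  haveI := ModStalk.sectionTower M z
  haveI : IsLocalization.AtPrime (Z.presheaf.stalk z.1) Q.asIdeal := hQ ▸ hV.isLocalization_stalk z
  haveI : IsLocalizedModule Q.asIdeal.primeCompl (ModStalk.germₗ M z) :=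
    hQ ▸ ModStalk.isLocalizedModule_germ hV M z
  haveI : IsLocalization.AtPrime Op Q.asIdeal :=
    IsLocalization.isLocalization_isLocalization_atPrime_isLocalization
      (M := (hV.primeIdealOf ⟨x, hxV⟩).asIdeal.primeCompl) Op p.asIdeal
  let L := LocalizedModule p.asIdeal.primeCompl (M.presheaf.stalk x)
  let l : Γ(M, V) →ₗ[R] L := ((LocalizedModule.mkLinearMap p.asIdeal.primeCompl (M.presheaf.stalk x)).restrictScalars R).comp
    (ModStalk.germₗ M (⟨x, hxV⟩ : V))
  haveI : IsLocalizedModule Q.asIdeal.primeCompl l :=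
    (isLocalizedModule_iff_isBaseChange Q.asIdeal.primeCompl Op l).mpr
      (((isLocalizedModule_iff_isBaseChange (hV.primeIdealOf ⟨x, hxV⟩).asIdeal.primeCompl O
          (ModStalk.germₗ M (⟨x, hxV⟩ : V))).mp inferInstance).comp
        ((isLocalizedModule_iff_isBaseChange p.asIdeal.primeCompl Op _).mp inferInstance))
  let ρ : Op ≃ₐ[R] Z.presheaf.stalk z.1 := IsLocalization.algEquiv Q.asIdeal.primeCompl Op _
  letI : Algebra Op (Z.presheaf.stalk z.1) := ρ.toRingEquiv.toRingHom.toAlgebra
  letI : Module Op (M.presheaf.stalk z.1) := Module.compHom _ ρ.toRingEquiv.toRingHom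
  haveI : IsScalarTower Op (Z.presheaf.stalk z.1) (M.presheaf.stalk z.1) :=
    IsScalarTower.of_algebraMap_smul fun _ _ => rfl
  haveI : IsScalarTower R Op (M.presheaf.stalk z.1) := IsScalarTower.of_algebraMap_smul fun r m => by
    show ρ (algebraMap R Op r) • m = r • m
    rw [ρ.commutes, algebraMap_smul]
  let e : L ≃ₗ[Op] M.presheaf.stalk z.1 := LinearEquiv.extendScalarsOfIsLocalization Q.asIdeal.primeCompl Op
    (IsLocalizedModule.linearEquiv Q.asIdeal.primeCompl l (ModStalk.germₗ M z))
  haveI := hR x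
  haveI := hM x
  haveI : IsNoetherianRing Op := IsLocalization.isNoetherianRing p.asIdeal.primeCompl Op inferInstance
  haveI : Module.Finite Op L := Module.Finite.of_isLocalizedModule p.asIdeal.primeCompl
    (LocalizedModule.mkLinearMap p.asIdeal.primeCompl (M.presheaf.stalk x))
  haveI : Module.Finite Op (M.presheaf.stalk z.1) := Module.Finite.equiv e
  obtain ⟨h1, h2⟩ := Transport.depth_supportDim_eq (R := Op) (S := Z.presheaf.stalk z.1) ρ.surjective (M.presheaf.stalk z.1)
  exact ⟨(IdealDepth.congr _ e).trans h1, (Module.supportDim_eq_of_equiv e).trans h2,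
    (Module.mem_support_iff).trans e.toEquiv.nontrivial_congr⟩

/-- A point is associated iff the depth of the stalk is zero. -/
theorem mem_ass_iff (x : Z) [IsNoetherianRing (Z.presheaf.stalk x)]
    [Module.Finite (Z.presheaf.stalk x) (M.presheaf.stalk x)] :
    x ∈ AssSch.Ass M ↔ dpS M x = 0 := by
  rw [dpS, LocCoh.depth, IdealDepth.eq_zero_iff]
  refine ⟨fun h => ⟨_, h, le_rfl⟩, fun ⟨p, hp, hle⟩ => ?_⟩
  show maximalIdeal (Z.presheaf.stalk x) ∈ associatedPrimes (Z.presheaf.stalk x) (M.presheaf.stalk x)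
  rwa [le_antisymm hle (le_maximalIdeal (IsAssociatedPrime.isPrime hp).ne_top)]

/-- Equidimensional modules. -/
theorem isEquidimModule_iff {R : Type u} [CommRing R] (N : Type u) [AddCommGroup N] [Module R N] [Module.Finite R N] :
    EGA4.IsEquidimModule R N ↔ ∀ p q : PrimeSpectrum R, Minimal (· ∈ Module.support R N) p →
      Minimal (· ∈ Module.support R N) q → Order.coheight p = Order.coheight q := by
  have hmem : ∀ p : PrimeSpectrum R, p ∈ Module.support R N ↔ Module.annihilator R N ≤ p.asIdeal := fun p =>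
    Module.mem_support_iff_of_finite
  have hmin : ∀ p : PrimeSpectrum R, Minimal (· ∈ Module.support R N) p ↔ p.asIdeal ∈ (Module.annihilator R N).minimalPrimes :=
    fun p => ⟨fun h => ⟨⟨p.2, (hmem p).mp h.1⟩, fun J hJ hle => h.2 (y := ⟨J, hJ.1⟩) ((hmem _).mpr hJ.2) hle⟩,
      fun h => ⟨(hmem p).mpr h.1.2, fun q hq hle => h.2 ⟨q.2, (hmem q).mp hq⟩ hle⟩⟩
  have hle : ∀ p ∈ Module.support R N, ((Order.coheight p : ℕ∞) : WithBot ℕ∞) ≤ Module.supportDim R N := fun p hp => by
    rw [Order.coheight_eq_krullDim_Ici]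
    exact Order.krullDim_le_of_strictMono (fun q : Set.Ici p => (⟨q.1, (hmem _).mpr (((hmem p).mp hp).trans q.2)⟩ :
      Module.support R N)) fun a b h => h
  have hsup : ∀ c : WithBot ℕ∞, (∀ p : PrimeSpectrum R, Minimal (· ∈ Module.support R N) p →
      ((Order.coheight p : ℕ∞) : WithBot ℕ∞) ≤ c) → Module.supportDim R N ≤ c := fun c h => by
    refine iSup_le fun l => ?_
    obtain ⟨m, hm, hml⟩ := Ideal.exists_minimalPrimes_le (((hmem l.head.1).mp l.head.2))
    let m' : PrimeSpectrum R := ⟨m, hm.1.1⟩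
    refine le_trans ?_ (h m' ((hmin m').mpr hm))
    refine WithBot.coe_le_coe.mpr ?_
    exact (Order.length_le_coheight (p := l.map Subtype.val fun a b h => h)
      (show m' ≤ (l.map Subtype.val fun a b h => h).head from hml))
  constructor
  · intro h p q hp hq
    refine WithBot.coe_inj.mp ?_
    rw [IdealDepth.coheight_eq_ringKrullDim_quotient, IdealDepth.coheight_eq_ringKrullDim_quotient,
      h _ ((hmin p).mp hp), h _ ((hmin q).mp hq)]
  · intro h m hm
    let m' : PrimeSpectrum R := ⟨m, hm.1.1⟩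
    rw [show ringKrullDim (R ⧸ m) = ((Order.coheight m' : ℕ∞) : WithBot ℕ∞) from
      (IdealDepth.coheight_eq_ringKrullDim_quotient m').symm]
    exact le_antisymm (hle _ ((hmin m').mpr hm).1)
      (hsup _ fun p hp => (congrArg WithBot.some (h p m' hp ((hmin m').mpr hm))).le)

end Groth.Agent.FibreDepth.Gen
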