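import Mathlib
import Groth.Agent.FibreDepth.Gen
import Groth.Agent.GenDim.Component
import Groth.Agent.Equidim.Semicont
import Groth.Agent.FibreDepth.Support

/-! Dimension of closures in schemes locally of finite type over a field. -/

set_option autoImplicit false
set_option backward.isDefEq.respectTransparency false
set_option linter.style.haveILetI false
universe u
open CategoryTheory AlgebraicGeometry TopologicalSpace Topology

namespace Groth.Agent.FibreDepth.Gen

variable {K : Type u} [Field K] {Z : Scheme.{u}} (π : Z ⟶ Spec (CommRingCat.of K)) [LocallyOfFiniteType π]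

include π in
theorem closure_dim {V : Z.Opens} (hV : IsAffineOpen V) (Q : PrimeSpectrum Γ(Z, V)) :
    topologicalKrullDim ↥(closure ({hV.fromSpec Q} : Set Z)) = ((Order.coheight Q : ℕ∞) : WithBot ℕ∞) := by
  rw [IdealDepth.coheight_eq_ringKrullDim_quotient, ← PrimeSpectrum.topologicalKrullDim_eq_ringKrullDim]
  let C : Set Z := closure {hV.fromSpec Q}
  have hmem : ∀ q : PrimeSpectrum (Γ(Z, V) ⧸ Q.asIdeal), GenDim.pt hV Q.asIdeal q ∈ C ∩ (V : Set Z) := fun q => by
    refine ⟨?_, hV.range_fromSpec.subset ⟨_, rfl⟩⟩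
    refine Specializes.mem_closure (Specializes.map ?_ hV.fromSpec.continuous)
    refine (PrimeSpectrum.le_iff_specializes Q _).mp fun a ha => ?_
    show Ideal.Quotient.mk _ a ∈ q.asIdeal
    rw [Ideal.Quotient.eq_zero_iff_mem.mpr ha]; exact Ideal.zero_mem _
  have hind : IsInducing (fun q => (⟨_, hmem q⟩ : ↥(C ∩ (V : Set Z)))) :=
    (hV.fromSpec.isOpenEmbedding.isInducing.comp (PrimeSpectrum.isClosedEmbedding_comap_of_surjective _ _
      Ideal.Quotient.mk_surjective).isInducing).codRestrict hmem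
  refine le_antisymm ?_ ?_
  · refine (GenDim.dim_le_inter π C isIrreducible_singleton.closure isClosed_closure V _
      (subset_closure rfl) (hV.range_fromSpec.subset ⟨_, rfl⟩)).trans ?_
    have hsurj : Function.Surjective (fun q => (⟨_, hmem q⟩ : ↥(C ∩ (V : Set Z)))) := fun s => by
      obtain ⟨q, hq⟩ := GenDim.mem_range_pt hV Q.asIdeal s.1 s.2.2 (specializes_iff_mem_closure.mpr s.2.1)
      exact ⟨q, Subtype.ext hq⟩
    have hinj : Function.Injective (fun q => (⟨_, hmem q⟩ : ↥(C ∩ (V : Set Z)))) :=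
      fun a b h => GenDim.pt_injective hV Q.asIdeal (congrArg (Subtype.val (p := fun z => z ∈ C ∩ (V : Set Z))) h)
    exact (IsHomeomorph.topologicalKrullDim_eq _
      (isHomeomorph_iff_isEmbedding_surjective.mpr ⟨⟨hind, hinj⟩, hsurj⟩)).ge
  · exact (hind.topologicalKrullDim_le).trans
      (Topology.IsInducing.topologicalKrullDim_le (f := Set.inclusion (Set.inter_subset_left))
        (IsEmbedding.inclusion _).isInducing)

include π in
theorem finiteType_sections {V : Z.Opens} (hV : IsAffineOpen V) :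
    ∃ a : Algebra K Γ(Z, V), @Algebra.FiniteType K Γ(Z, V) _ _ a := by
  letI : Algebra K Γ(Z, V) := (((Scheme.ΓSpecIso (CommRingCat.of K)).inv ≫ π.appLE ⊤ V le_top).hom).toAlgebra
  exact ⟨_, (LocallyOfFiniteType.finiteType_appLE π (isAffineOpen_top _) hV le_top).comp
      (RingHom.FiniteType.of_surjective _
        (ConcreteCategory.bijective_of_isIso (Scheme.ΓSpecIso (CommRingCat.of K)).inv).2)⟩

theorem coheight_add_le {α β : Type*} [Preorder α] [Preorder β] (a : α) (b : β) (g : α → β)
    (hg : StrictMono g) (hle : ∀ a', a ≤ a' → g a' ≤ b) :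
    Order.coheight a + Order.coheight b ≤ Order.coheight (g a) := by
  by_cases ht : Order.coheight a = ⊤
  · refine le_top.trans (le_of_eq ?_)
    exact (top_le_iff.mp (ht ▸ Order.coheight_le_coheight_apply_of_strictMono g hg a)).symm
  · obtain ⟨n, hn⟩ := ENat.ne_top_iff_exists.mp ht
    obtain ⟨l, hl, hlen⟩ := Order.exists_series_of_coheight_eq_coe a hn.symm
    rw [← hn, ← hlen]
    refine le_trans (add_le_add le_rfl (Order.coheight_anti (hle l.last (hl ▸ l.head_le_last)))) ?_
    rw [← hl]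
    exact Support.length_add_coheight_le l.length (l.map g hg) rfl

include π in
/-- Dimension formula along a generization. -/
theorem coheight_add (x : Z) (p : PrimeSpectrum (Z.presheaf.stalk x)) :
    ((Order.coheight p : ℕ∞) : WithBot ℕ∞) + topologicalKrullDim ↥(closure ({x} : Set Z)) =
      topologicalKrullDim ↥(closure ({gen x p} : Set Z)) := by
  obtain ⟨V, hV, hxV, -⟩ := exists_isAffineOpen_mem_and_subset (X := Z) (U := ⊤) (x := x) trivial
  obtain ⟨_, hfin⟩ := finiteType_sections π hV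
  let g : PrimeSpectrum (Z.presheaf.stalk x) → PrimeSpectrum Γ(Z, V) :=
    PrimeSpectrum.comap (Z.presheaf.germ V x hxV).hom
  let P : PrimeSpectrum Γ(Z, V) := hV.primeIdealOf ⟨x, hxV⟩
  have hgen : ∀ q, gen x q = hV.fromSpec (g q) := gen_eq hV x hxV
  have hP : hV.fromSpec P = x := hV.fromSpec_primeIdealOf ⟨x, hxV⟩
  have hgle : ∀ a b, g a ≤ g b ↔ a ≤ b := fun a b => by
    rw [gen_le_iff x a b, hgen, hgen]
    exact (PrimeSpectrum.le_iff_specializes _ _).trans hV.fromSpec.isOpenEmbedding.isInducing.specializes_iff.symm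
  have hg : StrictMono g := fun a b h => lt_of_le_not_ge ((hgle a b).mpr h.le) fun h' => h.not_ge ((hgle b a).mp h')
  have hgP : ∀ q, g q ≤ P := fun q => by
    refine (PrimeSpectrum.le_iff_specializes _ _).mpr (hV.fromSpec.isOpenEmbedding.isInducing.specializes_iff.mp ?_)
    have h := gen_specializes x q
    rw [hgen] at h
    exact h.trans (specializes_of_eq hP.symm)
  rw [hgen, closure_dim π hV, show ({x} : Set Z) = {hV.fromSpec P} by rw [hP], closure_dim π hV,
    ← WithBot.coe_add, WithBot.coe_inj]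
  refine le_antisymm (coheight_add_le p P g hg fun q _ => hgP q) ?_
  let Qd := g p
  let Pb : Ideal (Γ(Z, V) ⧸ Qd.asIdeal) := P.asIdeal.map (Ideal.Quotient.mk Qd.asIdeal)
  haveI : Pb.IsPrime := Ideal.map_isPrime_of_surjective Ideal.Quotient.mk_surjective
    (by rw [Ideal.mk_ker]; exact hgP p)
  have hPb : Pb.comap (Ideal.Quotient.mk Qd.asIdeal) = P.asIdeal := by
    rw [Ideal.comap_map_of_surjective _ Ideal.Quotient.mk_surjective, ← RingHom.ker_eq_comap_bot,
      Ideal.mk_ker, sup_eq_left.mpr (show Qd.asIdeal ≤ P.asIdeal from hgP p)]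
  haveI : Algebra.FiniteType K (Γ(Z, V) ⧸ Qd.asIdeal) := inferInstance
  have h1 := Equidim.ringKrullDim_le_height_add K (Γ(Z, V) ⧸ Qd.asIdeal) Pb
  rw [ringKrullDim_eq_of_ringEquiv (DoubleQuot.quotQuotEquivQuotOfLE (show Qd.asIdeal ≤ P.asIdeal from hgP p)),
    ← IdealDepth.coheight_eq_ringKrullDim_quotient Qd, ← IdealDepth.coheight_eq_ringKrullDim_quotient P,
    show Pb.height = Order.height (⟨Pb, inferInstance⟩ : PrimeSpectrum _) from
      PrimeSpectrum.height_eq_orderHeight (R := Γ(Z, V) ⧸ Qd.asIdeal) ⟨Pb, inferInstance⟩,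
    ← WithBot.coe_add, WithBot.coe_le_coe] at h1
  refine h1.trans (add_le_add ?_ le_rfl)
  refine WithBot.coe_le_coe.mp ?_
  rw [Order.height_eq_krullDim_Iic, Order.coheight_eq_krullDim_Ici]
  let Pb' : PrimeSpectrum (Γ(Z, V) ⧸ Qd.asIdeal) := ⟨Pb, inferInstance⟩
  let c := PrimeSpectrum.comap (Ideal.Quotient.mk Qd.asIdeal)
  have hc : ∀ a b, c a ≤ c b ↔ a ≤ b := fun a b =>
    Ideal.comap_le_comap_iff_of_surjective _ Ideal.Quotient.mk_surjective _ _
  have hex : ∀ q : Set.Iic Pb', ∃ q' : Set.Ici p, g q'.1 = c q.1 := fun q => by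
    have h1 : c q.1 ≤ P := by
      show (c q.1).asIdeal ≤ P.asIdeal
      rw [← hPb]; exact Ideal.comap_mono q.2
    obtain ⟨q', hq'⟩ := (range_gen x (hV.fromSpec (c q.1))).mpr
      ((((PrimeSpectrum.le_iff_specializes _ _).mp h1).map hV.fromSpec.continuous).trans (specializes_of_eq hP))
    rw [hgen] at hq'
    have hq'' := hV.fromSpec.isOpenEmbedding.injective hq'
    refine ⟨⟨q', (hgle p q').mp ?_⟩, hq''⟩
    rw [hq'']
    intro a ha
    show Ideal.Quotient.mk _ a ∈ q.1.asIdeal
    rw [Ideal.Quotient.eq_zero_iff_mem.mpr ha]; exact Ideal.zero_mem _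
  choose s hs using hex
  refine Order.krullDim_le_of_strictMono s fun a b hab => ?_
  refine lt_of_le_not_ge ((hgle _ _).mp (by rw [hs, hs]; exact (hc _ _).mpr hab.le)) fun h' => hab.not_ge ?_
  have := (hgle _ _).mpr h'
  rw [hs, hs] at this
  exact (hc _ _).mp this

end Groth.Agent.FibreDepth.Gen
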