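import Mathlib
import Groth.Prelude.Def_CohB1
import Groth.Agent.FibreDepth.Chart
import Groth.Agent.FibreDepth.Locus

/-! Semicontinuity of depth and codepth on the fibres of a flat module. -/

set_option autoImplicit false
set_option backward.isDefEq.respectTransparency false
universe u
open CategoryTheory AlgebraicGeometry TopologicalSpace Topology
open scoped TensorProduct

namespace Groth.Agent.FibreDepth.Main
open Ring Affine

variable {X Y : Scheme.{u}} (f : X ⟶ Y) [LocallyOfFinitePresentation f] (F : X.Modules)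

set_option maxHeartbeats 1600000 in
/-- An affine chart in which all fibre invariants are computed on affine space. -/
theorem exists_chart (hF : CohB1.IsFP F) (hflat : FlatMod.IsFlatOver f F) (x : X) :
    ∃ (A : Type u) (_ : CommRing A) (n : ℕ) (M : Type u) (_ : AddCommGroup M)
      (_ : Module (MvPolynomial (Fin n) A) M) (_ : Module A M) (_ : IsScalarTower A (MvPolynomial (Fin n) A) M)
      (_ : Module.FinitePresentation (MvPolynomial (Fin n) A) M) (_ : Module.Flat A M)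
      (V : X.Opens) (φ : ↥(V : Scheme.{u}) → PrimeSpectrum (MvPolynomial (Fin n) A)),
      x ∈ V ∧ Continuous φ ∧ ∀ w : ↥(V : Scheme.{u}),
        LocCoh.depth ((f.fiber (f.base w.1)).presheaf.stalk (f.asFiber w.1))
            (((Scheme.Modules.pullback (f.fiberι (f.base w.1))).obj F).presheaf.stalk (f.asFiber w.1)) =
          dep (A := A) (φ w) M ∧
        Module.supportDim ((f.fiber (f.base w.1)).presheaf.stalk (f.asFiber w.1))
            (((Scheme.Modules.pullback (f.fiberι (f.base w.1))).obj F).presheaf.stalk (f.asFiber w.1)) =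
          Module.supportDim (Loc A (φ w)) (Loc A (φ w) ⊗[MvPolynomial (Fin n) A] M) ∧
        (Subsingleton (((Scheme.Modules.pullback (f.fiberι (f.base w.1))).obj F).presheaf.stalk (f.asFiber w.1)) ↔
          Subsingleton (Loc A (φ w) ⊗[MvPolynomial (Fin n) A] M)) ∧
        topologicalKrullDim ↥(closure ({f.asFiber w.1} : Set ↥(f.fiber (f.base w.1)))) =
          Support.cl (A := A) (φ w) := by
  haveI := Sections.isQuasicoherent_of_isFP F hF
  obtain ⟨O, hxO, hO⟩ := Sections.exists_affine F hF x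
  obtain ⟨U₀, hU₀, hyU₀, -⟩ := exists_isAffineOpen_mem_and_subset (X := Y) (U := ⊤) (x := f x) trivial
  obtain ⟨V, hV, hxV, hVsub⟩ :=
    exists_isAffineOpen_mem_and_subset (X := X) (U := O ⊓ f ⁻¹ᵁ U₀) (x := x) ⟨hxO, hyU₀⟩
  have hVU : V ≤ f ⁻¹ᵁ U₀ := fun v hv => (hVsub hv).2
  haveI hMfp : Module.FinitePresentation Γ(X, V) Γ(F, V) := hO V hV fun v hv => (hVsub hv).1
  letI : Algebra Γ(Y, U₀) Γ(X, V) := (f.appLE U₀ V hVU).hom.toAlgebra
  haveI : Algebra.FinitePresentation Γ(Y, U₀) Γ(X, V) := f.finitePresentation_appLE hU₀ hV hVU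
  obtain ⟨n, π, hπ, hker⟩ := (inferInstance : Algebra.FinitePresentation Γ(Y, U₀) Γ(X, V)).out
  letI : Algebra (MvPolynomial (Fin n) Γ(Y, U₀)) Γ(X, V) := π.toRingHom.toAlgebra
  haveI : IsScalarTower Γ(Y, U₀) (MvPolynomial (Fin n) Γ(Y, U₀)) Γ(X, V) :=
    IsScalarTower.of_algebraMap_eq fun a => (π.commutes a).symm
  letI : Module (MvPolynomial (Fin n) Γ(Y, U₀)) Γ(F, V) := Module.compHom _ π.toRingHom
  letI : Module Γ(Y, U₀) Γ(F, V) := Module.compHom _ (algebraMap Γ(Y, U₀) Γ(X, V))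
  haveI : IsScalarTower (MvPolynomial (Fin n) Γ(Y, U₀)) Γ(X, V) Γ(F, V) :=
    IsScalarTower.of_algebraMap_smul fun _ _ => rfl
  haveI : IsScalarTower Γ(Y, U₀) Γ(X, V) Γ(F, V) := IsScalarTower.of_algebraMap_smul fun _ _ => rfl
  haveI : IsScalarTower Γ(Y, U₀) (MvPolynomial (Fin n) Γ(Y, U₀)) Γ(F, V) :=
    IsScalarTower.of_algebraMap_smul fun a v => by
      show π (algebraMap Γ(Y, U₀) _ a) • v = algebraMap Γ(Y, U₀) Γ(X, V) a • v
      rw [π.commutes]
  haveI : Module.FinitePresentation (MvPolynomial (Fin n) Γ(Y, U₀)) Γ(X, V) :=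
    Module.finitePresentation_of_surjective (Algebra.linearMap _ Γ(X, V)) hπ hker
  haveI : Module.FinitePresentation (MvPolynomial (Fin n) Γ(Y, U₀)) Γ(F, V) :=
    Module.FinitePresentation.trans (R := MvPolynomial (Fin n) Γ(Y, U₀)) (M := Γ(F, V)) Γ(X, V)
  haveI : Module.Flat Γ(Y, U₀) Γ(F, V) := Chart.flat_sections f F hU₀ hV hVU rfl hflat
  let g : ↥(V : Scheme.{u}) → PrimeSpectrum Γ(X, V) := fun w => hV.isoSpec.hom w
  have hg : Continuous g := hV.isoSpec.hom.continuous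
  have hgQ : ∀ w : ↥(V : Scheme.{u}), hV.fromSpec (g w) = w.1 := fun w => by
    show (hV.isoSpec.hom ≫ hV.fromSpec) w = _
    rw [IsAffineOpen.isoSpec_hom_fromSpec]
    rfl
  let φ : ↥(V : Scheme.{u}) → PrimeSpectrum (MvPolynomial (Fin n) Γ(Y, U₀)) := fun w =>
    PrimeSpectrum.comap (algebraMap (MvPolynomial (Fin n) Γ(Y, U₀)) Γ(X, V)) (g w)
  refine ⟨Γ(Y, U₀), inferInstance, n, Γ(F, V), inferInstance, inferInstance, inferInstance, inferInstance,
    inferInstance, inferInstance, V, φ, hxV, (PrimeSpectrum.continuous_comap _).comp hg, fun w => ?_⟩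
  have hz : f.fiberι (f.base w.1) (f.asFiber w.1) = hV.fromSpec (g w) := by
    rw [hgQ]; exact f.fiberι_asFiber w.1
  obtain ⟨h1, h2, h3⟩ := Chart.stalk_eq f F hU₀ hV hVU rfl hπ (f.base w.1) (f.asFiber w.1) (g w) hz
  exact ⟨h1.symm, h2.symm, h3, (Chart.closure_dim_eq f hU₀ hV hVU rfl (f.base w.1) (f.asFiber w.1) (g w) hz).trans
    (Chart.cl_eq hπ (g w))⟩

theorem isOpen_rdepth (hF : CohB1.IsFP F) (hflat : FlatMod.IsFlatOver f F) (n : ℕ) :
    IsOpen {x : X | (n : WithBot ℕ∞) ≤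
      ((LocCoh.depth ((f.fiber (f.base x)).presheaf.stalk (f.asFiber x)) (((Scheme.Modules.pullback (f.fiberι (f.base x))).obj F).presheaf.stalk (f.asFiber x)) : ℕ∞) : WithBot ℕ∞) +
        topologicalKrullDim ↥(closure ({f.asFiber x} : Set ↥(f.fiber (f.base x))))} := by
  refine isOpen_iff_forall_mem_open.mpr fun x hx => ?_
  obtain ⟨A, _, m, M, _, _, _, _, _, _, V, φ, hxV, hφ, H⟩ := exists_chart f F hF hflat x
  let S := φ ⁻¹' {q | (n : WithBot ℕ∞) ≤ ((dep (A := A) q M : ℕ∞) : WithBot ℕ∞) + Support.cl (A := A) q}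
  have hS : IsOpen S := (Locus.isOpen_rdepth M n).preimage hφ
  refine ⟨V.ι '' S, ?_, V.ι.isOpenEmbedding.isOpenMap S hS, ⟨⟨x, hxV⟩, ?_, rfl⟩⟩
  · rintro _ ⟨w, hw, rfl⟩
    obtain ⟨h1, -, -, h4⟩ := H w
    show (n : WithBot ℕ∞) ≤ _
    exact (congrArg₂ (fun (a : ℕ∞) (b : WithBot ℕ∞) => (a : WithBot ℕ∞) + b) h1 h4).symm ▸ hw
  · obtain ⟨h1, -, -, h4⟩ := H ⟨x, hxV⟩
    show (n : WithBot ℕ∞) ≤ _
    exact (congrArg₂ (fun (a : ℕ∞) (b : WithBot ℕ∞) => (a : WithBot ℕ∞) + b) h1 h4) ▸ hx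

theorem isOpen_codepth (hF : CohB1.IsFP F) (hflat : FlatMod.IsFlatOver f F) (k : ℕ) :
    IsOpen {x : X | Module.supportDim ((f.fiber (f.base x)).presheaf.stalk (f.asFiber x)) (((Scheme.Modules.pullback (f.fiberι (f.base x))).obj F).presheaf.stalk (f.asFiber x)) ≤
      ((LocCoh.depth ((f.fiber (f.base x)).presheaf.stalk (f.asFiber x)) (((Scheme.Modules.pullback (f.fiberι (f.base x))).obj F).presheaf.stalk (f.asFiber x)) : ℕ∞) : WithBot ℕ∞) + k} := by
  refine isOpen_iff_forall_mem_open.mpr fun x hx => ?_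
  obtain ⟨A, _, m, M, _, _, _, _, _, _, V, φ, hxV, hφ, H⟩ := exists_chart f F hF hflat x
  let S := φ ⁻¹' {q | Module.supportDim (Loc A q) (Loc A q ⊗[MvPolynomial (Fin m) A] M) ≤
    ((dep (A := A) q M : ℕ∞) : WithBot ℕ∞) + k}
  have hS : IsOpen S := (Locus.isOpen_codepth M k).preimage hφ
  refine ⟨V.ι '' S, ?_, V.ι.isOpenEmbedding.isOpenMap S hS, ⟨⟨x, hxV⟩, ?_, rfl⟩⟩
  · rintro _ ⟨w, hw, rfl⟩
    obtain ⟨h1, h2, -, -⟩ := H w
    exact le_of_eq_of_le h2 (hw.trans (le_of_eq (congrArg (fun a : ℕ∞ => (a : WithBot ℕ∞) + k) h1.symm)))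
  · obtain ⟨h1, h2, -, -⟩ := H ⟨x, hxV⟩
    exact le_of_eq_of_le h2.symm (hx.trans (le_of_eq (congrArg (fun a : ℕ∞ => (a : WithBot ℕ∞) + k) h1)))

theorem isOpen_cm (hF : CohB1.IsFP F) (hflat : FlatMod.IsFlatOver f F) :
    IsOpen {x : X |
      Subsingleton (((Scheme.Modules.pullback (f.fiberι (f.base x))).obj F).presheaf.stalk (f.asFiber x)) ∨
      LocCoh.IsCohenMacaulayModule ((f.fiber (f.base x)).presheaf.stalk (f.asFiber x))
        (((Scheme.Modules.pullback (f.fiberι (f.base x))).obj F).presheaf.stalk (f.asFiber x))} := by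
  refine isOpen_iff_forall_mem_open.mpr fun x hx => ?_
  obtain ⟨A, _, m, M, _, _, _, _, _, _, V, φ, hxV, hφ, H⟩ := exists_chart f F hF hflat x
  let S := φ ⁻¹' {q | Module.supportDim (Loc A q) (Loc A q ⊗[MvPolynomial (Fin m) A] M) ≤
    ((dep (A := A) q M : ℕ∞) : WithBot ℕ∞) + (0 : ℕ)}
  have hS : IsOpen S := (Locus.isOpen_codepth M 0).preimage hφ
  have key : ∀ w : ↥(V : Scheme.{u}), (Subsingleton (((Scheme.Modules.pullback (f.fiberι (f.base w.1))).obj F).presheaf.stalk (f.asFiber w.1)) ∨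
      LocCoh.IsCohenMacaulayModule ((f.fiber (f.base w.1)).presheaf.stalk (f.asFiber w.1))
        (((Scheme.Modules.pullback (f.fiberι (f.base w.1))).obj F).presheaf.stalk (f.asFiber w.1))) ↔ w ∈ S := fun w => by
    obtain ⟨h1, h2, h3, -⟩ := H w
    rw [LocCoh.IsCohenMacaulayModule, h1, h2, h3]
    show _ ↔ _ ≤ _ + ((0 : ℕ) : WithBot ℕ∞)
    rw [Nat.cast_zero, add_zero]
    constructor
    · rintro (h | h)
      · haveI := h
        rw [Module.supportDim_eq_bot_of_subsingleton]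
        exact bot_le
      · exact h.le
    · intro h
      by_cases hs : Subsingleton (Loc A (φ w) ⊗[MvPolynomial (Fin m) A] M)
      · exact Or.inl hs
      · exact Or.inr (le_antisymm h (Locus.dep_le_supportDim M _ hs))
  refine ⟨V.ι '' S, ?_, V.ι.isOpenEmbedding.isOpenMap S hS, ⟨⟨x, hxV⟩, (key ⟨x, hxV⟩).mp hx, rfl⟩⟩
  rintro _ ⟨w, hw, rfl⟩
  exact (key w).mpr hw

end Groth.Agent.FibreDepth.Main
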