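import Mathlib
import Groth.Agent.FibreDepth.Main
import Groth.Agent.FibreDepth.GenDim
import Groth.Agent.Equidim.Upper
import Groth.Agent.ModStalk.PullbackQCoh

/-! Invariants of a module on the fibres, seen on the total space; semicontinuity along closed subsets. -/

set_option autoImplicit false
set_option backward.isDefEq.respectTransparency false
set_option linter.style.haveILetI false
universe u
open CategoryTheory AlgebraicGeometry TopologicalSpace Topology IsLocalRing
open scoped TensorProduct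

namespace Groth.Agent.FibreDepth.Fibre
open Gen

variable {X Y : Scheme.{u}} (f : X ⟶ Y) (F : X.Modules)

/-- the restriction to a fibre -/
noncomputable abbrev fib (y : Y) : (f.fiber y).Modules := (Scheme.Modules.pullback (f.fiberι y)).obj F

/-- depth on the fibre -/
noncomputable abbrev dp (x : X) : ℕ∞ := dpS (fib f F (f.base x)) (f.asFiber x)

/-- dimension of the support on the fibre -/
noncomputable abbrev sd (x : X) : WithBot ℕ∞ := sdS (fib f F (f.base x)) (f.asFiber x)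

/-- nonvanishing on the fibre -/
abbrev nz (x : X) : Prop := Nontrivial ((fib f F (f.base x)).presheaf.stalk (f.asFiber x))

/-- dimension of the closure in the fibre -/
noncomputable abbrev cd (x : X) : WithBot ℕ∞ :=
  topologicalKrullDim ↥(closure ({f.asFiber x} : Set ↥(f.fiber (f.base x))))

/-- transport from a fibre to the total space -/
theorem fiber_iff {P : ∀ y, ↥(f.fiber y) → Prop} (y : Y) (w : ↥(f.fiber y)) :
    P y w ↔ P (f.base (f.fiberι y w)) (f.asFiber (f.fiberι y w)) := by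
  have hy : f.base (f.fiberι y w) = y := (f.range_fiberι y).subset ⟨w, rfl⟩
  suffices h : ∀ (x : X), f.fiberι y w = x → (P y w ↔ P (f.base x) (f.asFiber x)) from h _ rfl
  intro x hx
  rw [hx] at hy
  subst hy
  obtain rfl : w = f.asFiber x := (f.fiberι (f.base x)).isEmbedding.injective
    (by rw [hx, Scheme.Hom.fiberι_asFiber])
  exact Iff.rfl

theorem fiber_forall {P : ∀ y, ↥(f.fiber y) → Prop} (y : Y) :
    (∀ w, P y w) ↔ ∀ x, f.base x = y → P (f.base x) (f.asFiber x) := by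
  refine ⟨fun h x hx => ?_, fun h w => (fiber_iff f y w).mpr (h _ ((f.range_fiberι y).subset ⟨w, rfl⟩))⟩
  subst hx
  exact h _

theorem gen_forall {P : ∀ y, ↥(f.fiber y) → Prop} (x : X) :
    (∀ w, w ⤳ f.asFiber x → P (f.base x) w) ↔
      ∀ z, f.base z = f.base x → z ⤳ x → P (f.base z) (f.asFiber z) := by
  constructor
  · intro h z hz hzx
    obtain ⟨w, hw⟩ : z ∈ Set.range (f.fiberι (f.base x)) := by rw [f.range_fiberι]; exact hz
    rw [← hw]
    refine (fiber_iff f (f.base x) w).mp (h w ?_)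
    refine (f.fiberι (f.base x)).isEmbedding.isInducing.specializes_iff.mp ?_
    rw [hw, Scheme.Hom.fiberι_asFiber]
    exact hzx
  · intro h w hw
    refine (fiber_iff f (f.base x) w).mpr (h _ ((f.range_fiberι _).subset ⟨w, rfl⟩) ?_)
    have := hw.map (f.fiberι (f.base x)).continuous
    rwa [Scheme.Hom.fiberι_asFiber] at this

section stalks

variable [LocallyOfFinitePresentation f]

theorem isLocallyNoetherian_fiber (y : Y) : IsLocallyNoetherian (f.fiber y) := by
  haveI : LocallyOfFiniteType (f.fiberToSpecResidueField y) :=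
    MorphismProperty.pullback_snd (P := @LocallyOfFiniteType) _ _ inferInstance
  exact LocallyOfFiniteType.isLocallyNoetherian (f.fiberToSpecResidueField y)

theorem noeth (y : Y) (w : ↥(f.fiber y)) : IsNoetherianRing ((f.fiber y).presheaf.stalk w) := by
  haveI := isLocallyNoetherian_fiber f y
  infer_instance

end stalks

theorem finite_stalk {Z : Scheme.{u}} (G : Z.Modules) (hG : CohB1.IsFP G) (x : Z) :
    Module.Finite (Z.presheaf.stalk x) (G.presheaf.stalk x) := by
  haveI := Sections.isQuasicoherent_of_isFP G hG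
  obtain ⟨O, hxO, hO⟩ := Sections.exists_affine G hG x
  obtain ⟨V, hV, hxV, hVO⟩ := exists_isAffineOpen_mem_and_subset (X := Z) (U := O) (x := x) hxO
  haveI := hO V hV hVO
  letI := ModStalk.sectionModule G (⟨x, hxV⟩ : V)
  letI := TopCat.Presheaf.algebra_section_stalk Z.presheaf (⟨x, hxV⟩ : V)
  haveI := ModStalk.sectionTower G (⟨x, hxV⟩ : V)
  haveI : IsLocalization.AtPrime (Z.presheaf.stalk x) (hV.primeIdealOf ⟨x, hxV⟩).asIdeal :=
    hV.isLocalization_stalk ⟨x, hxV⟩
  haveI := ModStalk.isLocalizedModule_germ hV G (⟨x, hxV⟩ : V)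
  exact Module.Finite.of_isLocalizedModule (hV.primeIdealOf ⟨x, hxV⟩).asIdeal.primeCompl
    (ModStalk.germₗ G (⟨x, hxV⟩ : V))

variable {F} in
theorem qcoh_fib (hF : CohB1.IsFP F) (y : Y) : (fib f F y).IsQuasicoherent := by
  haveI := Sections.isQuasicoherent_of_isFP F hF
  exact ModStalk.isQuasicoherent_pullback (f.fiberι y) F

variable {F} in
theorem finite_fib (hF : CohB1.IsFP F) (y : Y) (w : ↥(f.fiber y)) :
    Module.Finite ((f.fiber y).presheaf.stalk w) ((fib f F y).presheaf.stalk w) := by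
  haveI := Sections.isQuasicoherent_of_isFP F hF
  haveI := finite_stalk F hF (f.fiberι y w)
  letI := ((f.fiberι y).stalkMap w).hom.toAlgebra
  obtain ⟨e, -⟩ := ModStalk.exists_pullStalk_equiv (f.fiberι y) F w
  exact Module.Finite.equiv e.symm

section
variable [LocallyOfFiniteType f]

/-- The dimension of closures in the fibres is bounded locally. -/
theorem exists_bound (x : X) : ∃ (V : X.Opens) (n : ℕ), x ∈ V ∧ ∀ w ∈ V, ∃ e : ℕ, e ≤ n ∧ cd f w = (e : ℕ) := by
  obtain ⟨U₀, hU₀, hyU₀, -⟩ := exists_isAffineOpen_mem_and_subset (X := Y) (U := ⊤) (x := f x) trivial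
  obtain ⟨V, hV, hxV, hVU⟩ := exists_isAffineOpen_mem_and_subset (X := X) (U := f ⁻¹ᵁ U₀) (x := x) hyU₀
  letI : Algebra Γ(Y, U₀) Γ(X, V) := (f.appLE U₀ V hVU).hom.toAlgebra
  haveI : Algebra.FiniteType Γ(Y, U₀) Γ(X, V) := Equidim.finiteType_chart f hU₀ hV hVU rfl
  obtain ⟨n, π, hπ⟩ := Algebra.FiniteType.iff_quotient_mvPolynomial''.mp
    (inferInstance : Algebra.FiniteType Γ(Y, U₀) Γ(X, V))
  letI : Algebra (MvPolynomial (Fin n) Γ(Y, U₀)) Γ(X, V) := π.toRingHom.toAlgebra
  haveI : IsScalarTower Γ(Y, U₀) (MvPolynomial (Fin n) Γ(Y, U₀)) Γ(X, V) :=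
    IsScalarTower.of_algebraMap_eq fun a => (π.commutes a).symm
  refine ⟨V, n, hxV, fun w hw => ?_⟩
  let Q := hV.primeIdealOf ⟨w, hw⟩
  have hz : f.fiberι (f.base w) (f.asFiber w) = hV.fromSpec Q := by
    rw [f.fiberι_asFiber, hV.fromSpec_primeIdealOf]
  rw [cd, Chart.closure_dim_eq f hU₀ hV hVU rfl (f.base w) (f.asFiber w) Q hz, Chart.cl_eq hπ Q]
  obtain ⟨d, e, -, he, hde⟩ := Locus.exists_nat_dims (A := Γ(Y, U₀))
    (Transport.pt (P := MvPolynomial (Fin n) Γ(Y, U₀)) Q)
  refine ⟨e, ?_, he.trans rfl⟩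
  rw [Nat.card_fin] at hde
  omega

theorem exists_cd (x : X) : ∃ e : ℕ, cd f x = (e : ℕ) := by
  obtain ⟨V, n, hx, h⟩ := exists_bound f x
  obtain ⟨e, -, he⟩ := h x hx
  exact ⟨e, he⟩

/-- the points with a generization in `T` in their fibre whose closure has dimension at least `m` -/
def E (T : Set X) (m : ℕ) : Set X :=
  {x | ∃ z ∈ T, f.base z = f.base x ∧ z ⤳ x ∧ (m : WithBot ℕ∞) ≤ cd f z}

theorem E_subset {T : Set X} (hT : IsClosed T) (m : ℕ) : E f T m ⊆ T :=
  fun _ ⟨_, hz, _, hzx, _⟩ => hzx.mem_closed hT hz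

set_option maxHeartbeats 1000000 in
/-- Semicontinuity of the dimension of the fibres of a closed subset. -/
theorem isClosed_E {T : Set X} (hT : IsClosed T) (m : ℕ) : IsClosed (E f T m) := by
  rcases Nat.eq_zero_or_pos m with rfl | hm
  · refine (congrArg IsClosed (subset_antisymm (E_subset f hT 0) fun x hx => ⟨x, hx, rfl, specializes_rfl, ?_⟩)).mpr hT
    obtain ⟨e, he⟩ := exists_cd f x
    rw [he]
    exact_mod_cast Nat.zero_le e
  rw [← isOpen_compl_iff]
  refine isOpen_iff_forall_mem_open.mpr fun x hx => ?_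
  obtain ⟨U₀, hU₀, hyU₀, -⟩ := exists_isAffineOpen_mem_and_subset (X := Y) (U := ⊤) (x := f x) trivial
  obtain ⟨V, hV, hxV, hVU⟩ := exists_isAffineOpen_mem_and_subset (X := X) (U := f ⁻¹ᵁ U₀) (x := x) hyU₀
  letI : Algebra Γ(Y, U₀) Γ(X, V) := (f.appLE U₀ V hVU).hom.toAlgebra
  haveI : Algebra.FiniteType Γ(Y, U₀) Γ(X, V) := Equidim.finiteType_chart f hU₀ hV hVU rfl
  obtain ⟨I, hI⟩ := (PrimeSpectrum.isClosed_iff_zeroLocus_ideal _).mp (hT.preimage hV.fromSpec.continuous)
  let C := Γ(X, V) ⧸ I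
  let π : Γ(X, V) →ₐ[Γ(Y, U₀)] C := Ideal.Quotient.mkₐ _ I
  have hπ : Function.Surjective π := Ideal.Quotient.mk_surjective
  haveI : Algebra.FiniteType Γ(Y, U₀) C := Algebra.FiniteType.of_surjective π hπ
  let G := {Q : PrimeSpectrum C | ∀ η : PrimeSpectrum ((Ring.below Γ(Y, U₀) Q).asIdeal.Fiber C),
    Equidim.Core.pr (Ring.below Γ(Y, U₀) Q) η ≤ Q → Order.coheight η ≤ ((m - 1 : ℕ) : ℕ∞)}
  have hG : IsClosed Gᶜ := (Support.isOpen_coheight_le (A := Γ(Y, U₀)) (C := C) _).isClosed_compl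
  let c := PrimeSpectrum.comap π.toRingHom
  have hS : IsClosed (c '' Gᶜ) :=
    (PrimeSpectrum.isClosedEmbedding_comap_of_surjective C π.toRingHom hπ).isClosedMap _ hG
  have hrange : ∀ Q : PrimeSpectrum Γ(X, V), hV.fromSpec Q ∈ T ↔ Q ∈ Set.range c := fun Q => by
    rw [show Set.range c = PrimeSpectrum.zeroLocus (I : Set Γ(X, V)) from
      (range_comap_of_surjective _ _ hπ).trans (by
        rw [show RingHom.ker π.toRingHom = I from Ideal.mk_ker]), ← hI]
    rfl
  have hcd : ∀ Q : PrimeSpectrum C, cd f (hV.fromSpec (c Q)) = Support.cl (A := Γ(Y, U₀)) Q := fun Q => by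
    rw [Locus.cl_comap_eq π hπ Q]
    exact Chart.closure_dim_eq f hU₀ hV hVU rfl _ (f.asFiber (hV.fromSpec (c Q))) (c Q) (f.fiberι_asFiber _)
  have hbase : ∀ Q : PrimeSpectrum C, f.base (hV.fromSpec (c Q)) = hU₀.fromSpec (Ring.below Γ(Y, U₀) Q) := fun Q =>
    (Equidim.f_fromSpec f hU₀ hV hVU rfl (c Q)).trans (congrArg hU₀.fromSpec (PrimeSpectrum.ext (by
      show ((Q.asIdeal.comap π.toRingHom).comap (algebraMap Γ(Y, U₀) Γ(X, V))) = _
      rw [Ideal.comap_comap, show π.toRingHom.comp (algebraMap Γ(Y, U₀) Γ(X, V)) = algebraMap Γ(Y, U₀) C from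
        π.comp_algebraMap]
      rfl)))
  have key : ∀ Q : PrimeSpectrum Γ(X, V), hV.fromSpec Q ∈ E f T m ↔ Q ∈ c '' Gᶜ := fun Q => by
    constructor
    · rintro ⟨z, hzT, hfz, hzx, hm'⟩
      obtain ⟨R, hR⟩ := hV.range_fromSpec.superset (hzx.mem_open V.isOpen (hV.range_fromSpec.subset ⟨Q, rfl⟩))
      obtain ⟨R', rfl⟩ : (R : PrimeSpectrum Γ(X, V)) ∈ Set.range c := (hrange R).mp (hR ▸ hzT)
      obtain ⟨Q', rfl⟩ : Q ∈ Set.range c := (hrange Q).mp (hzx.mem_closed hT hzT)
      subst hR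
      have hle : R' ≤ Q' := by
        refine (Ideal.comap_le_comap_iff_of_surjective π.toRingHom hπ _ _).mp ?_
        exact (PrimeSpectrum.le_iff_specializes _ _).mpr (hV.fromSpec.isOpenEmbedding.isInducing.specializes_iff.mp hzx)
      refine ⟨Q', fun hG' => ?_, rfl⟩
      rw [hbase, hbase] at hfz
      have hb : Ring.below Γ(Y, U₀) R' = Ring.below Γ(Y, U₀) Q' := hU₀.fromSpec.isOpenEmbedding.injective hfz
      obtain ⟨η, hη⟩ := Equidim.Core.exists_pr (Ring.below Γ(Y, U₀) Q') R' (congrArg PrimeSpectrum.asIdeal hb)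
      have h1 := hG' η (hη.trans_le hle)
      rw [hcd, ← hη, ← Support.coheight_eq_cl,
        show (m : WithBot ℕ∞) = ((m : ℕ∞) : WithBot ℕ∞) from rfl, WithBot.coe_le_coe] at hm'
      have := hm'.trans h1
      norm_cast at this
      omega
    · rintro ⟨Q', hQ', rfl⟩
      have hQ'' : ∃ η : PrimeSpectrum ((Ring.below Γ(Y, U₀) Q').asIdeal.Fiber C),
          Equidim.Core.pr (Ring.below Γ(Y, U₀) Q') η ≤ Q' ∧ ¬ Order.coheight η ≤ ((m - 1 : ℕ) : ℕ∞) := by
        by_contra hne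
        exact hQ' fun η hη => by_contra fun hn => hne ⟨η, hη, hn⟩
      obtain ⟨η, hη, hn⟩ := hQ''
      let R' := Equidim.Core.pr (Ring.below Γ(Y, U₀) Q') η
      refine ⟨hV.fromSpec (c R'), (hrange _).mpr ⟨R', rfl⟩, ?_, ?_, ?_⟩
      · rw [hbase, hbase, Support.below_pr]
      · exact ((PrimeSpectrum.le_iff_specializes _ _).mp (Ideal.comap_mono hη : c R' ≤ c Q')).map hV.fromSpec.continuous
      · rw [hcd, ← Support.coheight_eq_cl, show (m : WithBot ℕ∞) = ((m : ℕ∞) : WithBot ℕ∞) from rfl,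
          WithBot.coe_le_coe]
        rw [not_le] at hn
        have := Order.add_one_le_of_lt hn
        refine le_trans (le_of_eq ?_) this
        norm_cast
        omega
  refine ⟨hV.fromSpec '' (c '' Gᶜ)ᶜ, ?_, hV.fromSpec.isOpenEmbedding.isOpenMap _ hS.isOpen_compl, ?_⟩
  · rintro _ ⟨Q, hQ, rfl⟩ h
    exact hQ ((key Q).mp h)
  · exact ⟨hV.primeIdealOf ⟨x, hxV⟩, fun h => hx (by
      have h2 := (key _).mpr h
      rwa [hV.fromSpec_primeIdealOf] at h2),
      hV.fromSpec_primeIdealOf ⟨x, hxV⟩⟩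

end

end Groth.Agent.FibreDepth.Fibre
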