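import Mathlib
import Groth.Agent.FibreDepth.Fibre

/-! Openness of loci defined by associated points and Serre conditions on the fibres of a flat module. -/

set_option autoImplicit false
set_option backward.isDefEq.respectTransparency false
set_option linter.style.haveILetI false
universe u
open CategoryTheory AlgebraicGeometry TopologicalSpace Topology IsLocalRing

namespace Groth.Agent.FibreDepth.Loci
open Gen Fibre

variable {X Y : Scheme.{u}} {f : X ⟶ Y} [LocallyOfFinitePresentation f] {F : X.Modules}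

theorem dp_eq_top {Z : Scheme.{u}} (G : Z.Modules) (w : Z) (h : Subsingleton (G.presheaf.stalk w)) :
    dpS G w = ⊤ := by
  classical
  show LocCoh.idealDepth _ _ = ⊤
  unfold LocCoh.idealDepth
  rw [if_pos (Subsingleton.elim _ _)]

/-- minimal point of the support of the fibre -/
def MinSupp (f : X ⟶ Y) (F : X.Modules) (y : Y) (w : ↥(f.fiber y)) : Prop :=
  Nontrivial ((fib f F y).presheaf.stalk w) ∧
    ∀ v, v ⤳ w → Nontrivial ((fib f F y).presheaf.stalk v) → v = w

section fibre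

variable (hF : CohB1.IsFP F)
include hF

theorem mem_ass_iff (y : Y) (w : ↥(f.fiber y)) : w ∈ AssSch.Ass (fib f F y) ↔ dpS (fib f F y) w = 0 := by
  haveI := noeth f y w
  haveI := finite_fib f hF y w
  exact Gen.mem_ass_iff _ w

theorem fibre_invariants (y : Y) (w : ↥(f.fiber y)) (p : PrimeSpectrum ((f.fiber y).presheaf.stalk w)) :
    LocCoh.depth (Localization.AtPrime p.asIdeal) (LocalizedModule p.asIdeal.primeCompl ((fib f F y).presheaf.stalk w)) =
      dpS (fib f F y) (gen w p) ∧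
    Module.supportDim (Localization.AtPrime p.asIdeal) (LocalizedModule p.asIdeal.primeCompl ((fib f F y).presheaf.stalk w)) =
      sdS (fib f F y) (gen w p) ∧
    (p ∈ Module.support ((f.fiber y).presheaf.stalk w) ((fib f F y).presheaf.stalk w) ↔
      Nontrivial ((fib f F y).presheaf.stalk (gen w p))) := by
  haveI := qcoh_fib f hF y
  exact Gen.invariants _ w (noeth f y) (finite_fib f hF y) p

/-- Serre's condition at a point of a fibre, in terms of generizations. -/
theorem hasSk_iff (k : ℕ) (y : Y) (w : ↥(f.fiber y)) :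
    LocCoh.HasSk k ((f.fiber y).presheaf.stalk w) ((fib f F y).presheaf.stalk w) ↔
      ∀ v, v ⤳ w → min (k : WithBot ℕ∞) (sdS (fib f F y) v) ≤ ((dpS (fib f F y) v : ℕ∞) : WithBot ℕ∞) := by
  constructor
  · intro h v hv
    obtain ⟨p, rfl⟩ := (range_gen w v).mpr hv
    obtain ⟨h1, h2, -⟩ := fibre_invariants hF y w p
    have h3 := h p.asIdeal
    rwa [h1, h2] at h3
  · intro h p hp
    obtain ⟨h1, h2, -⟩ := fibre_invariants hF y w ⟨p, hp⟩
    rw [h1, h2]
    exact h _ (gen_specializes w _)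

theorem nontrivial_of_gen (y : Y) (v w : ↥(f.fiber y)) (h : v ⤳ w) (hv : Nontrivial ((fib f F y).presheaf.stalk v)) :
    Nontrivial ((fib f F y).presheaf.stalk w) := by
  obtain ⟨p, rfl⟩ := (range_gen w v).mpr h
  exact Module.nonempty_support_iff.mp ⟨p, (fibre_invariants hF y w p).2.2.mpr hv⟩

theorem gen_closedPoint (y : Y) (w : ↥(f.fiber y)) :
    gen w (IsLocalRing.closedPoint ((f.fiber y).presheaf.stalk w)) = w := by
  obtain ⟨p, hp⟩ := (range_gen w w).mpr specializes_rfl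
  have h := (gen_le_iff w p (IsLocalRing.closedPoint _)).mp (le_maximalIdeal p.2.ne_top)
  rw [hp] at h
  exact (h.antisymm (gen_specializes w _)).eq.symm

theorem dp_eq_zero_of_minSupp (y : Y) (w : ↥(f.fiber y)) (h : MinSupp f F y w) : dpS (fib f F y) w = 0 := by
  haveI := noeth f y w
  haveI := finite_fib f hF y w
  haveI := h.1
  haveI : Subsingleton ↥(Module.support ((f.fiber y).presheaf.stalk w) ((fib f F y).presheaf.stalk w)) :=
    ⟨fun a b => Subtype.ext (gen_injective w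
      ((h.2 _ (gen_specializes w _) ((fibre_invariants hF y w a.1).2.2.mp a.2)).trans
        (h.2 _ (gen_specializes w _) ((fibre_invariants hF y w b.1).2.2.mp b.2)).symm))⟩
  have h1 := IdealDepth.depth_le_supportDim (R := (f.fiber y).presheaf.stalk w) (M := (fib f F y).presheaf.stalk w)
  rw [show Module.supportDim ((f.fiber y).presheaf.stalk w) ((fib f F y).presheaf.stalk w) = 0 from by
    haveI : Nonempty ↥(Module.support ((f.fiber y).presheaf.stalk w) ((fib f F y).presheaf.stalk w)) :=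
      (Module.nonempty_support_iff.mpr h.1).to_subtype
    exact Order.krullDim_eq_zero,
    ← WithBot.coe_zero, WithBot.coe_le_coe] at h1
  exact nonpos_iff_eq_zero.mp h1

theorem minSupp_of_sd (y : Y) (w : ↥(f.fiber y)) (hn : Nontrivial ((fib f F y).presheaf.stalk w))
    (h : sdS (fib f F y) w ≤ 0) : MinSupp f F y w := by
  refine ⟨hn, fun v hv hnv => ?_⟩
  obtain ⟨p, rfl⟩ := (range_gen w v).mpr hv
  have hpS := (fibre_invariants hF y w p).2.2.mpr hnv
  let m := IsLocalRing.closedPoint ((f.fiber y).presheaf.stalk w)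
  have hm : m ∈ Module.support ((f.fiber y).presheaf.stalk w) ((fib f F y).presheaf.stalk w) :=
    (fibre_invariants hF y w m).2.2.mpr ((gen_closedPoint hF y w).symm ▸ hn)
  have hmax := Order.krullDim_nonpos_iff_forall_isMax.mp h
  have hpm : (⟨p, hpS⟩ : ↥(Module.support ((f.fiber y).presheaf.stalk w) ((fib f F y).presheaf.stalk w))) ≤ ⟨m, hm⟩ :=
    le_maximalIdeal p.2.ne_top
  rw [show p = m from congrArg Subtype.val (le_antisymm hpm (hmax _ hpm))]
  exact gen_closedPoint hF y w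

theorem exists_minSupp (y : Y) (w : ↥(f.fiber y)) (hn : Nontrivial ((fib f F y).presheaf.stalk w)) :
    ∃ v, v ⤳ w ∧ MinSupp f F y v := by
  haveI := noeth f y w
  haveI := finite_fib f hF y w
  obtain ⟨a, ha⟩ := (Module.nonempty_support_iff (R := (f.fiber y).presheaf.stalk w)).mpr hn
  obtain ⟨m, hm, -⟩ := Ideal.exists_minimalPrimes_le (Module.mem_support_iff_of_finite.mp ha)
  let p : PrimeSpectrum ((f.fiber y).presheaf.stalk w) := ⟨m, hm.1.1⟩
  refine ⟨gen w p, gen_specializes w p, (fibre_invariants hF y w p).2.2.mp (Module.mem_support_iff_of_finite.mpr hm.1.2),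
    fun v hv hnv => ?_⟩
  obtain ⟨q, rfl⟩ := (range_gen w v).mpr (hv.trans (gen_specializes w p))
  have hq : Module.annihilator _ _ ≤ q.asIdeal :=
    Module.mem_support_iff_of_finite.mp ((fibre_invariants hF y w q).2.2.mpr hnv)
  have hqp : q ≤ p := (gen_le_iff w q p).mpr hv
  exact congrArg (gen w) (le_antisymm hqp (hm.2 ⟨q.2, hq⟩ hqp))

/-- Equidimensionality at a point, in terms of generizations. -/
theorem isEquidimModule_iff (y : Y) (w : ↥(f.fiber y)) :
    EGA4.IsEquidimModule ((f.fiber y).presheaf.stalk w) ((fib f F y).presheaf.stalk w) ↔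
      ∀ v v', v ⤳ w → v' ⤳ w → MinSupp f F y v → MinSupp f F y v' →
        topologicalKrullDim ↥(closure ({v} : Set ↥(f.fiber y))) = topologicalKrullDim ↥(closure ({v'} : Set ↥(f.fiber y))) := by
  haveI := noeth f y w
  haveI := finite_fib f hF y w
  haveI : LocallyOfFiniteType (f.fiberToSpecResidueField y) :=
    MorphismProperty.pullback_snd (P := @LocallyOfFiniteType) _ _ inferInstance
  rw [Gen.isEquidimModule_iff]
  have hmin : ∀ p, Minimal (· ∈ Module.support ((f.fiber y).presheaf.stalk w) ((fib f F y).presheaf.stalk w)) p ↔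
      MinSupp f F y (gen w p) := fun p => by
    constructor
    · intro h
      refine ⟨(fibre_invariants hF y w p).2.2.mp h.1, fun v hv hnv => ?_⟩
      obtain ⟨q, rfl⟩ := (range_gen w v).mpr (hv.trans (gen_specializes w p))
      have hqp : q ≤ p := (gen_le_iff w q p).mpr hv
      exact congrArg (gen w) (le_antisymm hqp (h.2 ((fibre_invariants hF y w q).2.2.mpr hnv) hqp))
    · intro h
      refine ⟨(fibre_invariants hF y w p).2.2.mpr h.1, fun q hq hqp => ?_⟩
      exact (gen_injective w (h.2 _ ((gen_le_iff w q p).mp hqp) ((fibre_invariants hF y w q).2.2.mp hq))).ge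
  have hadd := Gen.coheight_add (K := Y.residueField y) (f.fiberToSpecResidueField y) w
  constructor
  · intro h v v' hv hv' hmv hmv'
    obtain ⟨p, rfl⟩ := (range_gen w v).mpr hv
    obtain ⟨q, rfl⟩ := (range_gen w v').mpr hv'
    rw [← hadd p, ← hadd q, h p q ((hmin p).mpr hmv) ((hmin q).mpr hmv')]
  · intro h p q hp hq
    have h1 := h _ _ (gen_specializes w p) (gen_specializes w q) ((hmin p).mp hp) ((hmin q).mp hq)
    rw [← hadd p, ← hadd q] at h1
    obtain ⟨e, he⟩ : ∃ e : ℕ, topologicalKrullDim ↥(closure ({w} : Set ↥(f.fiber y))) = (e : ℕ) :=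
      (fiber_iff f (P := fun y w => ∃ e : ℕ, topologicalKrullDim ↥(closure ({w} : Set ↥(f.fiber y))) = (e : ℕ)) y w).mpr
        (exists_cd f _)
    rw [he, show (e : WithBot ℕ∞) = ((e : ℕ∞) : WithBot ℕ∞) from rfl, ← WithBot.coe_add, ← WithBot.coe_add,
      WithBot.coe_inj] at h1
    exact (ENat.addLECancellable_natCast e).inj_left.mp h1

theorem eq_of_cd_eq (y : Y) (v w : ↥(f.fiber y)) (hvw : v ⤳ w)
    (h : topologicalKrullDim ↥(closure ({v} : Set ↥(f.fiber y))) = topologicalKrullDim ↥(closure ({w} : Set ↥(f.fiber y)))) :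
    v = w := by
  haveI : LocallyOfFiniteType (f.fiberToSpecResidueField y) :=
    MorphismProperty.pullback_snd (P := @LocallyOfFiniteType) _ _ inferInstance
  obtain ⟨p, rfl⟩ := (range_gen w v).mpr hvw
  rw [← Gen.coheight_add (K := Y.residueField y) (f.fiberToSpecResidueField y) w p] at h
  obtain ⟨e, he⟩ : ∃ e : ℕ, topologicalKrullDim ↥(closure ({w} : Set ↥(f.fiber y))) = (e : ℕ) :=
    (fiber_iff f (P := fun y w => ∃ e : ℕ, topologicalKrullDim ↥(closure ({w} : Set ↥(f.fiber y))) = (e : ℕ)) y w).mpr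
      (exists_cd f _)
  rw [he, show (e : WithBot ℕ∞) = ((e : ℕ∞) : WithBot ℕ∞) from rfl, ← WithBot.coe_add, WithBot.coe_inj] at h
  have h0 : Order.coheight p = 0 := (ENat.addLECancellable_natCast e).inj_left.mp (h.trans (zero_add _).symm)
  have hle : p ≤ IsLocalRing.closedPoint _ := le_maximalIdeal p.2.ne_top
  rw [le_antisymm hle (Order.coheight_eq_zero.mp h0 hle)]
  exact gen_closedPoint hF y w

theorem eq_of_cd_eq' (z z' : X) (h : f.base z' = f.base z) (hsp : z' ⤳ z) (hcd : cd f z' = cd f z) : z' = z := by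
  obtain ⟨v, hv⟩ : z' ∈ Set.range (f.fiberι (f.base z)) := by rw [f.range_fiberι]; exact h
  have hvz : v ⤳ f.asFiber z := (f.fiberι (f.base z)).isEmbedding.isInducing.specializes_iff.mp (by
    rw [hv, Scheme.Hom.fiberι_asFiber]; exact hsp)
  have h2 := (fiber_iff f (P := fun y w => topologicalKrullDim ↥(closure ({w} : Set ↥(f.fiber y))) = cd f z)
    (f.base z) v).mpr (by rw [hv]; exact hcd)
  rw [← hv, eq_of_cd_eq hF _ v (f.asFiber z) hvz h2, Scheme.Hom.fiberι_asFiber]

end fibre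

section open_loci

variable (hF : CohB1.IsFP F) (hflat : FlatMod.IsFlatOver f F)
include hF hflat

omit hF hflat in
/-- points of rectified depth at most `j` -/
def T (f : X ⟶ Y) (F : X.Modules) (j : ℕ) : Set X :=
  {x | ¬ ((j + 1 : ℕ) : WithBot ℕ∞) ≤ ((dp f F x : ℕ∞) : WithBot ℕ∞) + cd f x}

theorem isClosed_T (j : ℕ) : IsClosed (T f F j) :=
  (Main.isOpen_rdepth f F hF hflat (j + 1)).isClosed_compl

omit hF hflat in
theorem mem_T (j : ℕ) (x : X) : x ∈ T f F j ↔ ∃ d e : ℕ, dp f F x = d ∧ cd f x = (e : ℕ) ∧ d + e ≤ j := by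
  obtain ⟨e, he⟩ := exists_cd f x
  rw [T, Set.mem_setOf_eq, he, show (e : WithBot ℕ∞) = ((e : ℕ∞) : WithBot ℕ∞) from rfl, ← WithBot.coe_add,
    show ((j + 1 : ℕ) : WithBot ℕ∞) = (((j + 1 : ℕ) : ℕ∞) : WithBot ℕ∞) from rfl, WithBot.coe_le_coe]
  constructor
  · intro h
    obtain ⟨d, hd⟩ := ENat.ne_top_iff_exists.mp (show dp f F x ≠ ⊤ from fun ht => h (by rw [ht, top_add]; exact le_top))
    rw [← hd] at h
    norm_cast at h
    exact ⟨d, e, hd.symm, rfl, by omega⟩
  · rintro ⟨d, e', hd, he', hle⟩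
    rw [hd]
    rw [show ((e : ℕ∞) : WithBot ℕ∞) = (e : ℕ) from rfl] at he'
    have : e = e' := by exact_mod_cast he'
    norm_cast
    omega

omit hF hflat in
/-- points with an associated generization of dimension `i` -/
def A (f : X ⟶ Y) (F : X.Modules) (i : ℕ) : Set X := E f (T f F i) i

omit hF hflat in
theorem mem_T_of_le (i : ℕ) (z : X) (hi : (i : WithBot ℕ∞) ≤ cd f z) :
    z ∈ T f F i ↔ dp f F z = 0 ∧ cd f z = (i : ℕ) := by
  rw [mem_T]
  constructor
  · rintro ⟨d, e, hd, he, hle⟩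
    rw [he] at hi
    have : i ≤ e := by exact_mod_cast hi
    rw [hd, he]
    exact ⟨by rw [show d = 0 by omega]; rfl, by rw [show e = i by omega]⟩
  · rintro ⟨h0, he⟩
    exact ⟨0, i, by rw [h0]; rfl, he, (zero_add i).le⟩

omit hF hflat in
theorem mem_A (i : ℕ) (x : X) :
    x ∈ A f F i ↔ ∃ z, f.base z = f.base x ∧ z ⤳ x ∧ dp f F z = 0 ∧ cd f z = (i : ℕ) := by
  constructor
  · rintro ⟨z, hT, hfz, hzx, hi⟩
    exact ⟨z, hfz, hzx, (mem_T_of_le i z hi).mp hT⟩
  · rintro ⟨z, hfz, hzx, h0, he⟩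
    exact ⟨z, (mem_T_of_le i z he.ge).mpr ⟨h0, he⟩, hfz, hzx, he.ge⟩

theorem isClosed_A (i : ℕ) : IsClosed (A f F i) := isClosed_E f (isClosed_T hF hflat i) i

omit hF hflat in
theorem isOpen_avoid (B : ℕ → Set X) (hB : ∀ i, IsClosed (B i)) (P : ℕ → Prop) (N : ℕ → ℕ)
    (hbd : ∀ (i : ℕ) (n : ℕ) (x : X), x ∈ B i → (∀ z, z ⤳ x → ∃ e ≤ n, cd f z = (e : ℕ)) → i ≤ N n) :
    IsOpen {x : X | ∀ i, P i → x ∉ B i} := by
  refine isOpen_iff_forall_mem_open.mpr fun x hx => ?_
  obtain ⟨V, n, hxV, hV⟩ := exists_bound f x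
  refine ⟨(V : Set X) ∩ ⋂ i ∈ {i | P i ∧ i ≤ N n}, (B i)ᶜ, fun w hw i hi hwi => ?_, ?_, hxV, ?_⟩
  · exact Set.mem_iInter₂.mp hw.2 i ⟨hi, hbd i n w hwi fun z hz => hV z (hz.mem_open V.isOpen hw.1)⟩ hwi
  · exact V.isOpen.inter ((Set.finite_Iic (N n)).subset (fun i hi => hi.2) |>.isOpen_biInter
      fun i _ => (hB i).isOpen_compl)
  · exact Set.mem_iInter₂.mpr fun i hi => hx i hi.1

/-- Dimensions of associated generizations in prescribed set. -/
theorem isOpen_assDims (Φ : Set ℕ) : IsOpen {x : X | ∀ z, f.base z = f.base x → z ⤳ x → dp f F z = 0 →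
    ∃ n ∈ Φ, cd f z = (n : ℕ)} := by
  refine (congrArg IsOpen (Set.ext fun x => ?_)).mpr
    (isOpen_avoid (f := f) (A f F) (isClosed_A hF hflat) (fun i => i ∉ Φ) id fun i n x hx hz => ?_)
  · constructor
    · intro h i hi hxA
      obtain ⟨z, h1, h2, h3, h4⟩ := (mem_A i x).mp hxA
      obtain ⟨m, hm, h5⟩ := h z h1 h2 h3
      rw [h4] at h5
      exact hi (by rwa [show i = m by exact_mod_cast h5])
    · intro h z h1 h2 h3
      obtain ⟨e, he⟩ := exists_cd f z
      exact ⟨e, by_contra fun hn => h e hn ((mem_A e x).mpr ⟨z, h1, h2, h3, he⟩), he⟩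
  · obtain ⟨z, -, h2, -, h4⟩ := (mem_A i x).mp hx
    obtain ⟨e, hen, he⟩ := hz z h2
    rw [h4] at he
    rw [show i = e by exact_mod_cast he]
    exact hen

/-- No embedded associated cycle through the point. -/
theorem isOpen_noEmbedded : IsOpen {x : X | ∀ z, f.base z = f.base x → z ⤳ x → dp f F z = 0 →
    ∀ z', f.base z' = f.base z → z' ⤳ z → dp f F z' = 0 → z' = z} := by
  let B : ℕ → Set X := fun m => E f (T f F m.unpair.1 ∩ A f F m.unpair.2) m.unpair.1
  have hB : ∀ m, IsClosed (B m) := fun m => isClosed_E f ((isClosed_T hF hflat _).inter (isClosed_A hF hflat _)) _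
  have hmem : ∀ m x, x ∈ B m ↔ ∃ z, f.base z = f.base x ∧ z ⤳ x ∧ dp f F z = 0 ∧ cd f z = (m.unpair.1 : ℕ) ∧
      ∃ z', f.base z' = f.base z ∧ z' ⤳ z ∧ dp f F z' = 0 ∧ cd f z' = (m.unpair.2 : ℕ) := fun m x => by
    constructor
    · rintro ⟨z, ⟨hT, hA⟩, hfz, hzx, hi⟩
      obtain ⟨h0, he⟩ := (mem_T_of_le _ z hi).mp hT
      exact ⟨z, hfz, hzx, h0, he, (mem_A _ z).mp hA⟩
    · rintro ⟨z, hfz, hzx, h0, he, h'⟩
      exact ⟨z, ⟨(mem_T_of_le _ z he.ge).mpr ⟨h0, he⟩, (mem_A _ z).mpr h'⟩, hfz, hzx, he.ge⟩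
  refine (congrArg IsOpen (Set.ext fun x => ?_)).mpr
    (isOpen_avoid (f := f) B hB (fun m => m.unpair.1 ≠ m.unpair.2) (fun n => (n + n + 1) ^ 2) fun m n x hx hz => ?_)
  · constructor
    · intro h m hne hxB
      obtain ⟨z, h1, h2, h3, h4, z', h1', h2', h3', h4'⟩ := (hmem m x).mp hxB
      rw [h z h1 h2 h3 z' h1' h2' h3', h4] at h4'
      exact hne (by exact_mod_cast h4')
    · intro h z h1 h2 h3 z' h1' h2' h3'
      obtain ⟨i, hi⟩ := exists_cd f z
      obtain ⟨j, hj⟩ := exists_cd f z'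
      by_contra hne
      refine h (Nat.pair i j) (fun hij => hne ?_) ((hmem _ x).mpr ⟨z, h1, h2, h3, by rw [Nat.unpair_pair]; exact hi,
        z', h1', h2', h3', by rw [Nat.unpair_pair]; exact hj⟩)
      rw [Nat.unpair_pair] at hij
      simp only at hij
      subst hij
      exact eq_of_cd_eq' hF z z' h1' h2' (hj.trans hi.symm)
  · obtain ⟨z, -, h2, -, h4, z', -, h2', -, h4'⟩ := (hmem m x).mp hx
    obtain ⟨e, hen, he⟩ := hz z h2
    obtain ⟨e', hen', he'⟩ := hz z' (h2'.trans h2)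
    rw [h4] at he
    rw [h4'] at he'
    have h6 : m.unpair.1 = e := by exact_mod_cast he
    have h7 : m.unpair.2 = e' := by exact_mod_cast he'
    rw [← Nat.pair_unpair m, h6, h7]
    refine (Nat.pair_lt_max_add_one_sq e e').le.trans (Nat.pow_le_pow_left ?_ 2)
    omega

/-- Serre's condition along the generizations in the fibre. -/
theorem isOpen_hasSk (k : ℕ) : IsOpen {x : X | ∀ z, f.base z = f.base x → z ⤳ x →
    min (k : WithBot ℕ∞) (sd f F z) ≤ ((dp f F z : ℕ∞) : WithBot ℕ∞)} := by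
  let C : Set X := {x | ¬ sd f F x ≤ ((dp f F x : ℕ∞) : WithBot ℕ∞) + (0 : ℕ)}
  have hC : IsClosed C := (Main.isOpen_codepth f F hF hflat 0).isClosed_compl
  have hCmem : ∀ z, z ∈ C ↔ ¬ sd f F z ≤ ((dp f F z : ℕ∞) : WithBot ℕ∞) := fun z => by
    show ¬ _ ↔ _
    rw [Nat.cast_zero, add_zero]
  let B : ℕ → Set X := fun j => E f (T f F j ∩ C) (j + 1 - k)
  have hB : ∀ j, IsClosed (B j) := fun j => isClosed_E f ((isClosed_T hF hflat _).inter hC) _
  have hmem : ∀ x, (∃ j, x ∈ B j) ↔ ∃ z, f.base z = f.base x ∧ z ⤳ x ∧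
      ¬ min (k : WithBot ℕ∞) (sd f F z) ≤ ((dp f F z : ℕ∞) : WithBot ℕ∞) := fun x => by
    constructor
    · rintro ⟨j, z, ⟨hT, hzC⟩, hfz, hzx, hi⟩
      obtain ⟨d, e, hd, he, hle⟩ := (mem_T j z).mp hT
      rw [he] at hi
      have hi' : j + 1 - k ≤ e := by exact_mod_cast hi
      refine ⟨z, hfz, hzx, fun hmin => ?_⟩
      rcases min_le_iff.mp hmin with h | h
      · rw [hd] at h
        have : k ≤ d := by exact_mod_cast h
        omega
      · exact (hCmem z).mp hzC h
    · rintro ⟨z, hfz, hzx, hmin⟩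
      rw [min_le_iff, not_or] at hmin
      obtain ⟨e, he⟩ := exists_cd f z
      obtain ⟨d, hd⟩ := ENat.ne_top_iff_exists.mp (show dp f F z ≠ ⊤ from fun ht => hmin.1 (by
        rw [ht]; exact WithBot.coe_le_coe.mpr le_top))
      have : ¬ k ≤ d := fun hkd => hmin.1 (by rw [← hd]; exact_mod_cast hkd)
      refine ⟨d + e, z, ⟨(mem_T _ z).mpr ⟨d, e, hd.symm, he, le_rfl⟩, (hCmem z).mpr hmin.2⟩, hfz, hzx, ?_⟩
      rw [he]
      exact_mod_cast (show d + e + 1 - k ≤ e by omega)
  refine (congrArg IsOpen (Set.ext fun x => ?_)).mpr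
    (isOpen_avoid (f := f) B hB (fun _ => True) (fun n => n + k) fun j n x hx hz => ?_)
  · constructor
    · intro h j _ hxB
      obtain ⟨z, h1, h2, h3⟩ := (hmem x).mp ⟨j, hxB⟩
      exact h3 (h z h1 h2)
    · intro h z h1 h2
      by_contra h3
      obtain ⟨j, hj⟩ := (hmem x).mpr ⟨z, h1, h2, h3⟩
      exact h j trivial hj
  · obtain ⟨z, -, -, hzx, hi⟩ := hx
    obtain ⟨e, hen, he⟩ := hz z hzx
    rw [he] at hi
    have : j + 1 - k ≤ e := by exact_mod_cast hi
    omega

end open_loci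

end Groth.Agent.FibreDepth.Loci
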