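import Mathlib
import Groth.Agent.FibreDepth.Loci
import Groth.Agent.ModStalk.QuasiFlat
import Groth.Agent.ModStalk.UnitStalk
import Groth.Agent.S6285

/-! Images of loci on the fibres; components of the supports of the fibres. -/

set_option autoImplicit false
set_option backward.isDefEq.respectTransparency false
set_option linter.style.haveILetI false
universe u
open CategoryTheory AlgebraicGeometry TopologicalSpace Topology IsLocalRing
open scoped TensorProduct

namespace Groth.Agent.FibreDepth.Proper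
open Gen Fibre

variable {X Y : Scheme.{u}} {f : X ⟶ Y}

theorem isOpen_forall (hf : IsClosedMap f.base) {P : X → Prop} (hP : IsOpen {x | P x}) :
    IsOpen {y : Y | ∀ x, f.base x = y → P x} := by
  have : {y : Y | ∀ x, f.base x = y → P x} = (f.base '' {x | P x}ᶜ)ᶜ := by
    ext y
    simp only [Set.mem_setOf_eq, Set.mem_compl_iff, Set.mem_image, not_exists, not_and]
    exact ⟨fun h x hx hxy => hx (h x hxy), fun h x hxy => by_contra fun hx => h x hx hxy⟩
  rw [this]
  exact (hf _ hP.isClosed_compl).isOpen_compl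

set_option maxHeartbeats 1000000 in
/-- Flat modules on algebras of finite presentation: the support maps openly. -/
theorem image_support_mem_nhds {A B : Type u} [CommRing A] [CommRing B] [Algebra A B] [Algebra.FinitePresentation A B]
    (N : Type u) [AddCommGroup N] [Module B N] [Module A N] [IsScalarTower A B N] [Module.Flat A N]
    [Module.FinitePresentation B N] (O : Set (PrimeSpectrum B)) (hO : IsOpen O) (q : PrimeSpectrum B)
    (hq : q ∈ Module.support B N) (hqO : q ∈ O) :
    PrimeSpectrum.comap (algebraMap A B) '' (O ∩ Module.support B N) ∈ nhds (PrimeSpectrum.comap (algebraMap A B) q) := by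
  classical
  obtain ⟨hcl, hc⟩ := Groth.Agent.S6285.result B N
  obtain ⟨t, ht⟩ := PrimeSpectrum.isCompact_isOpen_iff.1 ⟨hc, hcl.isOpen_compl⟩
  let J : Ideal B := Ideal.span (t : Set B)
  let C := B ⧸ J
  haveI : Algebra.FinitePresentation A C := Algebra.FinitePresentation.quotient ⟨t, rfl⟩
  let π := PrimeSpectrum.comap (Ideal.Quotient.mk J)
  have hrange : Set.range π = Module.support B N := by
    rw [range_comap_of_surjective _ _ Ideal.Quotient.mk_surjective, Ideal.mk_ker, PrimeSpectrum.zeroLocus_span]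
    exact compl_injective ht
  have hcomap : ∀ c, PrimeSpectrum.comap (algebraMap A C) c = PrimeSpectrum.comap (algebraMap A B) (π c) :=
    fun c => PrimeSpectrum.ext rfl
  haveI : Algebra.HasGoingDown A C := by
    rw [Algebra.HasGoingDown.iff_generalizingMap_primeSpectrumComap]
    intro c p' (hp' : p' ⤳ PrimeSpectrum.comap (algebraMap A C) c)
    have hle : p' ≤ PrimeSpectrum.comap (algebraMap A B) (π c) := by
      rw [← hcomap]; exact (PrimeSpectrum.le_iff_specializes _ _).mpr hp'
    let b := π c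
    let p := PrimeSpectrum.comap (algebraMap A B) b
    let Ap := Localization.AtPrime p.asIdeal
    let Bb := Localization.AtPrime b.asIdeal
    let Nb := LocalizedModule b.asIdeal.primeCompl N
    letI : Algebra Ap Bb := (Localization.localRingHom p.asIdeal b.asIdeal (algebraMap A B) rfl).toAlgebra
    haveI : IsScalarTower A Ap Bb := IsScalarTower.of_algebraMap_eq fun a =>
      ((Localization.localRingHom_to_map p.asIdeal b.asIdeal (algebraMap A B) rfl a).trans
        (IsScalarTower.algebraMap_apply A B Bb a).symm).symm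
    haveI hloc : IsLocalHom (algebraMap Ap Bb) :=
      Localization.isLocalHom_localRingHom p.asIdeal b.asIdeal (algebraMap A B) rfl
    letI : Module Ap Nb := Module.compHom Nb (algebraMap Ap Bb)
    haveI : IsScalarTower Ap Bb Nb := IsScalarTower.of_algebraMap_smul fun _ _ => rfl
    haveI : IsScalarTower A Bb Nb := IsScalarTower.of_algebraMap_smul fun a v => by
      rw [IsScalarTower.algebraMap_apply A B Bb, algebraMap_smul, algebraMap_smul]
    haveI : IsScalarTower A Ap Nb := IsScalarTower.of_algebraMap_smul fun a v => by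
      show algebraMap Ap Bb (algebraMap A Ap a) • v = a • v
      rw [← IsScalarTower.algebraMap_apply A Ap Bb, algebraMap_smul]
    haveI hfA : Module.Flat A Nb := (Flat.FlatAt.flatAt_iff_localizedModule b.asIdeal).mp (Flat.FlatAt.FlatAt.of_flat b.asIdeal b.2.ne_top)
    haveI : Module.Flat Ap Nb := (Module.flat_iff_of_isLocalization Ap p.asIdeal.primeCompl Nb).mpr hfA
    haveI : Module.Finite Bb Nb := Module.Finite.of_isLocalizedModule b.asIdeal.primeCompl
      (LocalizedModule.mkLinearMap b.asIdeal.primeCompl N)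
    haveI : Nontrivial Nb := Module.mem_support_iff.mp (hrange.subset ⟨c, rfl⟩)
    let Q := Bb ⧸ Module.annihilator Bb Nb
    letI : Module Q Nb := Module.quotientAnnihilator
    haveI : IsScalarTower Bb Q Nb := IsScalarTower.of_algebraMap_smul fun _ _ => rfl
    haveI : IsScalarTower Ap Q Nb := IsScalarTower.of_algebraMap_smul fun a v => by
      show algebraMap Ap Bb a • v = a • v
      rw [algebraMap_smul]
    haveI : Nontrivial Q := Ideal.Quotient.nontrivial_iff.mpr fun htop => by
      obtain ⟨v, hv⟩ := exists_ne (0 : Nb)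
      have h1 : (1 : Bb) ∈ Module.annihilator Bb Nb := htop ▸ Submodule.mem_top
      exact hv (by rw [← one_smul Bb v]; exact Module.mem_annihilator.mp h1 v)
    haveI : IsLocalRing Q := IsLocalRing.of_surjective' _ Ideal.Quotient.mk_surjective
    haveI : IsLocalHom (Ideal.Quotient.mk (Module.annihilator Bb Nb)) :=
      Ideal.Quotient.mk_surjective.isLocalHom _
    haveI : IsLocalHom (algebraMap Ap Q) :=
      RingHom.isLocalHom_comp (Ideal.Quotient.mk (Module.annihilator Bb Nb)) (algebraMap Ap Bb)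
    haveI : Module.Finite Q Nb := Module.Finite.of_restrictScalars_finite Bb Q Nb
    obtain ⟨pp, hpp⟩ : p' ∈ Set.range (PrimeSpectrum.comap (algebraMap A Ap)) := by
      rw [PrimeSpectrum.localization_comap_range Ap p.asIdeal.primeCompl]
      exact Set.disjoint_left.mpr fun a ha hap => ha (hle hap)
    obtain ⟨qq, hqq⟩ := ModStalk.comap_surjective_of_module (R := Ap) (A := Q) Nb pp
    let q1 := PrimeSpectrum.comap (Ideal.Quotient.mk (Module.annihilator Bb Nb)) qq
    let q' := PrimeSpectrum.comap (algebraMap B Bb) q1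
    have hq'S : q' ∈ Module.support B N := by
      rw [Module.mem_support_iff_of_finite]
      intro a ha
      show algebraMap B Bb a ∈ q1.asIdeal
      have h1 : algebraMap B Bb a ∈ Module.annihilator Bb Nb := Module.mem_annihilator.mpr fun v => by
        obtain ⟨⟨m, s⟩, hms⟩ := IsLocalizedModule.surj b.asIdeal.primeCompl
          (LocalizedModule.mkLinearMap b.asIdeal.primeCompl N) v
        refine (((IsLocalization.map_units Bb s).smul_eq_zero)).mp ?_
        rw [algebraMap_smul, algebraMap_smul, smul_comm, show (s : B) • v = _ from hms, ← map_smul,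
          Module.mem_annihilator.mp ha m, map_zero]
      show Ideal.Quotient.mk _ (algebraMap B Bb a) ∈ qq.asIdeal
      rw [Ideal.Quotient.eq_zero_iff_mem.mpr h1]
      exact zero_mem _
    obtain ⟨c', hc'⟩ := hrange.superset hq'S
    refine ⟨c', ?_, ?_⟩
    · refine ((PrimeSpectrum.isClosedEmbedding_comap_of_surjective C _ Ideal.Quotient.mk_surjective).isInducing.specializes_iff).mp ?_
      show π c' ⤳ π c
      rw [hc', ← PrimeSpectrum.le_iff_specializes]
      intro a ha
      by_contra hab
      exact q1.2.ne_top (Ideal.eq_top_of_isUnit_mem _ ha (IsLocalization.map_units Bb (⟨a, hab⟩ : b.asIdeal.primeCompl)))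
    · rw [hcomap, hc', ← hpp, ← hqq]
      refine PrimeSpectrum.ext ?_
      show ((qq.asIdeal.comap (Ideal.Quotient.mk (Module.annihilator Bb Nb))).comap (algebraMap B Bb)).comap (algebraMap A B) =
        (qq.asIdeal.comap (algebraMap Ap Q)).comap (algebraMap A Ap)
      rw [Ideal.comap_comap, ← IsScalarTower.algebraMap_eq A B Bb, IsScalarTower.algebraMap_eq A Ap Bb,
        ← Ideal.comap_comap, Ideal.comap_comap (f := algebraMap Ap Bb)]
      rfl
  obtain ⟨c, hc'⟩ := hrange.superset hq
  refine Filter.mem_of_superset ((PrimeSpectrum.isOpenMap_comap_of_hasGoingDown_of_finitePresentation (R := A) (S := C) _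
    (hO.preimage (PrimeSpectrum.continuous_comap (Ideal.Quotient.mk J)))).mem_nhds
      ⟨c, show π c ∈ O by rw [hc']; exact hqO, (hcomap c).trans (congrArg _ hc')⟩) ?_
  rintro _ ⟨d, hd, rfl⟩
  exact ⟨π d, ⟨hd, hrange.subset ⟨d, rfl⟩⟩, (hcomap d).symm⟩

variable {F : X.Modules}

/-- Nonvanishing on the fibre is nonvanishing of the stalk. -/
theorem nz_iff (hF : CohB1.IsFP F) (x : X) : nz f F x ↔ Nontrivial (F.presheaf.stalk x) := by
  suffices h : ∀ (y : Y) (w : ↥(f.fiber y)),
      Nontrivial ((fib f F y).presheaf.stalk w) ↔ Nontrivial (F.presheaf.stalk (f.fiberι y w)) from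
    (h _ (f.asFiber x)).trans (by rw [Scheme.Hom.fiberι_asFiber])
  intro y w
  haveI := Sections.isQuasicoherent_of_isFP F hF
  haveI := finite_stalk F hF (f.fiberι y w)
  letI := ((f.fiberι y).stalkMap w).hom.toAlgebra
  obtain ⟨e, -⟩ := ModStalk.exists_pullStalk_equiv (f.fiberι y) F w
  rw [e.toEquiv.nontrivial_congr]
  let O := X.presheaf.stalk (f.fiberι y w)
  let S := (f.fiber y).presheaf.stalk w
  rw [← not_iff_not, not_nontrivial_iff_subsingleton, not_nontrivial_iff_subsingleton]
  refine ⟨fun h => (IsLocalRing.subsingleton_tensorProduct (R := O)).mp ?_, fun h => inferInstance⟩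
  have hS : Function.Surjective (algebraMap O S) := FibreStalk.surjective f y w
  let e' : (O ⧸ RingHom.ker (algebraMap O S)) ≃ₐ[O] S :=
    Ideal.quotientKerAlgEquivOfSurjective (f := Algebra.ofId O S) hS
  haveI : Nontrivial S := inferInstance
  let g : S →ₐ[O] IsLocalRing.ResidueField O :=
    (Ideal.Quotient.factorₐ O (le_maximalIdeal (RingHom.ker_ne_top (algebraMap O S)))).comp e'.symm.toAlgHom
  have hg : Function.Surjective g.toLinearMap :=
    (Ideal.Quotient.factor_surjective (le_maximalIdeal (RingHom.ker_ne_top (algebraMap O S)))).comp e'.symm.surjective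
  exact (LinearMap.rTensor_surjective (F.presheaf.stalk (f.fiberι y w)) hg).subsingleton

variable [LocallyOfFinitePresentation f] (hF : CohB1.IsFP F)
include hF

theorem image_mem_nhds (hflat : FlatMod.IsFlatOver f F) (O : Set X) (hO : IsOpen O) (z : X) (hzO : z ∈ O)
    (hz : nz f F z) : f.base '' (O ∩ {x | nz f F x}) ∈ nhds (f.base z) := by
  haveI := Sections.isQuasicoherent_of_isFP F hF
  obtain ⟨W, hzW, hW⟩ := Sections.exists_affine F hF z
  obtain ⟨U₀, hU₀, hyU₀, -⟩ := exists_isAffineOpen_mem_and_subset (X := Y) (U := ⊤) (x := f z) trivial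
  obtain ⟨V, hV, hzV, hVsub⟩ :=
    exists_isAffineOpen_mem_and_subset (X := X) (U := W ⊓ f ⁻¹ᵁ U₀) (x := z) ⟨hzW, hyU₀⟩
  have hVU : V ≤ f ⁻¹ᵁ U₀ := fun v hv => (hVsub hv).2
  haveI hMfp : Module.FinitePresentation Γ(X, V) Γ(F, V) := hW V hV fun v hv => (hVsub hv).1
  letI : Algebra Γ(Y, U₀) Γ(X, V) := (f.appLE U₀ V hVU).hom.toAlgebra
  haveI : Algebra.FinitePresentation Γ(Y, U₀) Γ(X, V) := f.finitePresentation_appLE hU₀ hV hVU
  letI : Module Γ(Y, U₀) Γ(F, V) := Module.compHom _ (algebraMap Γ(Y, U₀) Γ(X, V))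
  haveI : IsScalarTower Γ(Y, U₀) Γ(X, V) Γ(F, V) := IsScalarTower.of_algebraMap_smul fun _ _ => rfl
  haveI : Module.Flat Γ(Y, U₀) Γ(F, V) := Chart.flat_sections f F hU₀ hV hVU rfl hflat
  have hsupp : ∀ v : V, (hV.primeIdealOf v) ∈ Module.support Γ(X, V) Γ(F, V) ↔ nz f F v.1 := fun v => by
    letI := ModStalk.sectionModule F v
    haveI := ModStalk.isLocalizedModule_germ hV F v
    rw [nz_iff hF, Module.mem_support_iff]
    exact (IsLocalizedModule.iso (hV.primeIdealOf v).asIdeal.primeCompl (ModStalk.germₗ F v)).toEquiv.nontrivial_congr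
  let q := hV.primeIdealOf ⟨z, hzV⟩
  have hN := image_support_mem_nhds (A := Γ(Y, U₀)) Γ(F, V) (hV.fromSpec ⁻¹' O) (hO.preimage hV.fromSpec.continuous)
    q ((hsupp ⟨z, hzV⟩).mpr hz) (by rw [Set.mem_preimage, hV.fromSpec_primeIdealOf]; exact hzO)
  have hq : hU₀.fromSpec (PrimeSpectrum.comap (algebraMap Γ(Y, U₀) Γ(X, V)) q) = f.base z := by
    rw [show PrimeSpectrum.comap (algebraMap Γ(Y, U₀) Γ(X, V)) q = Ring.below Γ(Y, U₀) q from PrimeSpectrum.ext rfl,
      ← Equidim.f_fromSpec f hU₀ hV hVU rfl q, hV.fromSpec_primeIdealOf]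
  rw [← hq]
  refine Filter.mem_of_superset (hU₀.fromSpec.isOpenEmbedding.isOpenMap.image_mem_nhds hN) ?_
  rintro _ ⟨_, ⟨Q, ⟨hQO, hQ⟩, rfl⟩, rfl⟩
  have hQV : hV.fromSpec Q ∈ V := hV.range_fromSpec.subset ⟨Q, rfl⟩
  refine ⟨hV.fromSpec Q, ⟨hQO, (hsupp ⟨_, hQV⟩).mp ?_⟩, ?_⟩
  · rwa [show hV.primeIdealOf ⟨_, hQV⟩ = Q from hV.fromSpec.isOpenEmbedding.injective (hV.fromSpec_primeIdealOf _)]
  · rw [show PrimeSpectrum.comap (algebraMap Γ(Y, U₀) Γ(X, V)) Q = Ring.below Γ(Y, U₀) Q from PrimeSpectrum.ext rfl]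
    exact Equidim.f_fromSpec f hU₀ hV hVU rfl Q

set_option maxHeartbeats 1000000 in
theorem isClosed_nz : IsClosed {x : X | nz f F x} := by
  rw [← isOpen_compl_iff]
  refine isOpen_iff_forall_mem_open.mpr fun x hx => ?_
  haveI := Sections.isQuasicoherent_of_isFP F hF
  obtain ⟨W, hxW, hW⟩ := Sections.exists_affine F hF x
  obtain ⟨V, hV, hxV, hVW⟩ := exists_isAffineOpen_mem_and_subset (X := X) (U := W) (x := x) hxW
  haveI := hW V hV hVW
  have hsupp : ∀ v : V, (hV.primeIdealOf v) ∈ Module.support Γ(X, V) Γ(F, V) ↔ nz f F v.1 := fun v => by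
    letI := ModStalk.sectionModule F v
    haveI := ModStalk.isLocalizedModule_germ hV F v
    rw [nz_iff hF, Module.mem_support_iff]
    exact (IsLocalizedModule.iso (hV.primeIdealOf v).asIdeal.primeCompl (ModStalk.germₗ F v)).toEquiv.nontrivial_congr
  have hS : IsOpen (Module.support Γ(X, V) Γ(F, V))ᶜ :=
    (Module.isClosed_support (R := Γ(X, V)) (M := Γ(F, V))).isOpen_compl
  refine ⟨hV.fromSpec '' ((Module.support Γ(X, V) Γ(F, V))ᶜ : Set (PrimeSpectrum Γ(X, V))), ?_,
    hV.fromSpec.isOpenEmbedding.isOpenMap _ hS, ?_⟩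
  · intro v hv
    obtain ⟨Q, hQ, hQv⟩ := hv
    intro h
    have hQV : v ∈ V := hQv ▸ hV.range_fromSpec.subset ⟨Q, rfl⟩
    have h1 := (hsupp ⟨v, hQV⟩).mpr h
    have h2 : hV.primeIdealOf ⟨v, hQV⟩ = Q :=
      hV.fromSpec.isOpenEmbedding.injective ((hV.fromSpec_primeIdealOf _).trans hQv.symm)
    rw [h2] at h1
    exact hQ h1
  · exact ⟨hV.primeIdealOf ⟨x, hxV⟩, fun h => hx ((hsupp ⟨x, hxV⟩).mp h), hV.fromSpec_primeIdealOf ⟨x, hxV⟩⟩

set_option maxHeartbeats 1000000 in
/-- The dimensions of the components of the support of a fibre. -/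
theorem components_dims (y : Y) :
    (fun Z : Set ↥{z : ↥(f.fiber y) | Nontrivial ((fib f F y).presheaf.stalk z)} => topologicalKrullDim ↥Z) ''
        irreducibleComponents ↥{z : ↥(f.fiber y) | Nontrivial ((fib f F y).presheaf.stalk z)} =
      (fun w => topologicalKrullDim ↥(closure ({w} : Set ↥(f.fiber y)))) '' {w | Loci.MinSupp f F y w} := by
  let S : Set ↥(f.fiber y) := {z | Nontrivial ((fib f F y).presheaf.stalk z)}
  have hS : IsClosed S := by
    have hmem : ∀ w, w ∈ S ↔ f.fiberι y w ∈ {x : X | nz f F x} := fun w =>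
      fiber_iff f (P := fun y w => Nontrivial ((fib f F y).presheaf.stalk w)) y w
    rw [Set.ext hmem]
    exact (isClosed_nz hF).preimage (f.fiberι y).continuous
  haveI : QuasiSober ↥S := hS.isClosedEmbedding_subtypeVal.quasiSober
  have hcl : ∀ g : ↥S, topologicalKrullDim ↥(closure ({g} : Set ↥S)) =
      topologicalKrullDim ↥(closure ({g.1} : Set ↥(f.fiber y))) := fun g => by
    have himg : Subtype.val '' closure ({g} : Set ↥S) = closure ({g.1} : Set ↥(f.fiber y)) := by
      rw [← hS.isClosedEmbedding_subtypeVal.closure_image_eq, Set.image_singleton]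
    have he : IsHomeomorph (fun s : closure ({g} : Set ↥S) =>
        (⟨s.1.1, himg.subset ⟨s.1, s.2, rfl⟩⟩ : closure ({g.1} : Set ↥(f.fiber y)))) := by
      refine isHomeomorph_iff_isEmbedding_surjective.mpr ⟨(IsEmbedding.subtypeVal.comp IsEmbedding.subtypeVal).codRestrict _ _, fun s => ?_⟩
      obtain ⟨s', hs', hss⟩ := himg.superset s.2
      exact ⟨⟨s', hs'⟩, Subtype.ext hss⟩
    exact IsHomeomorph.topologicalKrullDim_eq _ he
  ext d
  constructor
  · rintro ⟨Z, hZ, rfl⟩
    let g := hZ.1.genericPoint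
    have hg : closure ({g} : Set ↥S) = Z := by
      rw [hZ.1.genericPoint_closure_eq, (isClosed_of_mem_irreducibleComponents Z hZ).closure_eq]
    refine ⟨g.1, ⟨g.2, fun v hv hnv => ?_⟩, (hcl g).symm.trans (by rw [hg])⟩
    let v' : ↥S := ⟨v, hnv⟩
    have hvg : v' ⤳ g := (subtype_specializes_iff v' g).mpr hv
    have hsub : Z ⊆ closure {v'} := hg ▸ closure_minimal (Set.singleton_subset_iff.mpr hvg.mem_closure) isClosed_closure
    have hgv : g ⤳ v' := specializes_iff_mem_closure.mpr (hg.symm ▸ hZ.2 isIrreducible_singleton.closure hsub (subset_closure rfl))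
    exact congrArg Subtype.val (hvg.antisymm hgv).eq
  · rintro ⟨w, ⟨hw, hmin⟩, rfl⟩
    let g : ↥S := ⟨w, hw⟩
    refine ⟨closure {g}, ⟨isIrreducible_singleton.closure, fun Z hZ hsub => ?_⟩, hcl g⟩
    have hZ' : IsIrreducible (closure Z) := hZ.closure
    let v := hZ'.genericPoint
    have hv : closure ({v} : Set ↥S) = closure Z := by rw [hZ'.genericPoint_closure_eq, closure_closure]
    have hvg : v ⤳ g := specializes_iff_mem_closure.mpr (hv.symm ▸ subset_closure (hsub (subset_closure rfl)))
    have : v = g := Subtype.ext (hmin v.1 ((subtype_specializes_iff v g).mp hvg) v.2)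
    rw [← this, hv]
    exact subset_closure

end Groth.Agent.FibreDepth.Proper
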