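import Mathlib
import Groth.Agent.FibreDepth.Proper
import Groth.Agent.ModStalk.Unit

/-! The structure sheaf as the module on the fibres. -/

set_option autoImplicit false
set_option backward.isDefEq.respectTransparency false
set_option linter.style.haveILetI false
universe u
open CategoryTheory AlgebraicGeometry
open scoped TensorProduct

namespace Groth.Agent.FibreDepth.Unit
open Gen Fibre

theorem isFP_unit (X : Scheme.{u}) : CohB1.IsFP (Coh.structureModule X) := by
  let P := ModStalk.unitPresentation (R := X.ringCatSheaf)
  let d : SheafOfModules.QuasicoherentData.{u} (R := X.ringCatSheaf) (Coh.structureModule X) := P.quasicoherentData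
  have hd : d.IsFinitePresentation :=
    { isFinite_presentation := fun i =>
        { isFiniteType_generators := ⟨(inferInstance : Finite PUnit.{u + 1})⟩
          isFiniteType_relations := ⟨(inferInstance : Finite PEmpty.{u + 1})⟩ } }
  exact { exists_quasicoherentData := ⟨d, hd⟩ }

variable {X Y : Scheme.{u}} (f : X ⟶ Y)

theorem flatAt_unit (x : X) (h : (f.stalkMap x).hom.Flat) : FlatMod.IsFlatOverAt f (Coh.structureModule X) x := by
  letI := (f.stalkMap x).hom.toAlgebra
  letI := FlatMod.moduleStalkOver f (Coh.structureModule X) x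
  haveI : IsScalarTower (Y.presheaf.stalk (f.base x)) (X.presheaf.stalk x) ((Coh.structureModule X).presheaf.stalk x) :=
    IsScalarTower.of_algebraMap_smul fun _ _ => rfl
  haveI : Module.Flat (Y.presheaf.stalk (f.base x)) (X.presheaf.stalk x) := h
  exact Module.Flat.of_linearEquiv ((ModStalk.unitStalkEquiv x).restrictScalars (Y.presheaf.stalk (f.base x))).symm

theorem hasSk_congr {R : Type u} [CommRing R] {M N : Type u} [AddCommGroup M] [Module R M] [AddCommGroup N]
    [Module R N] (e : M ≃ₗ[R] N) (k : ℕ) : LocCoh.HasSk k R M ↔ LocCoh.HasSk k R N := by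
  refine forall_congr' fun p => forall_congr' fun hp => ?_
  let e' : LocalizedModule p.primeCompl M ≃ₗ[Localization.AtPrime p] LocalizedModule p.primeCompl N :=
    IsLocalizedModule.mapEquiv p.primeCompl (LocalizedModule.mkLinearMap p.primeCompl M)
      (LocalizedModule.mkLinearMap p.primeCompl N) (Localization.AtPrime p) e
  rw [Module.supportDim_eq_of_equiv e', show LocCoh.depth _ _ = LocCoh.depth _ _ from IdealDepth.congr _ e']

theorem exists_stalk_equiv (y : Y) (w : ↥(f.fiber y)) :
    Nonempty ((fib f (Coh.structureModule X) y).presheaf.stalk w ≃ₗ[(f.fiber y).presheaf.stalk w]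
      (f.fiber y).presheaf.stalk w) := by
  haveI := ModStalk.isQuasicoherent_unit X
  letI := ((f.fiberι y).stalkMap w).hom.toAlgebra
  obtain ⟨e, -⟩ := ModStalk.exists_pullStalk_equiv (f.fiberι y) (Coh.structureModule X) w
  exact ⟨e.trans ((TensorProduct.AlgebraTensorModule.congr (LinearEquiv.refl _ _)
    (ModStalk.unitStalkEquiv (f.fiberι y w)).symm).trans (TensorProduct.AlgebraTensorModule.rid _ _ _))⟩

theorem hasSk_iff (k : ℕ) (y : Y) (w : ↥(f.fiber y)) :
    LocCoh.HasSk k ((f.fiber y).presheaf.stalk w) ((f.fiber y).presheaf.stalk w) ↔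
      LocCoh.HasSk k ((f.fiber y).presheaf.stalk w) ((fib f (Coh.structureModule X) y).presheaf.stalk w) := by
  obtain ⟨e⟩ := exists_stalk_equiv f y w
  exact (hasSk_congr e k).symm

end Groth.Agent.FibreDepth.Unit
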