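import Mathlib
import Groth.Agent.FibreDepth.Unit

/-! Openness statements on the fibres, in the form of EGA IV 12.1 and 12.2. -/

set_option autoImplicit false
set_option backward.isDefEq.respectTransparency false
set_option linter.style.haveILetI false
universe u
open CategoryTheory AlgebraicGeometry TopologicalSpace Topology

namespace Groth.Agent.FibreDepth.Statements
open Gen Fibre

variable {X Y : Scheme.{u}} (f : X ⟶ Y) [LocallyOfFinitePresentation f] (F : X.Modules) (hF : CohB1.IsFP F)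
include hF

theorem ass_iff (z : X) : f.asFiber z ∈ AssSch.Ass (fib f F (f.base z)) ↔ dp f F z = 0 :=
  Loci.mem_ass_iff hF _ _

/-- the good locus for associated dimensions -/
theorem assDims_through (hflat : FlatMod.IsFlatOver f F) (Φ : Set ℕ) :
    IsOpen {x : X | ∀ w ∈ AssSch.Ass (fib f F (f.base x)), f.asFiber x ∈ closure {w} →
      ∃ n ∈ Φ, topologicalKrullDim ↥(closure ({w} : Set ↥(f.fiber (f.base x)))) = (n : WithBot ℕ∞)} := by
  refine (congrArg IsOpen (Set.ext fun x => ?_)).mpr (Loci.isOpen_assDims hF hflat Φ)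
  let P : ∀ y, ↥(f.fiber y) → Prop := fun y w => w ∈ AssSch.Ass (fib f F y) →
    ∃ n ∈ Φ, topologicalKrullDim ↥(closure ({w} : Set ↥(f.fiber y))) = (n : WithBot ℕ∞)
  constructor
  · intro h z hz hzx h0
    exact (gen_forall f (P := P) x).mp (fun w hw hwA => h w hwA hw.mem_closure) z hz hzx ((ass_iff f F hF z).mpr h0)
  · intro h w hwA hw
    exact (gen_forall f (P := P) x).mpr (fun z hz hzx hA => h z hz hzx ((ass_iff f F hF z).mp hA)) w
      (specializes_iff_mem_closure.mpr hw) hwA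

theorem noEmbedded_through (hflat : FlatMod.IsFlatOver f F) :
    IsOpen {x : X | ∀ z ∈ AssSch.Ass (fib f F (f.base x)), f.asFiber x ∈ closure {z} →
      ∀ z' ∈ AssSch.Ass (fib f F (f.base x)), z ∈ closure {z'} → z' = z} := by
  refine (congrArg IsOpen (Set.ext fun x => ?_)).mpr (Loci.isOpen_noEmbedded hF hflat)
  let P : ∀ y, ↥(f.fiber y) → Prop := fun y w => w ∈ AssSch.Ass (fib f F y) →
    ∀ v ∈ AssSch.Ass (fib f F y), w ∈ closure {v} → v = w
  constructor
  · intro h z hz hzx h0 z' hz' hsp h0'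
    have h1 := (gen_forall f (P := P) x).mp (fun w hw hwA => h w hwA hw.mem_closure) z hz hzx
      ((ass_iff f F hF z).mpr h0)
    exact ((gen_forall f (P := fun y v => v ∈ AssSch.Ass (fib f F y) → f.fiberι y v = z) z).mp
      (fun v hv hvA => by rw [h1 v hvA hv.mem_closure]; exact f.fiberι_asFiber z) z' hz' hsp
      ((ass_iff f F hF z').mpr h0')) ▸ (f.fiberι_asFiber z').symm
  · intro h w hwA hw
    refine (gen_forall f (P := P) x).mpr (fun z hz hzx hA v hvA hv => ?_) w (specializes_iff_mem_closure.mpr hw) hwA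
    refine (f.fiberι (f.base z)).isEmbedding.injective ?_
    rw [Scheme.Hom.fiberι_asFiber]
    exact (gen_forall f (P := fun y v => v ∈ AssSch.Ass (fib f F y) → f.fiberι y v = z) z).mpr
      (fun z' hz' hsp hA' => by
        rw [Scheme.Hom.fiberι_asFiber]
        exact h z hz hzx ((ass_iff f F hF z).mp hA) z' hz' hsp ((ass_iff f F hF z').mp hA')) v
      (specializes_iff_mem_closure.mpr hv) hvA

theorem hasSk_iff_gen (k : ℕ) (x : X) :
    LocCoh.HasSk k ((f.fiber (f.base x)).presheaf.stalk (f.asFiber x)) ((fib f F (f.base x)).presheaf.stalk (f.asFiber x)) ↔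
      ∀ z, f.base z = f.base x → z ⤳ x → min (k : WithBot ℕ∞) (sd f F z) ≤ ((dp f F z : ℕ∞) : WithBot ℕ∞) :=
  (Loci.hasSk_iff hF k _ _).trans
    (gen_forall f (P := fun y w => min (k : WithBot ℕ∞) (sdS (fib f F y) w) ≤ ((dpS (fib f F y) w : ℕ∞) : WithBot ℕ∞)) x)

theorem isOpen_hasSk (hflat : FlatMod.IsFlatOver f F) (k : ℕ) : IsOpen {x : X |
    LocCoh.HasSk k ((f.fiber (f.base x)).presheaf.stalk (f.asFiber x)) ((fib f F (f.base x)).presheaf.stalk (f.asFiber x))} :=
  (congrArg IsOpen (Set.ext fun x => hasSk_iff_gen f F hF k x)).mpr (Loci.isOpen_hasSk hF hflat k)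

theorem ass_of_minSupp (y : Y) (w : ↥(f.fiber y)) (h : Loci.MinSupp f F y w) : w ∈ AssSch.Ass (fib f F y) :=
  (Loci.mem_ass_iff hF y w).mpr (Loci.dp_eq_zero_of_minSupp hF y w h)

omit [LocallyOfFinitePresentation f] hF in
theorem nontrivial_of_dp (y : Y) (w : ↥(f.fiber y)) (h : dpS (fib f F y) w = 0) :
    Nontrivial ((fib f F y).presheaf.stalk w) := by
  by_contra hn
  rw [not_nontrivial_iff_subsingleton] at hn
  rw [Loci.dp_eq_top _ _ hn] at h
  simp at h

theorem isOpen_equidim_hasSk (hflat : FlatMod.IsFlatOver f F) (k : ℕ) (hk : 1 ≤ k) : IsOpen {x : X |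
    EGA4.IsEquidimModule ((f.fiber (f.base x)).presheaf.stalk (f.asFiber x)) ((fib f F (f.base x)).presheaf.stalk (f.asFiber x)) ∧
    LocCoh.HasSk k ((f.fiber (f.base x)).presheaf.stalk (f.asFiber x)) ((fib f F (f.base x)).presheaf.stalk (f.asFiber x))} := by
  refine isOpen_iff_forall_mem_open.mpr fun x ⟨hxe, hxs⟩ => ?_
  let Φ : Set ℕ := {n | ∃ w ∈ AssSch.Ass (fib f F (f.base x)), f.asFiber x ∈ closure {w} ∧
    topologicalKrullDim ↥(closure ({w} : Set ↥(f.fiber (f.base x)))) = (n : WithBot ℕ∞)}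
  refine ⟨_, fun a ha => ⟨?_, ha.2⟩, (assDims_through f F hF hflat Φ).inter (isOpen_hasSk f F hF hflat k), ?_, hxs⟩
  · have hmin : ∀ w ∈ AssSch.Ass (fib f F (f.base x)), f.asFiber x ∈ closure {w} → Loci.MinSupp f F (f.base x) w := by
      intro w hwA hw
      have h0 := (Loci.mem_ass_iff hF _ w).mp hwA
      refine Loci.minSupp_of_sd hF _ w (nontrivial_of_dp f F _ w h0) ?_
      have h := (Loci.hasSk_iff hF k _ (f.asFiber x)).mp hxs w (specializes_iff_mem_closure.mpr hw)
      rw [h0, WithBot.coe_zero] at h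
      refine (min_le_iff.mp h).resolve_left fun hk0 => ?_
      have : k ≤ 0 := by exact_mod_cast hk0
      omega
    rw [Loci.isEquidimModule_iff hF]
    intro v v' hv hv' hmv hmv'
    obtain ⟨n, ⟨w, hwA, hw, hwn⟩, hn⟩ := ha.1 v (ass_of_minSupp f F hF _ v hmv) hv.mem_closure
    obtain ⟨n', ⟨w', hwA', hw', hwn'⟩, hn'⟩ := ha.1 v' (ass_of_minSupp f F hF _ v' hmv') hv'.mem_closure
    rw [hn, hn', ← hwn, ← hwn']
    exact (Loci.isEquidimModule_iff hF _ _).mp hxe w w' (specializes_iff_mem_closure.mpr hw)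
      (specializes_iff_mem_closure.mpr hw') (hmin w hwA hw) (hmin w' hwA' hw')
  · intro w hwA hw
    obtain ⟨e, he⟩ := (fiber_iff f (P := fun y w => ∃ e : ℕ, topologicalKrullDim ↥(closure ({w} : Set ↥(f.fiber y))) = (e : ℕ))
      (f.base x) w).mpr (exists_cd f _)
    exact ⟨e, ⟨w, hwA, hw, he⟩, he⟩

section proper
variable (hf : IsClosedMap f.base) (hflat : FlatMod.IsFlatOver f F)
include hf hflat

theorem assDims_proper (Φ : Set ℕ) :
    IsOpen {y : Y | ∀ z ∈ AssSch.Ass (fib f F y), ∃ n ∈ Φ,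
      topologicalKrullDim ↥(closure ({z} : Set ↥(f.fiber y))) = (n : WithBot ℕ∞)} := by
  refine (congrArg IsOpen (Set.ext fun y => ?_)).mpr (Proper.isOpen_forall hf (assDims_through f F hF hflat Φ))
  constructor
  · intro h x hx w hwA hw
    subst hx
    exact h w hwA
  · intro h w hwA
    exact (fiber_iff f (P := fun y w => w ∈ AssSch.Ass (fib f F y) → ∃ n ∈ Φ,
      topologicalKrullDim ↥(closure ({w} : Set ↥(f.fiber y))) = (n : WithBot ℕ∞)) y w).mpr
        (fun hA => h _ ((f.range_fiberι y).subset ⟨w, rfl⟩) _ hA (subset_closure rfl)) hwA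

theorem noEmbedded_proper : IsOpen {y : Y | AssSch.NoEmbedded (fib f F y)} := by
  refine (congrArg IsOpen (Set.ext fun y => ?_)).mpr (Proper.isOpen_forall hf (noEmbedded_through f F hF hflat))
  constructor
  · intro h x hx w hwA hw v hvA hv
    subst hx
    exact (h w hwA v hvA (specializes_iff_mem_closure.mpr hv)).symm
  · intro h w hwA v hvA hvw
    exact ((fiber_iff f (P := fun y w => w ∈ AssSch.Ass (fib f F y) → ∀ v ∈ AssSch.Ass (fib f F y), v ⤳ w → v = w) y w).mpr
      (fun hA v hv hvw => h _ ((f.range_fiberι y).subset ⟨w, rfl⟩) _ hA (subset_closure rfl) v hv hvw.mem_closure)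
      hwA v hvA hvw).symm

omit hf in
theorem componentDims_supset (Φ : Finset ℕ) :
    IsOpen {y : Y | ∀ n ∈ Φ, ∃ Z ∈ irreducibleComponents ↥{z : ↥(f.fiber y) | Nontrivial ((fib f F y).presheaf.stalk z)},
      topologicalKrullDim ↥Z = (n : WithBot ℕ∞)} := by
  rw [show {y : Y | ∀ n ∈ Φ, ∃ Z ∈ irreducibleComponents ↥{z : ↥(f.fiber y) | Nontrivial ((fib f F y).presheaf.stalk z)},
      topologicalKrullDim ↥Z = (n : WithBot ℕ∞)} =
    ⋂ n ∈ Φ, {y : Y | ∃ w, Loci.MinSupp f F y w ∧ topologicalKrullDim ↥(closure ({w} : Set ↥(f.fiber y))) = (n : WithBot ℕ∞)} from ?_]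
  · refine isOpen_biInter_finset fun n _ => isOpen_iff_mem_nhds.mpr fun y ⟨w, hw, hwn⟩ => ?_
    have hy : f.base (f.fiberι y w) = y := (f.range_fiberι y).subset ⟨w, rfl⟩
    let z := f.fiberι y w
    have hnz : nz f F z := (fiber_iff f (P := fun y w => Nontrivial ((fib f F y).presheaf.stalk w)) y w).mp hw.1
    have hO := Loci.isOpen_assDims hF hflat {n}
    have hzO : z ∈ {x : X | ∀ z', f.base z' = f.base x → z' ⤳ x → dp f F z' = 0 →
        ∃ m ∈ ({n} : Set ℕ), cd f z' = (m : ℕ)} := by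
      intro z' h1 h2 h3
      obtain ⟨v, hv⟩ : z' ∈ Set.range (f.fiberι y) := by rw [f.range_fiberι]; exact h1.trans hy
      have hvw : v ⤳ w := (f.fiberι y).isEmbedding.isInducing.specializes_iff.mp (by rw [hv]; exact h2)
      have hvn : Nontrivial ((fib f F y).presheaf.stalk v) :=
        (fiber_iff f (P := fun y w => Nontrivial ((fib f F y).presheaf.stalk w)) y v).mpr
          (by rw [hv]; exact nontrivial_of_dp f F _ _ h3)
      have he : v = w := hw.2 v hvw hvn
      refine ⟨n, rfl, ?_⟩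
      rw [← hv, he]
      exact (fiber_iff f (P := fun y w => topologicalKrullDim ↥(closure ({w} : Set ↥(f.fiber y))) = (n : WithBot ℕ∞)) y w).mp hwn
    have hnhds := Proper.image_mem_nhds hF hflat _ hO z hzO hnz
    rw [hy] at hnhds
    refine Filter.mem_of_superset hnhds ?_
    rintro _ ⟨a, ⟨haO, hanz⟩, rfl⟩
    obtain ⟨v, hva, hv⟩ := Loci.exists_minSupp hF _ (f.asFiber a) hanz
    refine ⟨v, hv, ?_⟩
    obtain ⟨m, hm, he⟩ := (gen_forall f (P := fun y v => dpS (fib f F y) v = 0 → ∃ m ∈ ({n} : Set ℕ),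
      topologicalKrullDim ↥(closure ({v} : Set ↥(f.fiber y))) = (m : WithBot ℕ∞)) a).mpr haO v hva
      (Loci.dp_eq_zero_of_minSupp hF _ v hv)
    rwa [Set.mem_singleton_iff.mp hm] at he
  · ext y
    simp only [Set.mem_iInter]
    refine forall_congr' fun n => forall_congr' fun _ => ?_
    have h := Set.ext_iff.mp (Proper.components_dims (f := f) hF y) (n : WithBot ℕ∞)
    exact h

theorem noEmbedded_and_componentDims (Φ : Finset ℕ) :
    IsOpen {y : Y | AssSch.NoEmbedded (fib f F y) ∧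
      (fun Z : Set ↥{z : ↥(f.fiber y) | Nontrivial ((fib f F y).presheaf.stalk z)} => topologicalKrullDim ↥Z) ''
          irreducibleComponents ↥{z : ↥(f.fiber y) | Nontrivial ((fib f F y).presheaf.stalk z)} =
        (fun n : ℕ => (n : WithBot ℕ∞)) '' (Φ : Set ℕ)} := by
  refine (congrArg IsOpen (Set.ext fun y => ?_)).mpr ((noEmbedded_proper f F hF hf hflat).inter
    ((assDims_proper f F hF hf hflat Φ).inter (componentDims_supset f F hF hflat Φ)))
  rw [Set.mem_inter_iff, Set.mem_inter_iff, Set.mem_setOf_eq]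
  refine and_congr_right fun (hne : AssSch.NoEmbedded (fib f F y)) => ?_
  have h := Proper.components_dims (f := f) hF y
  constructor
  · intro heq
    refine ⟨fun w hwA => ?_, fun n hn => (Set.ext_iff.mp heq (n : WithBot ℕ∞)).mpr ⟨n, hn, rfl⟩⟩
    obtain ⟨v, hvw, hv⟩ := Loci.exists_minSupp hF y w (nontrivial_of_dp f F y w ((Loci.mem_ass_iff hF y w).mp hwA))
    obtain rfl : w = v := hne w hwA v (ass_of_minSupp f F hF y v hv) hvw
    obtain ⟨n, hn, hne'⟩ := (Set.ext_iff.mp (h.symm.trans heq) _).mp ⟨w, hv, rfl⟩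
    exact ⟨n, hn, hne'.symm⟩
  · rintro ⟨h1, h2⟩
    rw [h]
    refine subset_antisymm ?_ ?_
    · rintro _ ⟨w, hw, rfl⟩
      obtain ⟨n, hn, he⟩ := h1 w (ass_of_minSupp f F hF y w hw)
      exact ⟨n, hn, he.symm⟩
    · rintro _ ⟨n, hn, rfl⟩
      exact (Set.ext_iff.mp h _).mp (h2 n hn)

theorem codepth_proper (k : ℕ) :
    IsOpen {y : Y | ∀ w : ↥(f.fiber y), sdS (fib f F y) w ≤ ((dpS (fib f F y) w : ℕ∞) : WithBot ℕ∞) + k} :=
  (congrArg IsOpen (Set.ext fun y => fiber_forall f
    (P := fun y w => sdS (fib f F y) w ≤ ((dpS (fib f F y) w : ℕ∞) : WithBot ℕ∞) + k) y)).mpr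
      (Proper.isOpen_forall hf (Main.isOpen_codepth f F hF hflat k))

theorem cm_proper :
    IsOpen {y : Y | ∀ w : ↥(f.fiber y), Subsingleton ((fib f F y).presheaf.stalk w) ∨
      LocCoh.IsCohenMacaulayModule ((f.fiber y).presheaf.stalk w) ((fib f F y).presheaf.stalk w)} :=
  (congrArg IsOpen (Set.ext fun y => fiber_forall f
    (P := fun y w => Subsingleton ((fib f F y).presheaf.stalk w) ∨
      LocCoh.IsCohenMacaulayModule ((f.fiber y).presheaf.stalk w) ((fib f F y).presheaf.stalk w)) y)).mpr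
      (Proper.isOpen_forall hf (Main.isOpen_cm f F hF hflat))

theorem hasSk_proper (k : ℕ) :
    IsOpen {y : Y | ∀ w : ↥(f.fiber y), LocCoh.HasSk k ((f.fiber y).presheaf.stalk w) ((fib f F y).presheaf.stalk w)} :=
  (congrArg IsOpen (Set.ext fun y => fiber_forall f
    (P := fun y w => LocCoh.HasSk k ((f.fiber y).presheaf.stalk w) ((fib f F y).presheaf.stalk w)) y)).mpr
      (Proper.isOpen_forall hf (isOpen_hasSk f F hF hflat k))

theorem equidim_hasSk_proper (k : ℕ) (hk : 1 ≤ k) :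
    IsOpen {y : Y | ∀ w : ↥(f.fiber y), EGA4.IsEquidimModule ((f.fiber y).presheaf.stalk w) ((fib f F y).presheaf.stalk w) ∧
      LocCoh.HasSk k ((f.fiber y).presheaf.stalk w) ((fib f F y).presheaf.stalk w)} :=
  (congrArg IsOpen (Set.ext fun y => fiber_forall f
    (P := fun y w => EGA4.IsEquidimModule ((f.fiber y).presheaf.stalk w) ((fib f F y).presheaf.stalk w) ∧
      LocCoh.HasSk k ((f.fiber y).presheaf.stalk w) ((fib f F y).presheaf.stalk w)) y)).mpr
      (Proper.isOpen_forall hf (isOpen_equidim_hasSk f F hF hflat k hk))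

end proper

end Groth.Agent.FibreDepth.Statements
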