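import Mathlib
import Groth.Prelude.Def_CInt
import Groth.Agent.FibreDepth.Statements
import Groth.Agent.FibreDepth.Families

/-! Constructibility of the loci of depth on the fibres of a finitely presented module. -/

set_option autoImplicit false
set_option backward.isDefEq.respectTransparency false
set_option linter.style.haveILetI false
universe u
open CategoryTheory AlgebraicGeometry TopologicalSpace Topology
open scoped TensorProduct

namespace Groth.Agent.FibreDepth.Constr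
open Gen Fibre

variable {X Y : Scheme.{u}} {f : X ⟶ Y} [LocallyOfFinitePresentation f] {F : X.Modules}

/-- a chart in affine space computing the invariants of the fibres -/
structure IsChart (f : X ⟶ Y) (F : X.Modules) (A : Type u) [CommRing A] (n : ℕ) (M : Type u) [AddCommGroup M]
    [Module (MvPolynomial (Fin n) A) M] (V : X.Opens)
    (φ : ↥(V : Scheme.{u}) → PrimeSpectrum (MvPolynomial (Fin n) A)) : Prop where
  dp_eq : ∀ w, dp f F w.1 = Affine.dep (A := A) (φ w) M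
  sd_eq : ∀ w, sd f F w.1 = Module.supportDim (Ring.Loc A (φ w)) (Ring.Loc A (φ w) ⊗[MvPolynomial (Fin n) A] M)
  cd_eq : ∀ w, cd f w.1 = Support.cl (A := A) (φ w)
  le_iff : ∀ z w, φ z ≤ φ w ↔ z.1 ⤳ w.1
  below_iff : ∀ z w, Ring.below A (φ z) = Ring.below A (φ w) ↔ f.base z.1 = f.base w.1
  mem_range : ∀ η, ¬ Subsingleton (Ring.Loc A η ⊗[MvPolynomial (Fin n) A] M) → η ∈ Set.range φ
  constr : ∀ s, IsConstructible s → IsConstructible (φ ⁻¹' s)
  constr_image : ∀ S : Set X, IsLocallyConstructible S →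
    IsConstructible (φ '' ((fun w : ↥(V : Scheme.{u}) => w.1) ⁻¹' S))

set_option maxHeartbeats 1600000 in
theorem exists_chart (hF : CohB1.IsFP F) (x : X) :
    ∃ (A : Type u) (_ : CommRing A) (n : ℕ) (M : Type u) (_ : AddCommGroup M)
      (_ : Module (MvPolynomial (Fin n) A) M) (_ : Module.FinitePresentation (MvPolynomial (Fin n) A) M)
      (V : X.Opens) (φ : ↥(V : Scheme.{u}) → PrimeSpectrum (MvPolynomial (Fin n) A)),
      x ∈ V ∧ IsChart f F A n M V φ := by
  haveI := Sections.isQuasicoherent_of_isFP F hF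
  obtain ⟨O, hxO, hO⟩ := Sections.exists_affine F hF x
  obtain ⟨U₀, hU₀, hyU₀, -⟩ := exists_isAffineOpen_mem_and_subset (X := Y) (U := ⊤) (x := f x) trivial
  obtain ⟨V, hV, hxV, hVsub⟩ :=
    exists_isAffineOpen_mem_and_subset (X := X) (U := O ⊓ f ⁻¹ᵁ U₀) (x := x) ⟨hxO, hyU₀⟩
  have hVU : V ≤ f ⁻¹ᵁ U₀ := fun v hv => (hVsub hv).2
  haveI hMfp : Module.FinitePresentation Γ(X, V) Γ(F, V) := hO V hV fun v hv => (hVsub hv).1
  letI : Algebra Γ(Y, U₀) Γ(X, V) := (f.appLE U₀ V hVU).hom.toAlgebra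
  haveI : Algebra.FinitePresentation Γ(Y, U₀) Γ(X, V) := f.finitePresentation_appLE hU₀ hV hVU
  obtain ⟨n, π, hπ, hker⟩ := (inferInstance : Algebra.FinitePresentation Γ(Y, U₀) Γ(X, V)).out
  letI : Algebra (MvPolynomial (Fin n) Γ(Y, U₀)) Γ(X, V) := π.toRingHom.toAlgebra
  haveI : IsScalarTower Γ(Y, U₀) (MvPolynomial (Fin n) Γ(Y, U₀)) Γ(X, V) :=
    IsScalarTower.of_algebraMap_eq fun a => (π.commutes a).symm
  letI : Module (MvPolynomial (Fin n) Γ(Y, U₀)) Γ(F, V) := Module.compHom _ π.toRingHom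
  letI : Module Γ(Y, U₀) Γ(F, V) := Module.compHom _ (algebraMap Γ(Y, U₀) Γ(X, V))
  haveI : IsScalarTower (MvPolynomial (Fin n) Γ(Y, U₀)) Γ(X, V) Γ(F, V) :=
    IsScalarTower.of_algebraMap_smul fun _ _ => rfl
  haveI : IsScalarTower Γ(Y, U₀) Γ(X, V) Γ(F, V) := IsScalarTower.of_algebraMap_smul fun _ _ => rfl
  haveI : IsScalarTower Γ(Y, U₀) (MvPolynomial (Fin n) Γ(Y, U₀)) Γ(F, V) :=
    IsScalarTower.of_algebraMap_smul fun a v => by
      show π (algebraMap Γ(Y, U₀) _ a) • v = algebraMap Γ(Y, U₀) Γ(X, V) a • v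
      rw [π.commutes]
  haveI : Module.FinitePresentation (MvPolynomial (Fin n) Γ(Y, U₀)) Γ(X, V) :=
    Module.finitePresentation_of_surjective (Algebra.linearMap _ Γ(X, V)) hπ hker
  haveI : Module.FinitePresentation (MvPolynomial (Fin n) Γ(Y, U₀)) Γ(F, V) :=
    Module.FinitePresentation.trans (R := MvPolynomial (Fin n) Γ(Y, U₀)) (M := Γ(F, V)) Γ(X, V)
  let g : ↥(V : Scheme.{u}) → PrimeSpectrum Γ(X, V) := fun w => hV.isoSpec.hom w
  have hgQ : ∀ w : ↥(V : Scheme.{u}), hV.fromSpec (g w) = w.1 := fun w => by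
    show (hV.isoSpec.hom ≫ hV.fromSpec) w = _
    rw [IsAffineOpen.isoSpec_hom_fromSpec]
    rfl
  let c := PrimeSpectrum.comap (algebraMap (MvPolynomial (Fin n) Γ(Y, U₀)) Γ(X, V))
  let φ : ↥(V : Scheme.{u}) → PrimeSpectrum (MvPolynomial (Fin n) Γ(Y, U₀)) := fun w => c (g w)
  refine ⟨Γ(Y, U₀), inferInstance, n, Γ(F, V), inferInstance, inferInstance, inferInstance, V, φ, hxV, ?_⟩
  have hz : ∀ w : ↥(V : Scheme.{u}), f.fiberι (f.base w.1) (f.asFiber w.1) = hV.fromSpec (g w) := fun w => by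
    rw [hgQ]; exact f.fiberι_asFiber w.1
  have hst := fun w : ↥(V : Scheme.{u}) =>
    Chart.stalk_eq f F hU₀ hV hVU rfl hπ (f.base w.1) (f.asFiber w.1) (g w) (hz w)
  have hgs : Function.Surjective g := hV.isoSpec.hom.homeomorph.surjective
  have hb : ∀ w : ↥(V : Scheme.{u}), hU₀.fromSpec (Ring.below Γ(Y, U₀) (φ w)) = f.base w.1 := fun w => by
    have e1 : Ring.below Γ(Y, U₀) (φ w) = PrimeSpectrum.comap (f.appLE U₀ V hVU).hom (g w) := PrimeSpectrum.ext (by
      show ((g w).asIdeal.comap (algebraMap (MvPolynomial (Fin n) Γ(Y, U₀)) Γ(X, V))).comap (algebraMap Γ(Y, U₀) _) = _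
      rw [Ideal.comap_comap, ← IsScalarTower.algebraMap_eq]
      rfl)
    rw [e1]
    have e := congrArg (fun k : Spec Γ(X, V) ⟶ Y => k (g w)) (hU₀.SpecMap_appLE_fromSpec f hV hVU)
    have e2 : (hV.fromSpec ≫ f) (g w) = f.base w.1 := congrArg f.base (hgQ w)
    exact e.trans e2
  refine ⟨fun w => (hst w).1.symm, fun w => (hst w).2.1.symm, fun w =>
    (Chart.closure_dim_eq f hU₀ hV hVU rfl (f.base w.1) (f.asFiber w.1) (g w) (hz w)).trans (Chart.cl_eq hπ (g w)),
    fun z w => ?_, fun z w => ?_, fun η hη => ?_, fun s hs => ?_, fun S hS => ?_⟩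
  · rw [show φ z ≤ φ w ↔ g z ≤ g w from Ideal.comap_le_comap_iff_of_surjective _ hπ _ _,
      PrimeSpectrum.le_iff_specializes, ← hgQ z, ← hgQ w, hV.fromSpec.isOpenEmbedding.isInducing.specializes_iff]
  · rw [← hb z, ← hb w]
    exact ⟨fun h => by rw [h], fun h => hU₀.fromSpec.isOpenEmbedding.injective h⟩
  · have h1 : RingHom.ker π ≤ η.asIdeal := by
      have hs : Module.annihilator (MvPolynomial (Fin n) Γ(Y, U₀)) Γ(F, V) ≤ η.asIdeal := by
        by_contra hns
        exact hη ((Locus.subsingleton_iff (A := Γ(Y, U₀)) Γ(F, V) η).mpr hns)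
      refine le_trans (fun a ha => Module.mem_annihilator.mpr fun v => ?_) hs
      show π a • v = 0
      rw [show π a = 0 from ha, zero_smul]
    obtain ⟨Q, hQ⟩ : η ∈ Set.range c := by
      rw [show Set.range c = PrimeSpectrum.zeroLocus (RingHom.ker π.toRingHom) from range_comap_of_surjective _ _ hπ]
      exact h1
    obtain ⟨w, rfl⟩ := hgs Q
    exact ⟨w, hQ⟩
  · have hg : IsOpenEmbedding g := hV.isoSpec.hom.homeomorph.isOpenEmbedding
    show IsConstructible (g ⁻¹' (c ⁻¹' s))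
    exact (Strata.isConstructible_comap _ hs).preimage_of_isOpenEmbedding hg
  · have himg : φ '' ((fun w : ↥(V : Scheme.{u}) => w.1) ⁻¹' S) = c '' (hV.fromSpec ⁻¹' S) := by
      ext q
      constructor
      · rintro ⟨w, hw, rfl⟩
        exact ⟨g w, show hV.fromSpec (g w) ∈ S from (hgQ w).symm ▸ hw, rfl⟩
      · rintro ⟨Q, hQ, rfl⟩
        obtain ⟨w, rfl⟩ := hgs Q
        exact ⟨w, show w.1 ∈ S from hgQ w ▸ hQ, rfl⟩
    rw [himg]
    have h1 : IsLocallyConstructible (hV.fromSpec ⁻¹' S) :=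
      hS.preimage_of_isOpenEmbedding hV.fromSpec.isOpenEmbedding
    exact PrimeSpectrum.isConstructible_comap_image
      (RingHom.FinitePresentation.of_surjective _ hπ hker) h1.isConstructible

/-- A subset given by constructible sets in all charts is locally constructible. -/
theorem isLC (hF : CohB1.IsFP F) (S : Set X)
    (h : ∀ (A : Type u) [CommRing A] (n : ℕ) (M : Type u) [AddCommGroup M] [Module (MvPolynomial (Fin n) A) M]
      [Module.FinitePresentation (MvPolynomial (Fin n) A) M] (V : X.Opens)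
      (φ : ↥(V : Scheme.{u}) → PrimeSpectrum (MvPolynomial (Fin n) A)), IsChart f F A n M V φ →
      ∃ W, IsConstructible W ∧ ∀ w, w.1 ∈ S ↔ φ w ∈ W) :
    IsLocallyConstructible S := fun x => by
  obtain ⟨A, _, n, M, _, _, _, V, φ, hxV, hc⟩ := exists_chart (f := f) hF x
  obtain ⟨W, hW, hS⟩ := h A n M V φ hc
  refine ⟨(V : Set X), V.isOpen.mem_nhds hxV, V.isOpen, ?_⟩
  have : (fun w : ↥(V : Scheme.{u}) => w.1) ⁻¹' S = φ ⁻¹' W := Set.ext hS
  exact (congrArg IsConstructible this).mpr (hc.constr W hW)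

section chart

variable {A : Type u} [CommRing A] {n : ℕ} {M : Type u} [AddCommGroup M] [Module (MvPolynomial (Fin n) A) M]
  {V : X.Opens} {φ : ↥(V : Scheme.{u}) → PrimeSpectrum (MvPolynomial (Fin n) A)} (hc : IsChart f F A n M V φ)
include hc

omit [LocallyOfFinitePresentation f] in
theorem mem_E_iff {S : Set X} {W : Set (PrimeSpectrum (MvPolynomial (Fin n) A))}
    (hS : ∀ w, w.1 ∈ S ↔ φ w ∈ W)
    (hW : ∀ η ∈ W, ¬ Subsingleton (Ring.Loc A η ⊗[MvPolynomial (Fin n) A] M)) (m : ℕ) (w : ↥(V : Scheme.{u})) :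
    w.1 ∈ E f S m ↔ φ w ∈ Sets.E A W m := by
  constructor
  · rintro ⟨z, hz, hzf, hzw, hm⟩
    let z' : ↥(V : Scheme.{u}) := ⟨z, hzw.mem_open V.isOpen w.2⟩
    exact ⟨φ z', (hS z').mp hz, (hc.le_iff z' w).mpr hzw, (hc.below_iff z' w).mpr hzf, hc.cd_eq z' ▸ hm⟩
  · rintro ⟨η, hη, hle, hb, hm⟩
    obtain ⟨z, rfl⟩ := hc.mem_range η (hW η hη)
    exact ⟨z.1, (hS z).mpr hη, (hc.below_iff z w).mp hb, (hc.le_iff z w).mp hle, (hc.cd_eq z).symm ▸ hm⟩

omit [LocallyOfFinitePresentation f] in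
theorem mem_T_iff (j : ℕ) (w : ↥(V : Scheme.{u})) : w.1 ∈ Loci.T f F j ↔ φ w ∈ Sets.T A (Fin n) M j := by
  rw [Loci.T, Set.mem_setOf_eq, hc.dp_eq w, hc.cd_eq w]
  rfl

omit [LocallyOfFinitePresentation f] in
theorem mem_A_iff (i : ℕ) (w : ↥(V : Scheme.{u})) : w.1 ∈ Loci.A f F i ↔ φ w ∈ Families.gA A (Fin n) M i :=
  mem_E_iff hc (mem_T_iff hc i) (fun _ h => Families.not_subsingleton_of_mem_T h) i w

omit [LocallyOfFinitePresentation f] in
theorem mem_B_iff (i j : ℕ) (w : ↥(V : Scheme.{u})) :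
    w.1 ∈ E f (Loci.T f F i ∩ Loci.A f F j) i ↔ φ w ∈ Families.gB A (Fin n) M i j :=
  mem_E_iff hc (fun z => and_congr (mem_T_iff hc i z) (mem_A_iff hc j z))
    (fun _ h => Families.not_subsingleton_of_mem_T h.1) i w

/-- the scheme side of the non-Cohen–Macaulay points -/
abbrev Cset (f : X ⟶ Y) (F : X.Modules) : Set X :=
  {x | ¬ sd f F x ≤ ((dp f F x : ℕ∞) : WithBot ℕ∞) + (0 : ℕ)}

omit [LocallyOfFinitePresentation f] in
theorem mem_S_iff (k j : ℕ) (w : ↥(V : Scheme.{u})) :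
    w.1 ∈ E f (Loci.T f F j ∩ Cset f F) (j + 1 - k) ↔ φ w ∈ Families.gS A (Fin n) M k j :=
  mem_E_iff hc (fun z => and_congr (mem_T_iff hc j z) (by
      show ¬ _ ↔ _
      rw [hc.dp_eq z, hc.sd_eq z]
      rfl)) (fun _ h => Families.not_subsingleton_of_mem_T h.1) _ w

end chart

variable (hF : CohB1.IsFP F)
include hF

theorem lc_rdepth (n : ℕ) : IsLocallyConstructible
    {x : X | (n : WithBot ℕ∞) ≤ ((dp f F x : ℕ∞) : WithBot ℕ∞) + cd f x} := by
  refine isLC (f := f) hF _ fun A _ m M _ _ _ V φ hc => ⟨_, Families.isConstructible_rdSet M n, fun w => ?_⟩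
  rw [Set.mem_setOf_eq, hc.dp_eq w, hc.cd_eq w]
  rfl

theorem lc_codepth (k : ℕ) : IsLocallyConstructible
    {x : X | sd f F x ≤ ((dp f F x : ℕ∞) : WithBot ℕ∞) + k} := by
  refine isLC (f := f) hF _ fun A _ m M _ _ _ V φ hc => ⟨_, Families.isConstructible_cpSet M k, fun w => ?_⟩
  rw [Set.mem_setOf_eq, hc.dp_eq w, hc.sd_eq w]
  rfl

theorem lc_top : IsLocallyConstructible {x : X | dp f F x = ⊤} := by
  refine isLC (f := f) hF _ fun A _ m M _ _ _ V φ hc => ⟨_, Families.isConstructible_rdSet M (m + 1), fun w => ?_⟩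
  obtain ⟨d, e, hd, he, hde⟩ := Locus.exists_nat_dims (A := A) (φ w)
  rw [Nat.card_fin] at hde
  rw [Set.mem_setOf_eq, hc.dp_eq w, Sets.rdSet, Set.mem_setOf_eq, he]
  constructor
  · intro h
    rw [h, ← WithBot.coe_add, top_add]
    exact WithBot.coe_le_coe.mpr le_top
  · intro h
    by_contra hne
    have hs : ¬ Subsingleton (Ring.Loc A (φ w) ⊗[MvPolynomial (Fin m) A] M) := fun hs =>
      hne (Locus.dep_eq_top M _ hs)
    have h2 := (Locus.dep_le_supportDim M _ hs).trans ((Module.supportDim_le_ringKrullDim _ _).trans_eq hd)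
    obtain ⟨t, ht⟩ := ENat.ne_top_iff_exists.mp hne
    rw [← ht] at h h2
    have h3 : m + 1 ≤ t + e := by exact_mod_cast h
    have h4 : t ≤ d := by exact_mod_cast h2
    omega

/-- Associated generizations of dimension in a prescribed set. -/
theorem lc_assDims (P : ℕ → Prop) : IsLocallyConstructible {x : X | ∃ i, P i ∧ x ∈ Loci.A f F i} := by
  refine isLC (f := f) hF _ fun A _ m M _ _ _ V φ hc =>
    ⟨⋃ i ∈ {i | P i ∧ i ≤ m}, Families.gA A (Fin m) M i, IsConstructible.biUnion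
      ((Set.finite_Iic m).subset fun i hi => hi.2) fun i _ => Families.isConstructible_gA M i, fun w => ?_⟩
  simp only [Set.mem_setOf_eq, Set.mem_iUnion, exists_prop, mem_A_iff hc]
  exact ⟨fun ⟨i, hi, h⟩ => ⟨i, ⟨hi, by simpa using Families.le_card_of_mem_E h⟩, h⟩, fun ⟨i, hi, h⟩ => ⟨i, hi.1, h⟩⟩

/-- Embedded associated generizations. -/
theorem lc_embedded : IsLocallyConstructible
    {x : X | ∃ i j, i ≠ j ∧ x ∈ E f (Loci.T f F i ∩ Loci.A f F j) i} := by
  refine isLC (f := f) hF _ fun A _ m M _ _ _ V φ hc =>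
    ⟨⋃ p ∈ {p : ℕ × ℕ | p.1 ≠ p.2 ∧ p.1 ≤ m ∧ p.2 ≤ m}, Families.gB A (Fin m) M p.1 p.2, IsConstructible.biUnion
      (((Set.finite_Iic m).prod (Set.finite_Iic m)).subset fun p hp => hp.2)
      fun p _ => Families.isConstructible_gB M p.1 p.2, fun w => ?_⟩
  simp only [Set.mem_setOf_eq, Set.mem_iUnion, exists_prop, mem_B_iff hc, Prod.exists]
  constructor
  · rintro ⟨i, j, hne, h⟩
    have hi : i ≤ m := by simpa using Families.le_card_of_mem_E h
    obtain ⟨η, hη, -⟩ := id h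
    exact ⟨i, j, ⟨hne, hi, by simpa using Families.le_card_of_mem_E hη.2⟩, ‹_›⟩
  · rintro ⟨i, j, hp, h⟩
    exact ⟨i, j, hp.1, h⟩

/-- Failure of Serre's condition along generizations. -/
theorem lc_notSk (k : ℕ) : IsLocallyConstructible
    {x : X | ∃ j, x ∈ E f (Loci.T f F j ∩ Cset f F) (j + 1 - k)} := by
  refine isLC (f := f) hF _ fun A _ m M _ _ _ V φ hc =>
    ⟨⋃ j ∈ Set.Iic (m + k), Families.gS A (Fin m) M k j, IsConstructible.biUnion
      (Set.finite_Iic _) fun j _ => Families.isConstructible_gS M k j, fun w => ?_⟩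
  simp only [Set.mem_setOf_eq, Set.mem_iUnion, exists_prop, mem_S_iff hc, Set.mem_Iic]
  refine ⟨fun ⟨j, h⟩ => ⟨j, ?_, h⟩, fun ⟨j, _, h⟩ => ⟨j, h⟩⟩
  have : j + 1 - k ≤ m := by simpa using Families.le_card_of_mem_E h
  omega

end Groth.Agent.FibreDepth.Constr
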