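import Mathlib
import Groth.Prelude.Def_CInt
import Groth.Prelude.Def_FDesc
import Groth.Agent.FibreDepth.Constr
import Groth.Agent.FibreDepth.Unit

/-! The constructible loci of depth, codepth and associated points on the fibres. -/

set_option autoImplicit false
set_option backward.isDefEq.respectTransparency false
set_option linter.style.haveILetI false
universe u
open CategoryTheory AlgebraicGeometry TopologicalSpace Topology
open scoped TensorProduct

namespace Groth.Agent.FibreDepth.ConstrStatements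
open Gen Fibre Constr

theorem lc_compl {α : Type*} [TopologicalSpace α] {s : Set α} (h : IsLocallyConstructible s) :
    IsLocallyConstructible sᶜ := fun x => by
  obtain ⟨U, hxU, hU, hUs⟩ := h x
  exact ⟨U, hxU, hU, hUs.compl⟩

theorem lc_diff {α : Type*} [TopologicalSpace α] {s t : Set α} (hs : IsLocallyConstructible s)
    (ht : IsLocallyConstructible t) : IsLocallyConstructible (s \ t) := hs.inter (lc_compl ht)

variable {X Y : Scheme.{u}} (f : X ⟶ Y) [LocallyOfFinitePresentation f] {F : X.Modules} (hF : CohB1.IsFP F)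
include hF

theorem lc_rdepth_eq (n : ℕ∞) : IsLocallyConstructible
    {x : X | ((dp f F x : ℕ∞) : WithBot ℕ∞) + cd f x = ((n : ℕ∞) : WithBot ℕ∞)} := by
  induction n using ENat.recTopCoe with
  | top =>
    refine (congrArg IsLocallyConstructible (Set.ext fun x => ?_)).mpr (lc_top (f := f) hF)
    obtain ⟨e, he⟩ := exists_cd f x
    rw [Set.mem_setOf_eq, Set.mem_setOf_eq, he, show (e : WithBot ℕ∞) = ((e : ℕ∞) : WithBot ℕ∞) from rfl,
      ← WithBot.coe_add, WithBot.coe_inj, WithTop.add_eq_top]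
    exact or_iff_left (ENat.natCast_ne_top e)
  | coe k =>
    refine (congrArg IsLocallyConstructible (Set.ext fun x => ?_)).mpr
      (lc_diff (lc_rdepth (f := f) hF k) (lc_rdepth (f := f) hF (k + 1)))
    obtain ⟨e, he⟩ := exists_cd f x
    simp only [Set.mem_sdiff, Set.mem_setOf_eq, he]
    generalize dp f F x = a
    induction a using ENat.recTopCoe with
    | top =>
      rw [show (e : WithBot ℕ∞) = ((e : ℕ∞) : WithBot ℕ∞) from rfl, ← WithBot.coe_add, top_add]
      exact iff_of_false (fun h => ENat.natCast_ne_top k (WithBot.coe_inj.mp h).symm)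
        fun h => h.2 (WithBot.coe_le_coe.mpr le_top)
    | coe t =>
      norm_cast
      omega

theorem cd_mem {i : ℕ} {z : X} (h : cd f z = (i : ℕ)) {j : ℕ} (h' : cd f z = (j : ℕ)) : i = j := by
  rw [h] at h'
  exact_mod_cast h'

theorem lc_noEmbedded [QuasiCompact f] :
    IsLocallyConstructible {s : Y | AssSch.NoEmbedded (fib f F s)} := by
  refine (congrArg IsLocallyConstructible (Set.ext fun s => ?_)).mpr
    (lc_compl (f.isLocallyConstructible_image (lc_embedded (f := f) hF)))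
  rw [Set.mem_compl_iff]
  constructor
  · rintro h ⟨x, ⟨i, j, hne, z, ⟨hT, hA⟩, hzf, hzx, hi⟩, hxs⟩
    obtain ⟨h0, hzi⟩ := (Loci.mem_T_of_le i z hi).mp hT
    obtain ⟨z', h1', h2', h0', hzj⟩ := (Loci.mem_A j z).mp hA
    obtain ⟨w, hw⟩ : z ∈ Set.range (f.fiberι s) := by
      rw [f.range_fiberι]; exact hzf.trans hxs
    obtain ⟨w', hw'⟩ : z' ∈ Set.range (f.fiberι s) := by
      rw [f.range_fiberι]; exact (h1'.trans hzf).trans hxs
    have hass : ∀ (v : ↥(f.fiber s)) (y : X), f.fiberι s v = y → dp f F y = 0 → v ∈ AssSch.Ass (fib f F s) := fun v y hv hy =>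
      (fiber_iff f (P := fun t v => v ∈ AssSch.Ass (fib f F t)) s v).mpr (by
        rw [hv]; exact (Statements.ass_iff f F hF y).mpr hy)
    have hww : w = w' := h w (hass w z hw h0) w' (hass w' z' hw' h0')
      ((f.fiberι s).isEmbedding.isInducing.specializes_iff.mp (by rw [hw, hw']; exact h2'))
    rw [hww] at hw
    rw [← hw, hw'] at hzi
    exact hne (cd_mem f hF hzi hzj)
  · intro h w hw w' hw' hsp
    by_contra hne
    refine h ⟨f.fiberι s w, ?_, (f.range_fiberι s).subset ⟨w, rfl⟩⟩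
    have hsp' : f.fiberι s w' ⤳ f.fiberι s w := hsp.map (f.fiberι s).continuous
    have hfib : ∀ v, f.base (f.fiberι s v) = s := fun v => (f.range_fiberι s).subset ⟨v, rfl⟩
    have hdp : ∀ v, v ∈ AssSch.Ass (fib f F s) → dp f F (f.fiberι s v) = 0 := fun v hv =>
      (Statements.ass_iff f F hF _).mp ((fiber_iff f (P := fun t v => v ∈ AssSch.Ass (fib f F t)) s v).mp hv)
    obtain ⟨i, hi⟩ := exists_cd f (f.fiberι s w)
    obtain ⟨j, hj⟩ := exists_cd f (f.fiberι s w')
    refine ⟨i, j, fun hij => ?_, f.fiberι s w, ⟨(Loci.mem_T_of_le i _ hi.ge).mpr ⟨hdp w hw, hi⟩,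
      (Loci.mem_A j _).mpr ⟨f.fiberι s w', by rw [hfib, hfib], hsp', hdp w' hw', hj⟩⟩, rfl, specializes_rfl, hi.ge⟩
    subst hij
    exact hne ((f.fiberι s).isEmbedding.injective
      (Loci.eq_of_cd_eq' hF _ _ (by rw [hfib, hfib]) hsp' (hj.trans hi.symm))).symm

theorem mem_image_A (P : ℕ → Prop) (s : Y) :
    s ∈ f.base '' {x : X | ∃ i, P i ∧ x ∈ Loci.A f F i} ↔
      ∃ w ∈ AssSch.Ass (fib f F s), ∃ i, P i ∧
        topologicalKrullDim ↥(closure ({w} : Set ↥(f.fiber s))) = (i : WithBot ℕ∞) := by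
  constructor
  · rintro ⟨x, ⟨i, hP, hA⟩, hxs⟩
    obtain ⟨z, hzf, -, h0, hzi⟩ := (Loci.mem_A i x).mp hA
    obtain ⟨w, hw⟩ : z ∈ Set.range (f.fiberι s) := by
      rw [f.range_fiberι]; exact hzf.trans hxs
    refine ⟨w, (fiber_iff f (P := fun t v => v ∈ AssSch.Ass (fib f F t)) s w).mpr (by
        rw [hw]; exact (Statements.ass_iff f F hF z).mpr h0), i, hP, ?_⟩
    exact (fiber_iff f (P := fun t v => topologicalKrullDim ↥(closure ({v} : Set ↥(f.fiber t))) = (i : WithBot ℕ∞)) s w).mpr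
      (by rw [hw]; exact hzi)
  · rintro ⟨w, hwA, i, hP, hwi⟩
    refine ⟨f.fiberι s w, ⟨i, hP, (Loci.mem_A i _).mpr ⟨f.fiberι s w, rfl, specializes_rfl, ?_, ?_⟩⟩,
      (f.range_fiberι s).subset ⟨w, rfl⟩⟩
    · exact (Statements.ass_iff f F hF _).mp ((fiber_iff f (P := fun t v => v ∈ AssSch.Ass (fib f F t)) s w).mp hwA)
    · exact (fiber_iff f (P := fun t v => topologicalKrullDim ↥(closure ({v} : Set ↥(f.fiber t))) = (i : WithBot ℕ∞)) s w).mp hwi

theorem lc_assDimsSet [QuasiCompact f] (Φ : Finset ℕ) :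
    IsLocallyConstructible {s : Y |
      (fun z : ↥(f.fiber s) => topologicalKrullDim ↥(closure ({z} : Set ↥(f.fiber s)))) '' AssSch.Ass (fib f F s) =
        (fun n : ℕ => (n : WithBot ℕ∞)) '' (Φ : Set ℕ)} := by
  have hlc := fun P => f.isLocallyConstructible_image (lc_assDims (f := f) hF P)
  refine (congrArg IsLocallyConstructible (Set.ext fun s => ?_)).mpr
    ((IsLocallyConstructible.iInter fun i : Φ => hlc (fun j => j = (i : ℕ))).inter (lc_compl (hlc (fun j => j ∉ Φ))))
  rw [Set.mem_inter_iff, Set.mem_iInter, Set.mem_compl_iff]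
  simp only [mem_image_A f hF]
  simp only [exists_eq_left]
  rw [Set.mem_setOf_eq]
  constructor
  · intro h
    refine ⟨fun i => ?_, fun ⟨w, hw, i, hi, hwi⟩ => ?_⟩
    · obtain ⟨w, hw, hwi⟩ := h.ge ⟨i, i.2, rfl⟩
      exact ⟨w, hw, hwi⟩
    · obtain ⟨n, hn, hne⟩ := h.le ⟨w, hw, rfl⟩
      simp only at hne
      refine hi ?_
      have : n = i := by exact_mod_cast hne.trans hwi
      exact this ▸ hn
  · rintro ⟨h1, h2⟩
    refine subset_antisymm ?_ ?_
    · rintro _ ⟨w, hw, rfl⟩
      obtain ⟨e, he⟩ := (fiber_iff f (P := fun y w => ∃ e : ℕ,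
        topologicalKrullDim ↥(closure ({w} : Set ↥(f.fiber y))) = (e : ℕ)) s w).mpr (exists_cd f _)
      exact ⟨e, by_contra fun hn => h2 ⟨w, hw, e, hn, he⟩, he.symm⟩
    · rintro _ ⟨i, hi, rfl⟩
      obtain ⟨w, hw, hwi⟩ := h1 ⟨i, hi⟩
      exact ⟨w, hw, hwi⟩

theorem lc_hasSk (k : ℕ) : IsLocallyConstructible {x : X |
    LocCoh.HasSk k ((f.fiber (f.base x)).presheaf.stalk (f.asFiber x)) ((fib f F (f.base x)).presheaf.stalk (f.asFiber x))} := by
  refine (congrArg IsLocallyConstructible (Set.ext fun x => ?_)).mpr (lc_compl (lc_notSk (f := f) hF k))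
  rw [Set.mem_setOf_eq, Statements.hasSk_iff_gen f F hF k x, Set.mem_compl_iff, Set.mem_setOf_eq]
  have hCmem : ∀ z, z ∈ Cset f F ↔ ¬ sd f F z ≤ ((dp f F z : ℕ∞) : WithBot ℕ∞) := fun z => by
    show ¬ _ ↔ _
    rw [Nat.cast_zero, add_zero]
  constructor
  · rintro h ⟨j, z, ⟨hT, hzC⟩, hfz, hzx, hi⟩
    obtain ⟨d, e, hd, he, hle⟩ := (Loci.mem_T j z).mp hT
    rw [he] at hi
    have hi' : j + 1 - k ≤ e := by exact_mod_cast hi
    rcases min_le_iff.mp (h z hfz hzx) with h | h
    · rw [hd] at h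
      have : k ≤ d := by exact_mod_cast h
      omega
    · exact (hCmem z).mp hzC h
  · intro h z hfz hzx
    by_contra hmin
    rw [min_le_iff, not_or] at hmin
    obtain ⟨e, he⟩ := exists_cd f z
    obtain ⟨d, hd⟩ := ENat.ne_top_iff_exists.mp (show dp f F z ≠ ⊤ from fun ht => hmin.1 (by
      rw [ht]; exact WithBot.coe_le_coe.mpr le_top))
    have : ¬ k ≤ d := fun hkd => hmin.1 (by rw [← hd]; exact_mod_cast hkd)
    refine h ⟨d + e, z, ⟨(Loci.mem_T _ z).mpr ⟨d, e, hd.symm, he, le_rfl⟩, (hCmem z).mpr hmin.2⟩, hfz, hzx, ?_⟩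
    rw [he]
    exact_mod_cast (show d + e + 1 - k ≤ e by omega)

omit hF

/-- The structure sheaf: codepth of the local rings of the fibres. -/
theorem unit_invariants (x : X) :
    sd f (Coh.structureModule X) x = ringKrullDim ((f.fiber (f.base x)).presheaf.stalk (f.asFiber x)) ∧
    dp f (Coh.structureModule X) x =
      LocCoh.depth ((f.fiber (f.base x)).presheaf.stalk (f.asFiber x)) ((f.fiber (f.base x)).presheaf.stalk (f.asFiber x)) := by
  obtain ⟨e⟩ := Unit.exists_stalk_equiv f (f.base x) (f.asFiber x)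
  exact ⟨(Module.supportDim_eq_of_equiv e).trans (Module.supportDim_self_eq_ringKrullDim _), IdealDepth.congr _ e⟩

theorem lc_cm : IsLocallyConstructible {x : X |
    LocCoh.IsCohenMacaulayLocalRing ((f.fiber (f.base x)).presheaf.stalk (f.asFiber x))} := by
  refine (congrArg IsLocallyConstructible (Set.ext fun x => ?_)).mpr (lc_codepth (f := f) (Unit.isFP_unit X) 0)
  obtain ⟨h1, h2⟩ := unit_invariants f x
  rw [Set.mem_setOf_eq, Set.mem_setOf_eq, h1, h2, Nat.cast_zero, add_zero]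
  haveI := noeth f (f.base x) (f.asFiber x)
  constructor
  · intro h
    rw [← Module.supportDim_self_eq_ringKrullDim, h.supportDim_eq_depth]
  · intro h
    rw [← Module.supportDim_self_eq_ringKrullDim] at h
    exact { supportDim_eq_depth := le_antisymm h IdealDepth.depth_le_supportDim }

theorem lc_cm_base [QuasiCompact f] : IsLocallyConstructible {s : Y |
    ∀ z : ↥(f.fiber s), LocCoh.IsCohenMacaulayLocalRing ((f.fiber s).presheaf.stalk z)} := by
  refine (congrArg IsLocallyConstructible (Set.ext fun s => ?_)).mpr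
    (lc_compl (f.isLocallyConstructible_image (lc_compl (lc_cm f))))
  rw [Set.mem_setOf_eq,
    fiber_forall f (P := fun y w => LocCoh.IsCohenMacaulayLocalRing ((f.fiber y).presheaf.stalk w)) s,
    Set.mem_compl_iff]
  exact ⟨fun h ⟨x, hx, hxs⟩ => hx (h x hxs), fun h x hxs => by_contra fun hx => h ⟨x, hx, hxs⟩⟩

theorem lc_codepth_eq (n : ℕ) : IsLocallyConstructible {x : X |
    ringKrullDim ((f.fiber (f.base x)).presheaf.stalk (f.asFiber x)) =
      ((LocCoh.depth ((f.fiber (f.base x)).presheaf.stalk (f.asFiber x))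
        ((f.fiber (f.base x)).presheaf.stalk (f.asFiber x)) : ℕ∞) : WithBot ℕ∞) + n} := by
  have hfp := Unit.isFP_unit X
  have hset : ∀ m : ℕ, {x : X | sd f (Coh.structureModule X) x ≤ ((dp f (Coh.structureModule X) x : ℕ∞) : WithBot ℕ∞) + m} =
      {x : X | ringKrullDim ((f.fiber (f.base x)).presheaf.stalk (f.asFiber x)) ≤
      ((LocCoh.depth ((f.fiber (f.base x)).presheaf.stalk (f.asFiber x))
        ((f.fiber (f.base x)).presheaf.stalk (f.asFiber x)) : ℕ∞) : WithBot ℕ∞) + m} := fun m => by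
    ext x
    rw [Set.mem_setOf_eq, Set.mem_setOf_eq, (unit_invariants f x).1, (unit_invariants f x).2]
  have key : ∀ (m : ℕ) (x : X), x ∈ {x : X | ringKrullDim ((f.fiber (f.base x)).presheaf.stalk (f.asFiber x)) ≤
      ((LocCoh.depth ((f.fiber (f.base x)).presheaf.stalk (f.asFiber x))
        ((f.fiber (f.base x)).presheaf.stalk (f.asFiber x)) : ℕ∞) : WithBot ℕ∞) + m} ↔
      ∃ d t : ℕ, ringKrullDim ((f.fiber (f.base x)).presheaf.stalk (f.asFiber x)) = (d : ℕ) ∧
        LocCoh.depth ((f.fiber (f.base x)).presheaf.stalk (f.asFiber x))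
          ((f.fiber (f.base x)).presheaf.stalk (f.asFiber x)) = t ∧ t ≤ d ∧ d ≤ t + m := fun m x => by
    haveI := noeth f (f.base x) (f.asFiber x)
    set R := (f.fiber (f.base x)).presheaf.stalk (f.asFiber x) with hR
    obtain ⟨d, hd⟩ : ∃ d : ℕ, ringKrullDim R = (d : ℕ) := by
      obtain ⟨d, hd⟩ := ENat.ne_top_iff_exists.mp (Ideal.height_ne_top (IsLocalRing.maximalIdeal.isMaximal R).ne_top)
      exact ⟨d, by rw [← IsLocalRing.maximalIdeal_height_eq_ringKrullDim, ← hd]; rfl⟩
    have hle := IdealDepth.depth_le_supportDim (R := R) (M := R)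
    rw [Module.supportDim_self_eq_ringKrullDim, hd, show ((d : ℕ) : WithBot ℕ∞) = ((d : ℕ∞) : WithBot ℕ∞) from rfl,
      WithBot.coe_le_coe] at hle
    obtain ⟨t, ht⟩ := ENat.ne_top_iff_exists.mp (ne_top_of_le_ne_top (ENat.natCast_ne_top d) hle)
    have htd : t ≤ d := by rw [← ht] at hle; exact_mod_cast hle
    rw [Set.mem_setOf_eq, hd, ← ht]
    constructor
    · intro h
      exact ⟨d, t, rfl, rfl, htd, by exact_mod_cast h⟩
    · rintro ⟨d', t', hd', ht', -, hle'⟩
      rw [hd'] ; rw [ht']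
      exact_mod_cast hle'
  have hlc : ∀ m : ℕ, IsLocallyConstructible {x : X | ringKrullDim ((f.fiber (f.base x)).presheaf.stalk (f.asFiber x)) ≤
      ((LocCoh.depth ((f.fiber (f.base x)).presheaf.stalk (f.asFiber x))
        ((f.fiber (f.base x)).presheaf.stalk (f.asFiber x)) : ℕ∞) : WithBot ℕ∞) + m} := fun m =>
    hset m ▸ lc_codepth (f := f) hfp m
  rcases n with _ | n
  · refine (congrArg IsLocallyConstructible (Set.ext fun x => ?_)).mpr (hlc 0)
    rw [key 0 x, Set.mem_setOf_eq]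
    constructor
    · intro h
      obtain ⟨d, t, hd, ht, htd, -⟩ := (key 0 x).mp h.le
      rw [hd, ht] at h
      exact ⟨d, t, hd, ht, htd, by exact_mod_cast h.le⟩
    · rintro ⟨d, t, hd, ht, htd, hle⟩
      rw [hd, ht]
      exact_mod_cast (show d = t + 0 by omega)
  · refine (congrArg IsLocallyConstructible (Set.ext fun x => ?_)).mpr (lc_diff (hlc (n + 1)) (hlc n))
    rw [Set.mem_sdiff, key, key, Set.mem_setOf_eq]
    constructor
    · intro h
      obtain ⟨d, t, hd, ht, htd, hle⟩ := (key (n + 1) x).mp h.le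
      rw [hd, ht] at h
      have h1 : d = t + (n + 1) := by exact_mod_cast h
      refine ⟨⟨d, t, hd, ht, htd, hle⟩, fun ⟨d', t', hd', ht', _, hle'⟩ => ?_⟩
      rw [hd] at hd'
      rw [ht] at ht'
      have h2 : d = d' := by exact_mod_cast hd'
      have h3 : t = t' := by exact_mod_cast ht'
      omega
    · rintro ⟨⟨d, t, hd, ht, htd, hle⟩, hn⟩
      have hgt : ¬ d ≤ t + n := fun hh => hn ⟨d, t, hd, ht, htd, hh⟩
      rw [hd, ht]
      exact_mod_cast (show d = t + (n + 1) by omega)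

end Groth.Agent.FibreDepth.ConstrStatements
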