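import Mathlib
import Groth.Agent.FibreDepth.Families

/-! The fibrewise closure of a constructible set, graded by dimension, is constructible. -/

set_option autoImplicit false
set_option backward.isDefEq.respectTransparency false
set_option linter.style.haveILetI false
noncomputable section
universe u
open scoped TensorProduct
open Topology

namespace Groth.Agent.FibreDepth.EClosure
open Ring Affine Support LocMap Sets

attribute [local instance] MvPolynomial.algebraMvPolynomial
attribute [-instance] ModuleCat.sMulCommClass_mk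
attribute [local instance] Strata.commPB

variable {σ : Type}

theorem E_mono {A : Type u} [CommRing A] {W W' : Set (PrimeSpectrum (MvPolynomial σ A))} (h : W ⊆ W') (m : ℕ) :
    E A W m ⊆ E A W' m := fun _ ⟨η, hη, h'⟩ => ⟨η, h hη, h'⟩

theorem E_biUnion {A : Type u} [CommRing A] {ι : Type*} (s : Set ι) (W : ι → Set (PrimeSpectrum (MvPolynomial σ A))) (m : ℕ) :
    E A (⋃ i ∈ s, W i) m = ⋃ i ∈ s, E A (W i) m := by
  ext q
  simp only [Set.mem_iUnion, exists_prop]
  constructor
  · rintro ⟨η, hη, h⟩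
    obtain ⟨i, hi, hW⟩ := Set.mem_iUnion₂.mp hη
    exact ⟨i, hi, η, hW, h⟩
  · rintro ⟨i, hi, η, hW, h⟩
    exact ⟨η, Set.mem_iUnion₂.mpr ⟨i, hi, hW⟩, h⟩

theorem cl_mono {A : Type u} [CommRing A] {η η' : PrimeSpectrum (MvPolynomial σ A)} (hle : η ≤ η')
    (hb : below A η = below A η') : cl (A := A) η' ≤ cl (A := A) η :=
  Order.krullDim_le_of_strictMono (fun Q => ⟨Q.1, hle.trans Q.2.1, Q.2.2.trans hb.symm⟩)
    fun _ _ h => Subtype.mk_lt_mk.mpr h

/-- A constructible set missing the generic point misses a basic open neighbourhood of it. -/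
theorem exists_avoid {A : Type u} [CommRing A] [IsDomain A] {B : Set (PrimeSpectrum A)} (hB : IsConstructible B)
    (h : (⟨⊥, Ideal.isPrime_bot⟩ : PrimeSpectrum A) ∉ B) :
    ∃ f : A, f ≠ 0 ∧ ∀ p : PrimeSpectrum A, f ∉ p.asIdeal → p ∉ B := by
  obtain ⟨S, hS⟩ := PrimeSpectrum.exists_constructibleSetData_iff.mpr hB.compl
  have h' : (⟨⊥, Ideal.isPrime_bot⟩ : PrimeSpectrum A) ∈ S.toSet := hS.symm ▸ h
  obtain ⟨C, hC, hg, hf⟩ := Set.mem_iUnion₂.mp h'
  rw [PrimeSpectrum.mem_zeroLocus, Set.singleton_subset_iff] at hf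
  refine ⟨C.f, fun h0 => hf (by simp [h0]), fun p hp => ?_⟩
  have hp' : p ∈ S.toSet := Set.mem_iUnion₂.mpr ⟨C, hC, ?_, ?_⟩
  · rw [hS] at hp'
    exact hp'
  · rw [PrimeSpectrum.mem_zeroLocus] at hg ⊢
    intro x hx
    rw [show x = 0 from hg hx]
    exact zero_mem _
  · rw [PrimeSpectrum.mem_zeroLocus, Set.singleton_subset_iff]
    exact hp

/-- Minimal points of a closed set lie in a dense open subset. -/
theorem mem_open_of_minimal {P : Type u} [CommRing P] [IsNoetherianRing P] {W U : Set (PrimeSpectrum P)} (hU : IsOpen U)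
    (hWU : W = closure W ∩ U) (η : PrimeSpectrum P)
    (hη : η.asIdeal ∈ (PrimeSpectrum.vanishingIdeal W).minimalPrimes) : η ∈ U := by
  by_contra hne
  let I := PrimeSpectrum.vanishingIdeal W
  let S := {p : PrimeSpectrum P | p.asIdeal ∈ I.minimalPrimes ∧ p ≠ η}
  have hfin : S.Finite := by
    refine ((I.finite_minimalPrimes_of_isNoetherianRing P).preimage
      (f := PrimeSpectrum.asIdeal) fun a _ b _ h => PrimeSpectrum.ext h).subset fun p hp => hp.1
  have hcl : IsClosed (⋃ p ∈ S, closure ({p} : Set (PrimeSpectrum P))) :=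
    hfin.isClosed_biUnion fun p _ => isClosed_closure
  have hsub : W ⊆ ⋃ p ∈ S, closure ({p} : Set (PrimeSpectrum P)) := fun w hw => by
    have hwI : I ≤ w.asIdeal := fun x hx => (PrimeSpectrum.mem_vanishingIdeal W x).mp hx w hw
    obtain ⟨p, hp, hpw⟩ := Ideal.exists_minimalPrimes_le hwI
    refine Set.mem_iUnion₂.mpr ⟨⟨p, hp.1.1⟩, ⟨hp, fun hpe => ?_⟩, ?_⟩
    · exact hne (((PrimeSpectrum.le_iff_specializes η w).mp (hpe ▸ hpw)).mem_open hU (hWU.subset hw).2)
    · exact ((PrimeSpectrum.le_iff_specializes ⟨p, hp.1.1⟩ w).mp hpw).mem_closure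
  have hηc : η ∈ closure W := by
    rw [← PrimeSpectrum.zeroLocus_vanishingIdeal_eq_closure]
    exact hη.1.2
  obtain ⟨p, ⟨hp, hpne⟩, hpη⟩ := Set.mem_iUnion₂.mp (closure_minimal hsub hcl hηc)
  have hle : p.asIdeal ≤ η.asIdeal := (PrimeSpectrum.le_iff_specializes p η).mpr (specializes_iff_mem_closure.mpr hpη)
  exact hpne (PrimeSpectrum.ext (le_antisymm hle (hη.2 hp.1 hle)))

variable [Finite σ]

/-- Over the generic point, a point of depth zero of a reduced quotient is minimal. -/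
theorem minimal_of_dep_zero {A : Type u} [CommRing A] [IsNoetherianRing A] {I : Ideal (MvPolynomial σ A)}
    (hI : I.IsRadical) (η : PrimeSpectrum (MvPolynomial σ A)) (hb : (below A η).asIdeal = ⊥)
    (hd : dep (A := A) η (MvPolynomial σ A ⧸ I) = 0) : η.asIdeal ∈ I.minimalPrimes := by
  let P := MvPolynomial σ A
  let Lη := Localization.AtPrime η.asIdeal
  have hJ : (fibIdeal A η).map (algebraMap P Lη) = ⊥ := by
    rw [fibIdeal, hb, Ideal.map_bot, Ideal.map_bot]
  let mk : Lη →+* Loc A η := Ideal.Quotient.mk _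
  have hinj : Function.Injective mk := by
    rw [RingHom.injective_iff_ker_eq_bot, Ideal.mk_ker, hJ]
  let J : Ideal Lη := I.map (algebraMap P Lη)
  have hJr : J.IsRadical := by
    show J.radical ≤ J
    rw [← IsLocalization.map_radical η.asIdeal.primeCompl, hI.radical]
  let J' : Ideal (Loc A η) := I.map (algebraMap P (Loc A η))
  have hJJ' : ∀ w, mk w ∈ J' ↔ w ∈ J := fun w => by
    have : J' = J.map mk := ((Ideal.map_map (I := I) (algebraMap P Lη) mk).trans rfl).symm
    rw [this, Ideal.mem_map_iff_of_surjective _ Ideal.Quotient.mk_surjective]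
    exact ⟨fun ⟨v, hv, hvw⟩ => hinj hvw ▸ hv, fun h => ⟨w, h, rfl⟩⟩
  have hd' : LocCoh.depth (Loc A η) (Loc A η ⧸ J') = 0 := by
    rw [← hd]
    exact (IdealDepth.congr _ (Algebra.TensorProduct.quotIdealMapEquivTensorQuot (Loc A η) I).toLinearEquiv)
  obtain ⟨p, hp, hle⟩ := IdealDepth.eq_zero_iff.mp hd'
  obtain ⟨hpp, z, hz⟩ := isAssociatedPrime_iff.mp hp
  obtain ⟨z, rfl⟩ := Ideal.Quotient.mk_surjective z
  obtain ⟨w, rfl⟩ := Ideal.Quotient.mk_surjective z
  have hkill : ∀ x ∈ IsLocalRing.maximalIdeal Lη, x * w ∈ J := fun x hx => by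
    have hx' : mk x ∈ IsLocalRing.maximalIdeal (Loc A η) := fun hu => hx (by
      haveI : IsLocalHom mk := Ideal.Quotient.mk_surjective.isLocalHom _
      exact isUnit_of_map_unit mk x hu)
    have h1 := hle hx'
    rw [hz, Submodule.mem_colon_singleton, Submodule.mem_bot] at h1
    rw [← hJJ', map_mul, ← Ideal.Quotient.eq_zero_iff_mem, map_mul]
    exact h1
  have hwJ : w ∉ J := fun hw => hpp.ne_top (by
    rw [hz, Ideal.eq_top_iff_one, Submodule.mem_colon_singleton, Submodule.mem_bot, one_smul]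
    exact Ideal.Quotient.eq_zero_iff_mem.mpr ((hJJ' w).mpr hw))
  have hwm : w ∉ IsLocalRing.maximalIdeal Lη := fun hw => hwJ (hJr ⟨2, by rw [pow_two]; exact hkill w hw⟩)
  have hmax : IsLocalRing.maximalIdeal Lη ≤ J := fun x hx => by
    have hu : IsUnit w := by
      by_contra h
      exact hwm h
    exact (Ideal.mul_unit_mem_iff_mem J hu).mp (hkill x hx)
  refine ⟨⟨η.2, fun x hx => ?_⟩, fun p hp hpη x hx => ?_⟩
  · by_contra hxη
    exact hwJ (J.eq_top_of_isUnit_mem (Ideal.mem_map_of_mem _ hx)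
      (IsLocalization.map_units Lη (⟨x, hxη⟩ : η.asIdeal.primeCompl)) ▸ Submodule.mem_top)
  · haveI := hp.1
    have hxm : algebraMap P Lη x ∈ J := hmax ((IsLocalization.AtPrime.to_map_mem_maximal_iff Lη η.asIdeal x).mpr hx)
    obtain ⟨⟨i, s⟩, hs⟩ := (IsLocalization.mem_map_algebraMap_iff η.asIdeal.primeCompl Lη).mp hxm
    rw [← map_mul, IsLocalization.eq_iff_exists η.asIdeal.primeCompl] at hs
    obtain ⟨t, ht⟩ := hs
    have hmem : (t : P) * (x * (s : P)) ∈ p := by
      rw [ht]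
      exact Ideal.mul_mem_left _ _ (hp.2 i.2)
    refine (hp.1.mem_or_mem hmem).elim (fun h => absurd (hpη h) t.2) fun h => ?_
    exact (hp.1.mem_or_mem h).elim id fun h => absurd (hpη h) s.2

section noeth

variable {A : Type u} [CommRing A] [IsNoetherianRing A]

set_option maxHeartbeats 1000000 in
/-- Points of small rectified depth on a closed set avoiding the generic fibre avoid a neighbourhood. -/
theorem exists_avoid_T [IsDomain A] (M : Type u) [AddCommGroup M] [Module (MvPolynomial σ A) M] [Module A M]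
    [IsScalarTower A (MvPolynomial σ A) M] [Module.Finite (MvPolynomial σ A) M]
    {D : Set (PrimeSpectrum (MvPolynomial σ A))} (hD : IsClosed D)
    (hgen : ∀ η i, (below A η).asIdeal = ⊥ → η ∈ T A σ M i → η ∈ D → (i : WithBot ℕ∞) ≤ cl (A := A) η → False) :
    ∃ f : A, f ≠ 0 ∧ ∀ η i, f ∉ (below A η).asIdeal → η ∈ T A σ M i → η ∈ D → (i : WithBot ℕ∞) ≤ cl (A := A) η → False := by
  let P := MvPolynomial σ A
  obtain ⟨f₁, hf₁, hfree⟩ := Flat.GenericFree.freeAway_of_finite (R := A) P M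
  let L := Localization.Away f₁
  let ML := MvPolynomial σ L ⊗[P] M
  haveI := hfree L (IsLocalization.Away.algebraMap_isUnit f₁)
  haveI : Module.Flat L ML := Strata.flat_tensor (σ := σ) (A₀ := A) (B := L) (M₀ := M) inferInstance
  haveI : Module.FinitePresentation (MvPolynomial σ L) ML := Module.finitePresentation_of_finite (MvPolynomial σ L) ML
  have hbc : IsBC (σ := σ) (algebraMap A L) M ML := Strata.isBC_tensor
  let φ := algebraMap A L
  let G : ℕ → Set (PrimeSpectrum P) := fun i => E A (T A σ M i ∩ D) i ∩ {q | f₁ ∉ (below A q).asIdeal}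
  have hG : ∀ i, IsConstructible (G i) := fun i => by
    have h1 : G i = dn φ '' (dn φ ⁻¹' E A (T A σ M i ∩ D) i) := by
      rw [Set.image_preimage_eq_inter_range]
      exact congrArg (_ ∩ ·) (Strata.range_dn_away f₁).symm
    rw [h1, E_eq, Set.preimage_inter, T_eq φ hbc]
    exact PrimeSpectrum.isConstructible_comap_image Strata.fp_map (Families.isConstructible_of_isClosed
      (isClosed_E' ((Families.isClosed_T ML i).inter (hD.preimage (PrimeSpectrum.continuous_comap _))) i))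
  let B : Set (PrimeSpectrum A) := ⋃ i ∈ Set.Iic (Nat.card σ), PrimeSpectrum.comap (algebraMap A P) '' G i
  have hB : IsConstructible B := IsConstructible.biUnion (Set.finite_Iic _) fun i _ =>
    PrimeSpectrum.isConstructible_comap_image (RingHom.finitePresentation_algebraMap.mpr inferInstance) (hG i)
  obtain ⟨f₂, hf₂, hav⟩ := exists_avoid hB fun hmem => by
    obtain ⟨i, -, q, ⟨⟨η, ⟨hT, hηD⟩, -, hb, hi⟩, -⟩, hq⟩ := Set.mem_iUnion₂.mp hmem
    exact hgen η i ((congrArg PrimeSpectrum.asIdeal (hb.trans hq)).trans rfl) hT hηD hi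
  refine ⟨f₁ * f₂, mul_ne_zero hf₁ hf₂, fun η i h12 hT hη hi => ?_⟩
  have hicard : i ≤ Nat.card σ :=
    Families.le_card_of_mem_E (W := T A σ M i) (q := η) ⟨η, hT, le_rfl, rfl, hi⟩
  exact hav _ (fun h => h12 (Ideal.mul_mem_left _ _ h)) (Set.mem_iUnion₂.mpr ⟨i, hicard,
    η, ⟨⟨η, ⟨hT, hη⟩, le_rfl, rfl, hi⟩, fun h => h12 (Ideal.mul_mem_right _ _ h)⟩, rfl⟩)

omit [IsNoetherianRing A] in
/-- Minimal points of a fibre of a closed set have depth zero. -/
theorem dep_zero_of_minimal {I : Ideal (MvPolynomial σ A)} (η₀ : PrimeSpectrum (MvPolynomial σ A))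
    (hle : I ≤ η₀.asIdeal) (hmin : ∀ p : PrimeSpectrum (MvPolynomial σ A), p ≤ η₀ → below A p = below A η₀ →
      I ≤ p.asIdeal → p = η₀) : dep (A := A) η₀ (MvPolynomial σ A ⧸ I) = 0 := by
  let M := MvPolynomial σ A ⧸ I
  have hns : ¬ Subsingleton (Loc A η₀ ⊗[MvPolynomial σ A] M) := fun hs => by
    refine ((Locus.subsingleton_iff (A := A) M η₀).mp hs) ?_
    rw [Ideal.annihilator_quotient]
    exact hle
  have hsd : Module.supportDim (Loc A η₀) (Loc A η₀ ⊗[MvPolynomial σ A] M) ≤ 0 := by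
    refine Order.krullDim_nonpos_iff_forall_isMax.mpr fun a b hab => ?_
    have hu : ∀ x : ↥(Module.support (Loc A η₀) (Loc A η₀ ⊗[MvPolynomial σ A] M)), toP (A := A) η₀ x.1 = η₀ := fun x => by
      obtain ⟨h1, h2⟩ := (range_toP (A := A) η₀ _).mp ⟨x.1, rfl⟩
      refine hmin _ h1 h2 ?_
      have := (mem_support_loc (A := A) η₀ x.1).mp x.2
      rwa [Ideal.annihilator_quotient] at this
    exact le_of_eq (Subtype.ext ((toP (A := A) η₀).injective ((hu b).trans (hu a).symm)))
  have h := (Locus.dep_le_supportDim M η₀ hns).trans hsd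
  rw [← WithBot.coe_zero, WithBot.coe_le_coe] at h
  exact nonpos_iff_eq_zero.mp h

set_option maxHeartbeats 1000000 in
/-- Over a domain the set is constructible near the generic point. -/
theorem domain [IsDomain A] {C U : Set (PrimeSpectrum (MvPolynomial σ A))} (hC : IsClosed C) (hU : IsOpen U) (m : ℕ) :
    ∃ f : A, f ≠ 0 ∧ IsConstructible (E A (C ∩ U) m ∩ {q | f ∉ (below A q).asIdeal}) := by
  let P := MvPolynomial σ A
  let W := C ∩ U
  let I := PrimeSpectrum.vanishingIdeal W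
  let C' := closure W
  have hC'I : C' = PrimeSpectrum.zeroLocus (I : Set P) := (PrimeSpectrum.zeroLocus_vanishingIdeal_eq_closure W).symm
  have hWU : W = C' ∩ U := subset_antisymm (fun w hw => ⟨subset_closure hw, hw.2⟩)
    fun w hw => ⟨closure_minimal Set.inter_subset_left hC hw.1, hw.2⟩
  obtain ⟨f, hf, hav⟩ := exists_avoid_T (A := A) (P ⧸ I) (D := C' \ U) (isClosed_closure.sdiff hU)
    fun η i hbot hT hηD hi => by
      obtain ⟨d, e, -, he, -⟩ := Locus.exists_nat_dims η
      refine hηD.2 (mem_open_of_minimal hU hWU η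
        (minimal_of_dep_zero (PrimeSpectrum.isRadical_vanishingIdeal W) η hbot ?_))
      rw [he] at hi
      have hie : i ≤ e := by exact_mod_cast hi
      by_contra hne
      refine hT ?_
      rw [rdSet, Set.mem_setOf_eq, he]
      have h1 : (1 : ℕ∞) ≤ dep (A := A) η (P ⧸ I) := Order.one_le_iff_pos.2 (pos_iff_ne_zero.2 hne)
      calc ((i + 1 : ℕ) : WithBot ℕ∞) ≤ (((1 : ℕ∞) + e : ℕ∞) : WithBot ℕ∞) := by
              exact_mod_cast (show i + 1 ≤ 1 + e by omega)
        _ ≤ _ := by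
              rw [WithBot.coe_add]
              exact add_le_add (WithBot.coe_le_coe.mpr h1) le_rfl
  refine ⟨f, hf, ?_⟩
  have hΩ : IsOpen {q : PrimeSpectrum P | f ∉ (below A q).asIdeal} :=
    (PrimeSpectrum.basicOpen f).isOpen.preimage (PrimeSpectrum.continuous_comap _)
  have key : E A W m ∩ {q | f ∉ (below A q).asIdeal} = E A C' m ∩ {q | f ∉ (below A q).asIdeal} := by
    refine subset_antisymm (Set.inter_subset_inter_left _ (E_mono subset_closure m)) ?_
    rintro q ⟨⟨η, hη, hle, hb, hm⟩, hqΩ⟩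
    refine ⟨?_, hqΩ⟩
    have hle2 : I ⊔ fibIdeal A q ≤ η.asIdeal :=
      sup_le ((PrimeSpectrum.mem_zeroLocus _ _).mp (hC'I.subset hη))
        (Ideal.map_le_iff_le_comap.mpr (congrArg PrimeSpectrum.asIdeal hb).ge)
    obtain ⟨p, hp, hpη⟩ := Ideal.exists_minimalPrimes_le hle2
    let η₀ : PrimeSpectrum P := ⟨p, hp.1.1⟩
    have hb₀ : below A η₀ = below A q := le_antisymm
      ((Ideal.comap_mono hpη).trans (congrArg PrimeSpectrum.asIdeal hb).le)
      (Ideal.map_le_iff_le_comap.mp (le_sup_right.trans hp.1.2))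
    refine ⟨η₀, ?_, le_trans (b := η) hpη hle, hb₀, hm.trans (cl_mono hpη (hb₀.trans hb.symm))⟩
    have hη₀C : η₀ ∈ C' := hC'I.superset ((PrimeSpectrum.mem_zeroLocus _ _).mpr (SetLike.coe_subset_coe.mpr ((le_sup_left : I ≤ _).trans hp.1.2)))
    rw [hWU]
    refine ⟨hη₀C, by_contra fun hU₀ => ?_⟩
    obtain ⟨d, e, -, he, -⟩ := Locus.exists_nat_dims η₀
    have hd0 : dep (A := A) η₀ (P ⧸ I) = 0 := dep_zero_of_minimal η₀ (le_sup_left.trans hp.1.2) fun x hx hxb hIx => by
      refine le_antisymm hx (hp.2 ⟨x.2, sup_le hIx ?_⟩ hx)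
      show ((below A q).asIdeal).map (algebraMap A P) ≤ x.asIdeal
      rw [← hb₀, ← hxb]
      exact Ideal.map_comap_le
    have hT₀ : η₀ ∈ T A σ (P ⧸ I) e := fun h => by
      rw [rdSet, Set.mem_setOf_eq, hd0, he, WithBot.coe_zero, zero_add] at h
      have : e + 1 ≤ e := by exact_mod_cast h
      omega
    exact hav η₀ e (hb₀ ▸ hqΩ) hT₀ ⟨hη₀C, hU₀⟩ (by rw [he]; exact le_of_eq (wc e).symm)
  rw [show E A (C ∩ U) m ∩ {q | f ∉ (below A q).asIdeal} = E A C' m ∩ {q | f ∉ (below A q).asIdeal} from key]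
  exact (Families.isConstructible_of_isClosed (isClosed_E' isClosed_closure m)).inter
    ((TopologicalSpace.NoetherianSpace.isCompact _).isConstructible hΩ)

theorem isConstructible_inter {C U : Set (PrimeSpectrum (MvPolynomial σ A))} (hC : IsClosed C) (hU : IsOpen U) (m : ℕ)
    (I : Ideal A) : IsConstructible (E A (C ∩ U) m ∩ {q | I ≤ (below A q).asIdeal}) := by
  induction I using WellFoundedGT.induction with
  | _ I ih =>
  by_cases hI : I.IsPrime
  · let R := A ⧸ I
    let ψ := algebraMap A R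
    haveI : IsDomain R := (Ideal.Quotient.isDomain_iff_prime I).mpr hI
    obtain ⟨f, hf, hc⟩ := domain (A := R) (hC.preimage (PrimeSpectrum.continuous_comap (ζ (σ := σ) ψ)))
      (hU.preimage (PrimeSpectrum.continuous_comap (ζ (σ := σ) ψ))) m
    rw [← Set.preimage_inter, ← E_eq] at hc
    obtain ⟨f₀, rfl⟩ := Ideal.Quotient.mk_surjective f
    have hlt : I < I ⊔ Ideal.span {f₀} := left_lt_sup.mpr fun h =>
      hf (Ideal.Quotient.eq_zero_iff_mem.mpr (h (Ideal.mem_span_singleton_self f₀)))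
    have : E A (C ∩ U) m ∩ {q | I ≤ (below A q).asIdeal} =
        dn ψ '' (dn ψ ⁻¹' E A (C ∩ U) m ∩ {q | Ideal.Quotient.mk I f₀ ∉ (below R q).asIdeal}) ∪
          (E A (C ∩ U) m ∩ {q | I ⊔ Ideal.span {f₀} ≤ (below A q).asIdeal}) := by
      ext q
      constructor
      · rintro ⟨hq, hqI⟩
        by_cases hf₀ : f₀ ∈ (below A q).asIdeal
        · exact Or.inr ⟨hq, sup_le hqI ((Ideal.span_singleton_le_iff_mem _).mpr hf₀)⟩
        · obtain ⟨Q, rfl⟩ := (Strata.range_dn_mk (σ := σ) I).superset hqI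
          refine Or.inl ⟨Q, ⟨hq, fun h => hf₀ ?_⟩, rfl⟩
          rw [below_dn]
          exact h
      · rintro (⟨Q, ⟨hQ, -⟩, rfl⟩ | ⟨hq, hqI⟩)
        · exact ⟨hQ, (Strata.range_dn_mk (σ := σ) I).subset ⟨Q, rfl⟩⟩
        · exact ⟨hq, le_trans (le_sup_left : I ≤ I ⊔ Ideal.span {f₀}) hqI⟩
    rw [this]
    exact (PrimeSpectrum.isConstructible_comap_image Strata.fp_map hc).union (ih _ hlt)
  by_cases hT : I = ⊤
  · convert IsConstructible.empty
    exact Set.eq_empty_of_forall_notMem fun q hq => (below A q).2.ne_top (top_le_iff.mp (hT ▸ hq.2))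
  obtain ⟨a, ha, b, hb, hab⟩ := (Ideal.not_isPrime_iff.mp hI).resolve_left hT
  have : E A (C ∩ U) m ∩ {q | I ≤ (below A q).asIdeal} = (E A (C ∩ U) m ∩ {q | I ⊔ Ideal.span {a} ≤ (below A q).asIdeal}) ∪
      (E A (C ∩ U) m ∩ {q | I ⊔ Ideal.span {b} ≤ (below A q).asIdeal}) := by
    ext q
    simp only [Set.mem_inter_iff, Set.mem_union, Set.mem_setOf_eq, sup_le_iff, Ideal.span_singleton_le_iff_mem]
    refine ⟨fun ⟨h, hI'⟩ => ((below A q).2.mem_or_mem (hI' hab)).imp (fun h' => ⟨h, hI', h'⟩) fun h' => ⟨h, hI', h'⟩, ?_⟩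
    rintro (⟨h, h', -⟩ | ⟨h, h', -⟩) <;> exact ⟨h, h'⟩
  rw [this]
  exact (ih _ (left_lt_sup.mpr fun h => ha (h (Ideal.mem_span_singleton_self a)))).union
    (ih _ (left_lt_sup.mpr fun h => hb (h (Ideal.mem_span_singleton_self b))))

end noeth

open Flat.Descent Flat.OpenLocus in
/-- The fibrewise closure of a constructible set, graded by dimension, is constructible. -/
theorem isConstructible_E {A : Type u} [CommRing A] {W : Set (PrimeSpectrum (MvPolynomial σ A))} (hW : IsConstructible W)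
    (m : ℕ) : IsConstructible (E A W m) := by
  obtain ⟨S, rfl⟩ := PrimeSpectrum.exists_constructibleSetData_iff.mpr hW
  have e : E A S.toSet m = ⋃ C ∈ (S : Set (PrimeSpectrum.BasicConstructibleSetData _)), E A C.toSet m := E_biUnion _ _ m
  rw [e]
  refine IsConstructible.biUnion S.finite_toSet fun C _ => ?_
  obtain ⟨T, hT⟩ := exists_adjoin_vec (σ := σ) (fun x : Option (Fin C.n) => x.elim C.f C.g)
  obtain ⟨v, hv⟩ := hT T le_rfl
  let φ := algebraMap (adj T) A
  haveI := adj_isNoetherianRing T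
  let C₀ := PrimeSpectrum.zeroLocus (Set.range fun i => v (some i))
  let U₀ := (PrimeSpectrum.zeroLocus {v none})ᶜ
  have hC : C.toSet = dn φ ⁻¹' (C₀ ∩ U₀) := by
    have h1 : ∀ i, ζ φ (v (some i)) = C.g i := fun i => congrFun hv (some i)
    have h2 : ζ φ (v none) = C.f := congrFun hv none
    rw [Set.preimage_inter, Set.preimage_compl, PrimeSpectrum.preimage_comap_zeroLocus,
      PrimeSpectrum.preimage_comap_zeroLocus, ← Set.range_comp, Set.image_singleton, h2]
    rw [show (ζ φ ∘ fun i => v (some i)) = C.g from funext h1]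
    exact Set.diff_eq _ _
  rw [hC, ← E_eq]
  refine Strata.isConstructible_comap _ ?_
  simpa using isConstructible_inter (PrimeSpectrum.isClosed_zeroLocus (Set.range fun i => v (some i)))
    (PrimeSpectrum.isClosed_zeroLocus {v none}).isOpen_compl m (⊥ : Ideal (adj T))

end Groth.Agent.FibreDepth.EClosure
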