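import Mathlib
import Groth.Agent.RegularLocal.Basic
import Groth.Agent.HopfRep.HopfDim

/-! A regular point with formally smooth residue field extension is a smooth point. -/

set_option autoImplicit false
set_option backward.isDefEq.respectTransparency false
set_option linter.style.haveILetI false
universe u

open IsLocalRing KaehlerDifferential
open scoped TensorProduct

namespace Groth.Agent.FibreDepth.RegSmooth

theorem linearIndependent_of_minimal {P K : Type u} [CommRing P] [IsLocalRing P] [IsNoetherianRing P] [Field K]
    [Algebra P K] (hK : Function.Surjective (algebraMap P K)) {n : ℕ} (g : Fin n → maximalIdeal P)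
    (hgen : Submodule.span P (Set.range g) = ⊤) (hn : (maximalIdeal P).spanFinrank = n) :
    LinearIndependent K fun i => (1 : K) ⊗ₜ[P] g i := by
  have hker : maximalIdeal P ≤ RingHom.ker (algebraMap P K) :=
    (eq_maximalIdeal (RingHom.ker_isMaximal_of_surjective _ hK)).ge
  let f : ResidueField P →ₐ[P] K := Ideal.Quotient.liftₐ _ (Algebra.ofId P K) hker
  letI : Algebra (ResidueField P) K := f.toAlgebra
  haveI : IsScalarTower P (ResidueField P) K := IsScalarTower.of_algebraMap_eq' f.comp_algebraMap.symm
  have hrank : Module.finrank K (K ⊗[P] maximalIdeal P) = n := by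
    rw [← (TensorProduct.AlgebraTensorModule.cancelBaseChange P (ResidueField P) K K (maximalIdeal P)).finrank_eq,
      Module.finrank_baseChange, Module.finrank_eq_spanFinrank_of_free,
      TensorProduct.spanFinrank_top_eq_of_residueField _ (maximalIdeal P).fg_of_isNoetherianRing, hn]
  refine linearIndependent_of_top_le_span_of_card_eq_finrank (fun t _ => ?_) (by simp [hrank])
  obtain ⟨x, rfl⟩ := TensorProduct.mk_surjective P (maximalIdeal P) K hK t
  obtain ⟨c, hc⟩ := (Submodule.mem_span_range_iff_exists_fun P).mp (hgen.ge (Submodule.mem_top (x := x)))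
  refine (Submodule.mem_span_range_iff_exists_fun K).mpr ⟨fun i => algebraMap P K (c i), ?_⟩
  simp [← hc, TensorProduct.tmul_sum, algebraMap_smul]

/-- The Jacobian criterion at a point with formally smooth residue field. -/
theorem formallySmooth_of_regular {k P S K : Type u} [Field k] [CommRing P] [CommRing S] [Field K]
    [IsRegularLocalRing P] [IsRegularLocalRing S] [Algebra k P] [Algebra k S] [Algebra k K]
    [Algebra P S] [Algebra P K] [Algebra S K] [IsScalarTower k P S] [IsScalarTower k P K] [IsScalarTower P S K]
    [Algebra.FormallySmooth k P] [Module.Free P Ω[P⁄k]] [Module.Finite P Ω[P⁄k]]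
    [Algebra.FormallySmooth k K]
    (hS : Function.Surjective (algebraMap P S)) (hK : Function.Surjective (algebraMap S K)) :
    Algebra.FormallySmooth k S := by
  have hPK : Function.Surjective (algebraMap P K) := by
    rw [IsScalarTower.algebraMap_eq P S K, RingHom.coe_comp]
    exact hK.comp hS
  have hm : RingHom.ker (algebraMap P K) = maximalIdeal P :=
    eq_maximalIdeal (RingHom.ker_isMaximal_of_surjective _ hPK)
  have hmS : maximalIdeal S ≤ RingHom.ker (algebraMap S K) :=
    (eq_maximalIdeal (RingHom.ker_isMaximal_of_surjective _ hK)).ge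
  let I := RingHom.ker (algebraMap P S)
  haveI : IsRegularLocalRing (P ⧸ I) := IsRegularLocalRing.of_ringEquiv (R := S)
    (RingHom.quotientKerEquivOfSurjective hS).symm
  obtain ⟨l₁, l₂, hlen, hgen, hI⟩ := RegularLocal.Basic.exists_generators_of_quotient_aux _ P I rfl
  have hmem : ∀ i : Fin (l₁ ++ l₂).length, (l₁ ++ l₂).get i ∈ maximalIdeal P := fun i =>
    hgen ▸ Ideal.subset_span (List.getElem_mem i.2)
  let g : Fin (l₁ ++ l₂).length → maximalIdeal P := fun i => ⟨(l₁ ++ l₂).get i, hmem i⟩
  have hg : Submodule.span P (Set.range g) = ⊤ := by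
    refine Submodule.map_injective_of_injective (maximalIdeal P).injective_subtype ?_
    rw [Submodule.map_span, Submodule.map_subtype_top, ← Set.range_comp]
    conv_rhs => rw [← hgen]
    show Submodule.span P (Set.range (l₁ ++ l₂).get) = _
    rw [Set.range_list_get]
  have hli := linearIndependent_of_minimal hPK g hg (by rw [List.length_append, hlen])
  let F := cotangentComplexBaseChange k K P K
  have hF : Function.Injective F := (Algebra.FormallySmooth.iff_injective_cotangentComplexBaseChange (R := k) (S := K)
    P K hPK (IsNoetherian.noetherian _) (le_of_eq_of_le (isField_iff_maximalIdeal_eq.mp (Field.toIsField K)) bot_le)).mp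
    inferInstance
  let w : Fin (l₁ ++ l₂).length → K ⊗[P] Ω[P⁄k] := fun i => (1 : K) ⊗ₜ[P] D k P ((l₁ ++ l₂).get i)
  have hw : LinearIndependent K w := by
    let e := (LinearEquiv.ofEq _ _ hm.symm).baseChange (R := P) (A := K)
    have := (hli.map' e.toLinearMap e.ker).map' F (LinearMap.ker_eq_bot.mpr hF)
    convert! this using 1
    funext i
    simp [w, F, e, g, LinearEquiv.baseChange, cotangentComplexBaseChange_tmul, kerToTensor_apply]
  let f : Fin l₁.length → I := fun i => ⟨l₁.get i, by
    show l₁.get i ∈ I
    rw [hI]
    exact Ideal.subset_span (List.getElem_mem i.2)⟩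
  have hf : Submodule.span P (Set.range f) = ⊤ := by
    refine Submodule.map_injective_of_injective I.injective_subtype ?_
    rw [Submodule.map_span, Submodule.map_subtype_top, ← Set.range_comp]
    conv_rhs => rw [hI]
    show Submodule.span P (Set.range l₁.get) = _
    rw [Set.range_list_get]
  let ι : Fin l₁.length → Fin (l₁ ++ l₂).length := fun i => ⟨i.1, by rw [List.length_append]; omega⟩
  have hι : Function.Injective ι := fun a b h => Fin.ext (congrArg (fun j : Fin (l₁ ++ l₂).length => j.1) h)
  have hwf : ∀ i, cotangentComplexBaseChange k S P K ((1 : K) ⊗ₜ[P] f i) = w (ι i) := fun i => by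
    simp [w, f, ι, cotangentComplexBaseChange_tmul, kerToTensor_apply]
  rw [Algebra.FormallySmooth.iff_injective_cotangentComplexBaseChange P K hS (IsNoetherian.noetherian _) hmS,
    injective_iff_map_eq_zero]
  intro t ht
  obtain ⟨x, rfl⟩ := TensorProduct.mk_surjective P (RingHom.ker (algebraMap P S)) K hPK t
  obtain ⟨c, hc⟩ := (Submodule.mem_span_range_iff_exists_fun P).mp (hf.ge (Submodule.mem_top (x := x)))
  have hx : (1 : K) ⊗ₜ[P] x = ∑ i, algebraMap P K (c i) • ((1 : K) ⊗ₜ[P] f i) := by
    simp [← hc, TensorProduct.tmul_sum, algebraMap_smul]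
  change cotangentComplexBaseChange k S P K ((1 : K) ⊗ₜ[P] x) = 0 at ht
  show (1 : K) ⊗ₜ[P] x = 0
  rw [hx, map_sum] at ht
  simp only [map_smul, hwf] at ht
  have h0 := Fintype.linearIndependent_iff.mp (hw.comp ι hι) _ ht
  simp [hx, h0]

/-- A finite type algebra is smooth at a regular point with formally smooth residue field. -/
theorem isSmoothAt_of_regular {k B : Type u} [Field k] [CommRing B] [Algebra k B] [Algebra.FiniteType k B]
    (q : Ideal B) [q.IsPrime] [IsRegularLocalRing (Localization.AtPrime q)]
    [Algebra.FormallySmooth k q.ResidueField] : Algebra.IsSmoothAt k q := by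
  obtain ⟨n, φ, hφ⟩ := Algebra.FiniteType.iff_quotient_mvPolynomial''.mp ‹Algebra.FiniteType k B›
  let P₀ := MvPolynomial (Fin n) k
  letI : Algebra P₀ B := φ.toRingHom.toAlgebra
  haveI : IsScalarTower k P₀ B := IsScalarTower.of_algebraMap_eq fun r => (φ.commutes r).symm
  let p : Ideal P₀ := q.comap (algebraMap P₀ B)
  let P := Localization.AtPrime p
  haveI : IsRegularLocalRing P := isRegularRing_iff.mp inferInstance p
  haveI : q.LiesOver p := ⟨rfl⟩
  let S := Localization.AtPrime q
  letI : Algebra P S := (Localization.localRingHom p q (algebraMap P₀ B) rfl).toAlgebra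
  haveI : IsScalarTower P₀ P S := IsScalarTower.of_algebraMap_eq fun r => by
    rw [RingHom.algebraMap_toAlgebra, Localization.localRingHom_to_map]
    rfl
  haveI : IsScalarTower k P S := IsScalarTower.of_algebraMap_eq fun r => by
    rw [IsScalarTower.algebraMap_apply k P₀ P, ← IsScalarTower.algebraMap_apply P₀ P S,
      ← IsScalarTower.algebraMap_apply k P₀ S]
  have hS : Function.Surjective (algebraMap P S) := by
    intro x
    obtain ⟨y, ⟨s, hs⟩, rfl⟩ := IsLocalization.exists_mk'_eq q.primeCompl x
    obtain ⟨y, rfl⟩ := hφ y
    obtain ⟨s, rfl⟩ := hφ s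
    exact ⟨IsLocalization.mk' P y (⟨s, hs⟩ : p.primeCompl), Localization.localRingHom_mk' _ _ _ rfl _ _⟩
  let K := q.ResidueField
  letI : Algebra P K := ((algebraMap S K).comp (algebraMap P S)).toAlgebra
  haveI : IsScalarTower P S K := IsScalarTower.of_algebraMap_eq' rfl
  haveI : IsScalarTower k P K := IsScalarTower.of_algebraMap_eq fun r => by
    rw [IsScalarTower.algebraMap_apply P S K, ← IsScalarTower.algebraMap_apply k P S,
      ← IsScalarTower.algebraMap_apply k S K]
  have : Algebra.FormallyEtale P₀ P := Algebra.FormallyEtale.of_isLocalization p.primeCompl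
  have : Module.Free P Ω[P⁄k] := Module.Free.of_basis
    (((KaehlerDifferential.mvPolynomialBasis k (Fin n)).baseChange P).map
      (KaehlerDifferential.tensorKaehlerEquivOfFormallyEtale k P₀ P))
  have : Module.Finite P Ω[P⁄k] := Module.Finite.of_basis
    (((KaehlerDifferential.mvPolynomialBasis k (Fin n)).baseChange P).map
      (KaehlerDifferential.tensorKaehlerEquivOfFormallyEtale k P₀ P))
  have : Algebra.FormallySmooth k P := Algebra.FormallySmooth.comp k P₀ P
  exact formallySmooth_of_regular (P := P) (S := S) (K := K) hS residue_surjective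

theorem isSmoothAt_iff_regular {k B : Type u} [Field k] [CommRing B] [Algebra k B] [Algebra.FiniteType k B]
    (q : Ideal B) [q.IsPrime] [Algebra.FormallySmooth k q.ResidueField] :
    Algebra.IsSmoothAt k q ↔ IsRegularLocalRing (Localization.AtPrime q) := by
  haveI : Algebra.FinitePresentation k B := Algebra.FinitePresentation.of_finiteType.mp inferInstance
  refine ⟨fun h => ?_, fun _ => isSmoothAt_of_regular q⟩
  haveI : Algebra.IsSmoothAt k q := h
  exact HopfRep.HopfDim.isRegularLocalRing_of_isSmoothAt (k := k) q

/-- Over a perfect field the smooth points are the regular points. -/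
theorem isSmoothAt_iff_regular_of_perfect {k B : Type u} [Field k] [PerfectField k] [CommRing B] [Algebra k B]
    [Algebra.FiniteType k B] (q : Ideal B) [q.IsPrime] :
    Algebra.IsSmoothAt k q ↔ IsRegularLocalRing (Localization.AtPrime q) := by
  haveI : Algebra.EssFiniteType k (Localization.AtPrime q) :=
    haveI : Algebra.EssFiniteType B (Localization.AtPrime q) := Algebra.EssFiniteType.of_isLocalization _ q.primeCompl
    Algebra.EssFiniteType.comp k B _
  haveI : Algebra.EssFiniteType k q.ResidueField :=
    haveI : Algebra.EssFiniteType (Localization.AtPrime q) q.ResidueField :=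
      inferInstanceAs (Algebra.EssFiniteType (Localization.AtPrime q) ((Localization.AtPrime q) ⧸ maximalIdeal (Localization.AtPrime q)))
    Algebra.EssFiniteType.comp k (Localization.AtPrime q) _
  exact isSmoothAt_iff_regular q

end Groth.Agent.FibreDepth.RegSmooth
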