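import Mathlib
import Groth.Agent.FibreDepth.RegSmooth

/-! Smooth points of schemes over a field and regular points. -/

set_option autoImplicit false
set_option backward.isDefEq.respectTransparency false
set_option linter.style.haveILetI false
universe u

open CategoryTheory AlgebraicGeometry

namespace Groth.Agent.FibreDepth.RegSmoothScheme

variable {k : Type u} [Field k] {X : Scheme.{u}} (f : X ⟶ Spec (CommRingCat.of k)) [LocallyOfFinitePresentation f]

/-- Affine description of the smooth points over a field. -/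
theorem exists_algebra (x : X) : ∃ (B : Type u) (_ : CommRing B) (_ : Algebra k B) (_ : Algebra.FiniteType k B)
    (q : Ideal B) (_ : q.IsPrime), Nonempty (Localization.AtPrime q ≃+* X.presheaf.stalk x) ∧
      (x ∈ f.smoothLocus ↔ Algebra.IsSmoothAt k q) := by
  obtain ⟨_, ⟨V, hV, rfl⟩, hxV, -⟩ :=
    X.isBasis_affineOpens.exists_subset_of_mem_open (Set.mem_univ x) isOpen_univ
  have hVU : V ≤ f ⁻¹ᵁ ⊤ := le_top
  let ρ : k →+* Γ(X, V) := ((Scheme.ΓSpecIso (CommRingCat.of k)).inv ≫ f.appLE ⊤ V hVU).hom
  letI := ρ.toAlgebra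
  have hft : (f.appLE ⊤ V hVU).hom.FinitePresentation := f.finitePresentation_appLE (isAffineOpen_top _) hV hVU
  have : Algebra.FinitePresentation k Γ(X, V) :=
    RingHom.finitePresentation_algebraMap.mp
      ((RingHom.finitePresentation_respectsIso.cancel_left_isIso _ _).mpr hft)
  let q := (hV.primeIdealOf ⟨x, hxV⟩).asIdeal
  refine ⟨Γ(X, V), inferInstance, inferInstance, inferInstance, q, inferInstance, ?_, ?_⟩
  · letI := TopCat.Presheaf.algebra_section_stalk X.presheaf (⟨x, hxV⟩ : V)
    haveI := hV.isLocalization_stalk ⟨x, hxV⟩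
    exact ⟨(IsLocalization.algEquiv q.primeCompl (Localization.AtPrime q) (X.presheaf.stalk x)).toRingEquiv⟩
  · refine (AlgebraicGeometry.formallySmooth_stalkMap_iff (f := f) ⊤ (isAffineOpen_top _) V hV hVU hxV).trans ?_
    letI := (f.appLE ⊤ V hVU).hom.toAlgebra
    show Algebra.FormallySmooth Γ(Spec (CommRingCat.of k), ⊤) (Localization.AtPrime q) ↔
      Algebra.FormallySmooth k (Localization.AtPrime q)
    rw [← RingHom.formallySmooth_algebraMap, ← RingHom.formallySmooth_algebraMap]
    rw [IsScalarTower.algebraMap_eq k Γ(X, V) (Localization.AtPrime q),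
      IsScalarTower.algebraMap_eq Γ(Spec (CommRingCat.of k), ⊤) Γ(X, V) (Localization.AtPrime q)]
    exact (RingHom.FormallySmooth.respectsIso.cancel_left_isIso (Scheme.ΓSpecIso (CommRingCat.of k)).inv
      (f.appLE ⊤ V hVU ≫ CommRingCat.ofHom (algebraMap Γ(X, V) (Localization.AtPrime q)))).symm

theorem isRegular_of_mem_smoothLocus {x : X} (hx : x ∈ f.smoothLocus) : IsRegularLocalRing (X.presheaf.stalk x) := by
  obtain ⟨B, _, _, _, q, _, ⟨e⟩, hiff⟩ := exists_algebra f x
  haveI : Algebra.FinitePresentation k B := Algebra.FinitePresentation.of_finiteType.mp inferInstance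
  haveI : Algebra.IsSmoothAt k q := hiff.mp hx
  haveI := HopfRep.HopfDim.isRegularLocalRing_of_isSmoothAt (k := k) q
  exact IsRegularLocalRing.of_ringEquiv e

theorem mem_smoothLocus_iff_regular [PerfectField k] (x : X) :
    x ∈ f.smoothLocus ↔ IsRegularLocalRing (X.presheaf.stalk x) := by
  refine ⟨isRegular_of_mem_smoothLocus f, fun h => ?_⟩
  obtain ⟨B, _, _, _, q, _, ⟨e⟩, hiff⟩ := exists_algebra f x
  exact hiff.mpr ((RegSmooth.isSmoothAt_iff_regular_of_perfect q).mpr (IsRegularLocalRing.of_ringEquiv e.symm))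

end Groth.Agent.FibreDepth.RegSmoothScheme
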