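import Mathlib
import Groth.Prelude.Def_FDesc
import Groth.Prelude.Def_CAlg
import Groth.Agent.FibreDepth.RegSmoothScheme
import Groth.Agent.FibreDepth.Sets
import Groth.Agent.FibreDepth.Gen
import Groth.Agent.FibreDepth.GenDim
import Groth.Agent.Locus.BaseChange

/-! The geometric condition (R_n) at a point of a scheme over a field. -/

set_option autoImplicit false
set_option backward.isDefEq.respectTransparency false
set_option linter.style.haveILetI false
universe u

open CategoryTheory CategoryTheory.Limits AlgebraicGeometry IsLocalRing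

namespace Groth.Agent.FibreDepth.GeomPointwise
open Gen

theorem exists_locEquiv {Z : Scheme.{u}} (x : Z) (p : PrimeSpectrum (Z.presheaf.stalk x)) :
    Nonempty (Localization.AtPrime p.asIdeal ≃+* Z.presheaf.stalk (gen x p)) := by
  obtain ⟨V, hV, hxV, -⟩ := exists_isAffineOpen_mem_and_subset (X := Z) (U := ⊤) (x := x) trivial
  have hzV : gen x p ∈ V := (gen_specializes x p).mem_open V.isOpen hxV
  let z : V := ⟨gen x p, hzV⟩
  let Q := PrimeSpectrum.comap (Z.presheaf.germ V x hxV).hom p
  have hQ : hV.primeIdealOf z = Q :=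
    hV.fromSpec.isOpenEmbedding.injective ((hV.fromSpec_primeIdealOf z).trans (gen_eq hV x hxV p))
  letI := TopCat.Presheaf.algebra_section_stalk Z.presheaf (⟨x, hxV⟩ : V)
  haveI : IsLocalization.AtPrime (Z.presheaf.stalk x) (hV.primeIdealOf ⟨x, hxV⟩).asIdeal :=
    hV.isLocalization_stalk ⟨x, hxV⟩
  letI := TopCat.Presheaf.algebra_section_stalk Z.presheaf z
  haveI : IsLocalization.AtPrime (Z.presheaf.stalk z.1) Q.asIdeal := hQ ▸ hV.isLocalization_stalk z
  haveI : IsLocalization.AtPrime (Localization.AtPrime p.asIdeal) Q.asIdeal :=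
    IsLocalization.isLocalization_isLocalization_atPrime_isLocalization
      (M := (hV.primeIdealOf ⟨x, hxV⟩).asIdeal.primeCompl) (Localization.AtPrime p.asIdeal) p.asIdeal
  exact ⟨(IsLocalization.algEquiv Q.asIdeal.primeCompl (Localization.AtPrime p.asIdeal)
    (Z.presheaf.stalk z.1)).toRingEquiv⟩

theorem height_eq_dim_stalk {Z : Scheme.{u}} (x : Z) (p : PrimeSpectrum (Z.presheaf.stalk x)) :
    ((p.asIdeal.height : ℕ∞) : WithBot ℕ∞) = ringKrullDim (Z.presheaf.stalk (gen x p)) := by
  obtain ⟨e⟩ := exists_locEquiv x p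
  rw [← ringKrullDim_eq_of_ringEquiv e, IsLocalization.AtPrime.ringKrullDim_eq_height p.asIdeal]

theorem hasRk_iff {Z : Scheme.{u}} (n : ℕ) (x : Z) :
    LocCoh.HasRk n (Z.presheaf.stalk x) ↔
      ∀ p : PrimeSpectrum (Z.presheaf.stalk x), p.asIdeal.height ≤ n →
        IsRegularLocalRing (Z.presheaf.stalk (gen x p)) := by
  refine ⟨fun h p hp => ?_, fun h p hp hh => ?_⟩
  · obtain ⟨e⟩ := exists_locEquiv x p
    haveI := h p.asIdeal hp
    exact IsRegularLocalRing.of_ringEquiv e
  · obtain ⟨e⟩ := exists_locEquiv x ⟨p, hp⟩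
    haveI := h ⟨p, hp⟩ hh
    exact IsRegularLocalRing.of_ringEquiv e.symm

/-- A flat morphism maps generizations to generizations without increasing the height. -/
theorem gen_map {Z' Z : Scheme.{u}} (π : Z' ⟶ Z) (x' : Z') (p' : PrimeSpectrum (Z'.presheaf.stalk x')) :
    π (gen x' p') = gen (π x') (PrimeSpectrum.comap (π.stalkMap x').hom p') := by
  show (Z'.fromSpecStalk x' ≫ π) p' = _
  rw [← Scheme.SpecMap_stalkMap_fromSpecStalk]
  rfl

section field

variable {k : Type u} [Field k] {Z : Scheme.{u}} (g : Z ⟶ Spec (CommRingCat.of k))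

instance lfp_bcStr [LocallyOfFinitePresentation g] (K : Type u) [Field K] [Algebra k K] :
    LocallyOfFinitePresentation (FBase.bcStr g K) :=
  MorphismProperty.pullback_snd (P := @LocallyOfFinitePresentation) _ _ inferInstance

instance flat_SpecMap (K : Type u) [Field K] [Algebra k K] :
    AlgebraicGeometry.Flat (Spec.map (CommRingCat.ofHom (algebraMap k K))) :=
  (HasRingHomProperty.Spec_iff (P := @AlgebraicGeometry.Flat)).mpr (RingHom.flat_algebraMap_iff.mpr inferInstance)

instance surj_SpecMap (K : Type u) [Field K] [Algebra k K] :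
    Surjective (Spec.map (CommRingCat.ofHom (algebraMap k K))) :=
  ⟨fun y => ⟨IsLocalRing.closedPoint K, (Subsingleton.elim (α := PrimeSpectrum k) _ _)⟩⟩

instance flat_bcπ (K : Type u) [Field K] [Algebra k K] : AlgebraicGeometry.Flat (FBase.bcπ g K) :=
  MorphismProperty.pullback_fst (P := @AlgebraicGeometry.Flat) _ _ (flat_SpecMap K)

instance surj_bcπ (K : Type u) [Field K] [Algebra k K] : Surjective (FBase.bcπ g K) :=
  MorphismProperty.pullback_fst (P := @Surjective) _ _ (surj_SpecMap K)

theorem smooth_iff [LocallyOfFinitePresentation g] (K : Type u) [Field K] [Algebra k K] (x' : ↥(FBase.bc g K)) :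
    x' ∈ (FBase.bcStr g K).smoothLocus ↔ FBase.bcπ g K x' ∈ g.smoothLocus :=
  have h : IsPullback (FBase.bcπ g K) (FBase.bcStr g K) g (Spec.map (CommRingCat.ofHom (algebraMap k K))) :=
    IsPullback.of_hasPullback _ _
  ⟨fun hx => Locus.Basic.mem_smoothLocus_of_isPullback h hx, fun hx => Locus.BaseChange.mem_smoothLocus_forward h hx⟩

theorem isNoetherianRing_stalk [LocallyOfFinitePresentation g] (x : Z) : IsNoetherianRing (Z.presheaf.stalk x) := by
  haveI := LocallyOfFiniteType.isLocallyNoetherian g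
  infer_instance

/-- Geometric (R_n) at a point: all generizations of codimension at most `n` are smooth. -/
theorem geomRk_iff [LocallyOfFinitePresentation g] (n : ℕ) (x : Z) :
    (∀ (K : Type u) [Field K] [Algebra k K] (x' : ↥(FBase.bc g K)), (FBase.bcπ g K).base x' = x →
        LocCoh.HasRk n ((FBase.bc g K).presheaf.stalk x')) ↔
      ∀ p : PrimeSpectrum (Z.presheaf.stalk x), p.asIdeal.height ≤ n → gen x p ∈ g.smoothLocus := by
  have hflat : ∀ (K : Type u) [Field K] [Algebra k K] (x' : ↥(FBase.bc g K)),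
      ((FBase.bcπ g K).stalkMap x').hom.Flat ∧ IsLocalHom ((FBase.bcπ g K).stalkMap x').hom :=
    fun K _ _ x' => ⟨AlgebraicGeometry.Flat.stalkMap _ x', inferInstance⟩
  constructor
  · intro h p hp
    let K := AlgebraicClosure k
    obtain ⟨x', rfl⟩ := (FBase.bcπ g K).surjective x
    haveI := isNoetherianRing_stalk g (FBase.bcπ g K x')
    haveI := isNoetherianRing_stalk (FBase.bcStr g K) x'
    obtain ⟨p', hp', hh⟩ := Sets.lift_aux _ (hflat K x').2 (hflat K x').1 p
    haveI := (hasRk_iff n x').mp (h K x' rfl) p' (hh.le.trans hp)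
    have hs : gen x' p' ∈ (FBase.bcStr g K).smoothLocus :=
      (RegSmoothScheme.mem_smoothLocus_iff_regular (FBase.bcStr g K) _).mpr inferInstance
    rw [smooth_iff, gen_map, hp'] at hs
    exact hs
  · rintro h K _ _ x' rfl
    refine (hasRk_iff n x').mpr fun p' hp' => RegSmoothScheme.isRegular_of_mem_smoothLocus (FBase.bcStr g K) ?_
    rw [smooth_iff, gen_map]
    refine h _ (le_trans ?_ hp')
    haveI := isNoetherianRing_stalk g (FBase.bcπ g K x')
    haveI := isNoetherianRing_stalk (FBase.bcStr g K) x'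
    let a := PrimeSpectrum.comap ((FBase.bcπ g K).stalkMap x').hom p'
    letI : Algebra (Z.presheaf.stalk (FBase.bcπ g K x')) ((FBase.bc g K).presheaf.stalk x') :=
      ((FBase.bcπ g K).stalkMap x').hom.toAlgebra
    haveI : Module.Flat (Z.presheaf.stalk (FBase.bcπ g K x')) ((FBase.bc g K).presheaf.stalk x') := (hflat K x').1
    haveI : p'.asIdeal.LiesOver a.asIdeal := ⟨rfl⟩
    rw [Ideal.height_eq_height_add_of_liesOver_of_hasGoingDown a.asIdeal p'.asIdeal]
    exact le_self_add

theorem exists_cd [LocallyOfFinitePresentation g] (z : Z) :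
    ∃ e : ℕ∞, topologicalKrullDim ↥(closure ({z} : Set Z)) = (e : WithBot ℕ∞) ∧ e ≠ ⊤ := by
  obtain ⟨V, hV, hzV, -⟩ := exists_isAffineOpen_mem_and_subset (X := Z) (U := ⊤) (x := z) trivial
  obtain ⟨_, hfin⟩ := finiteType_sections (K := k) g hV
  obtain ⟨n, π, hπ⟩ := Algebra.FiniteType.iff_quotient_mvPolynomial''.mp hfin
  refine ⟨Order.coheight (hV.primeIdealOf ⟨z, hzV⟩), ?_, fun htop => ?_⟩
  · rw [← closure_dim g hV, hV.fromSpec_primeIdealOf]
  · have h1 := Order.coheight_le_krullDim (hV.primeIdealOf ⟨z, hzV⟩)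
    have h2 := ringKrullDim_le_of_surjective π.toRingHom hπ
    rw [MvPolynomial.ringKrullDim_of_isNoetherianRing, ringKrullDim_eq_zero_of_field, zero_add] at h2
    have h3 := h1.trans h2
    rw [htop] at h3
    exact ENat.natCast_ne_top (Nat.card (Fin n)) (top_le_iff.mp (WithBot.coe_le_coe.mp h3))

/-- The codimension of a generization, by dimensions of closures. -/
theorem dim_stalk_le_iff [LocallyOfFinitePresentation g] (z : Z) (n : ℕ) :
    ringKrullDim (Z.presheaf.stalk z) ≤ (n : ℕ) ↔ ∀ v, v ⤳ z →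
      topologicalKrullDim ↥(closure ({v} : Set Z)) ≤ (n : WithBot ℕ∞) + topologicalKrullDim ↥(closure ({z} : Set Z)) := by
  have hadd := coheight_add (K := k) g z
  obtain ⟨e, he⟩ : ∃ e : ℕ∞, topologicalKrullDim ↥(closure ({z} : Set Z)) = (e : WithBot ℕ∞) ∧ e ≠ ⊤ := by
    exact exists_cd g z
  rw [ringKrullDim, Order.krullDim_eq_iSup_coheight]
  constructor
  · intro h v hv
    obtain ⟨p, rfl⟩ := (range_gen z v).mpr hv
    rw [← hadd p]
    gcongr
    exact (le_iSup (fun q : PrimeSpectrum (Z.presheaf.stalk z) => ((Order.coheight q : ℕ∞) : WithBot ℕ∞)) p).trans h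
  · intro h
    refine iSup_le fun p => ?_
    have h1 := h _ (gen_specializes z p)
    rw [← hadd p, he.1, show (n : WithBot ℕ∞) = ((n : ℕ∞) : WithBot ℕ∞) from rfl, ← WithBot.coe_add,
      ← WithBot.coe_add, WithBot.coe_le_coe] at h1
    exact WithBot.coe_le_coe.mpr ((ENat.addLECancellable_of_ne_top he.2).add_le_add_iff_right.mp h1)

end field

end Groth.Agent.FibreDepth.GeomPointwise
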