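import Mathlib
import Groth.Agent.FibreDepth.AlgStrata

/-! Local constructibility of point properties stable under base change. -/

set_option autoImplicit false
set_option backward.isDefEq.respectTransparency false
set_option linter.style.haveILetI false
universe u
open CategoryTheory CategoryTheory.Limits AlgebraicGeometry TopologicalSpace Topology
open scoped TensorProduct

namespace Groth.Agent.FibreDepth.SchemeStrata

theorem lfp_SpecMap (R A : Type u) [CommRing R] [CommRing A] [Algebra R A] [Algebra.FinitePresentation R A] :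
    LocallyOfFinitePresentation (Spec.map (CommRingCat.ofHom (algebraMap R A))) :=
  (HasRingHomProperty.Spec_iff (P := @LocallyOfFinitePresentation)).mpr
    (RingHom.finitePresentation_algebraMap.mpr ‹_›)

variable {Q : ∀ {X S : Scheme.{u}}, (X ⟶ S) → X → Prop}
  (hbc : ∀ {X' X S' S : Scheme.{u}} {g' : X' ⟶ X} {f' : X' ⟶ S'} {f : X ⟶ S} {g : S' ⟶ S}
    [LocallyOfFinitePresentation f] (_ : IsPullback g' f' f g) (x' : X'), Q f' x' ↔ Q f (g' x'))
  (hopen : ∀ {U X S : Scheme.{u}} (j : U ⟶ X) [IsOpenImmersion j] (f : X ⟶ S) [LocallyOfFinitePresentation f] (w : U),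
    Q (j ≫ f) w ↔ Q f (j w))
  (hflat : ∀ (R A : Type u) [CommRing R] [IsNoetherianRing R] [CommRing A] [Algebra R A]
    [Algebra.FinitePresentation R A] [Module.Flat R A],
    IsConstructible {q : PrimeSpectrum A | Q (Spec.map (CommRingCat.ofHom (algebraMap R A))) q})

include hbc hopen hflat

theorem affine (R A : Type u) [CommRing R] [CommRing A] [Algebra R A] [Algebra.FinitePresentation R A] :
    IsConstructible {q : PrimeSpectrum A | Q (Spec.map (CommRingCat.ofHom (algebraMap R A))) q} := by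
  refine AlgStrata.isConstructible
    (W := fun R A _ _ _ => {q : PrimeSpectrum A | Q (Spec.map (CommRingCat.ofHom (algebraMap R A))) q})
    (fun R R' A _ _ _ _ _ _ => Set.ext fun q => ?_) (fun R A B _ _ _ _ _ _ e => Set.ext fun q => ?_) hflat R A
  · haveI := lfp_SpecMap R A
    exact (hbc (f := Spec.map (CommRingCat.ofHom (algebraMap R A)))
      (isPullback_SpecMap_of_isPushout _ _ _ _ (CommRingCat.isPushout_tensorProduct R R' A).flip) q).symm
  · let j := Spec.map (CommRingCat.ofHom e.toAlgHom.toRingHom)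
    haveI : IsIso (CommRingCat.ofHom e.toAlgHom.toRingHom) :=
      (e.toRingEquiv.toCommRingCatIso).isIso_hom
    have hb : Q (Spec.map (CommRingCat.ofHom (algebraMap R B))) q ↔ Q (Spec.map (CommRingCat.ofHom (algebraMap R A))) (j q) := by
      have hcomp : Spec.map (CommRingCat.ofHom (algebraMap R B)) = j ≫ Spec.map (CommRingCat.ofHom (algebraMap R A)) := by
        rw [← Spec.map_comp]
        congr 1
        ext r
        exact (e.commutes r).symm
      have sq : IsPullback j (Spec.map (CommRingCat.ofHom (algebraMap R B)))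
          (Spec.map (CommRingCat.ofHom (algebraMap R A))) (𝟙 _) :=
        IsPullback.of_horiz_isIso ⟨by rw [hcomp, Category.comp_id]⟩
      haveI := lfp_SpecMap R A
      exact hbc sq q
    exact hb.symm

theorem isLC {X S : Scheme.{u}} (f : X ⟶ S) [LocallyOfFinitePresentation f] :
    IsLocallyConstructible {x : X | Q f x} := fun x => by
  obtain ⟨U₀, hU₀, hyU₀, -⟩ := exists_isAffineOpen_mem_and_subset (X := S) (U := ⊤) (x := f x) trivial
  obtain ⟨V, hV, hxV, hVU⟩ := exists_isAffineOpen_mem_and_subset (X := X) (U := f ⁻¹ᵁ U₀) (x := x) hyU₀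
  letI : Algebra Γ(S, U₀) Γ(X, V) := (f.appLE U₀ V hVU).hom.toAlgebra
  haveI : Algebra.FinitePresentation Γ(S, U₀) Γ(X, V) := f.finitePresentation_appLE hU₀ hV hVU
  have hA := affine hbc hopen hflat Γ(S, U₀) Γ(X, V)
  refine ⟨(V : Set X), V.isOpen.mem_nhds hxV, V.isOpen, ?_⟩
  let g : ↥(V : Scheme.{u}) → PrimeSpectrum Γ(X, V) := fun w => hV.isoSpec.hom w
  have hg : IsOpenEmbedding g := hV.isoSpec.hom.homeomorph.isOpenEmbedding
  have hgQ : ∀ w : ↥(V : Scheme.{u}), hV.fromSpec (g w) = w.1 := fun w => by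
    show (hV.isoSpec.hom ≫ hV.fromSpec) w = _
    rw [IsAffineOpen.isoSpec_hom_fromSpec]
    rfl
  let φ := Spec.map (f.appLE U₀ V hVU)
  haveI : LocallyOfFinitePresentation φ := lfp_SpecMap Γ(S, U₀) Γ(X, V)
  have hw : φ ≫ hU₀.fromSpec = hV.fromSpec ≫ f := hU₀.SpecMap_appLE_fromSpec f hV hVU
  have key : ∀ q : PrimeSpectrum Γ(X, V), Q φ q ↔ Q f (hV.fromSpec q) := fun q => by
    have sq : IsPullback (𝟙 _) φ (φ ≫ hU₀.fromSpec) hU₀.fromSpec :=
      IsPullback.of_horiz_isIso_mono ⟨Category.id_comp _⟩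
    refine (hbc sq q).trans ?_
    simp only [hw]
    exact hopen hV.fromSpec f q
  have hset : (fun w : ↥(V : Scheme.{u}) => w.1) ⁻¹' {x : X | Q f x} =
      g ⁻¹' {q : PrimeSpectrum Γ(X, V) | Q φ q} := Set.ext fun w => by
    show Q f w.1 ↔ Q φ (g w)
    rw [key, hgQ]
  exact (congrArg IsConstructible hset).mpr (hA.preimage_of_isOpenEmbedding hg)

end Groth.Agent.FibreDepth.SchemeStrata
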