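import Mathlib
import Groth.Agent.FibreDepth.SchemeStrata
import Groth.Agent.FibreDepth.Fibre
import Groth.Agent.Flat.FibreAt
import Groth.Agent.Locus.BaseChange

/-! Constructibility of the smooth locus of the fibres. -/

set_option autoImplicit false
set_option backward.isDefEq.respectTransparency false
set_option linter.style.haveILetI false
universe u
open CategoryTheory CategoryTheory.Limits AlgebraicGeometry TopologicalSpace Topology

namespace Groth.Agent.FibreDepth.SmoothFibre

/-- the fibre through `x` is smooth at `x` -/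
def Sm {X S : Scheme.{u}} (f : X ⟶ S) (x : X) : Prop :=
  ((f.fiberToSpecResidueField (f.base x)).stalkMap (f.asFiber x)).hom.FormallySmooth

theorem iff_fibre {X S : Scheme.{u}} (f : X ⟶ S) (y : S) (w : ↥(f.fiber y)) :
    ((f.fiberToSpecResidueField y).stalkMap w).hom.FormallySmooth ↔ Sm f (f.fiberι y w) :=
  Fibre.fiber_iff f (P := fun y w => ((f.fiberToSpecResidueField y).stalkMap w).hom.FormallySmooth) y w

/-- Smoothness of the fibre is seen on any base change to a field. -/
theorem iff_of_field {K : Type u} [Field K] {X X' S : Scheme.{u}} {g' : X' ⟶ X} {f' : X' ⟶ Spec (.of K)}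
    {f : X ⟶ S} {g : Spec (.of K) ⟶ S} [LocallyOfFinitePresentation f] (h : IsPullback g' f' f g) (x' : X') :
    (f'.stalkMap x').hom.FormallySmooth ↔ Sm f (g' x') := by
  let t := g (IsLocalRing.closedPoint K)
  let ψ := Scheme.descResidueField (Scheme.stalkClosedPointTo g)
  let γ := Spec.map ψ
  have hγ : γ ≫ S.fromSpecResidueField t = g :=
    Scheme.descResidueField_stalkClosedPointTo_fromSpecResidueField K S g
  have ht : IsPullback (f.fiberι t) (f.fiberToSpecResidueField t) f (S.fromSpecResidueField t) :=
    IsPullback.of_hasPullback _ _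
  have hw : g' ≫ f = (f' ≫ γ) ≫ S.fromSpecResidueField t := by rw [Category.assoc, hγ]; exact h.w
  let m := ht.lift g' (f' ≫ γ) hw
  have hm : IsPullback m f' (f.fiberToSpecResidueField t) γ := by
    refine IsPullback.of_right ?_ (ht.lift_snd _ _ _) ht
    rw [ht.lift_fst, hγ]
    exact h
  haveI : LocallyOfFinitePresentation (f.fiberToSpecResidueField t) :=
    MorphismProperty.pullback_snd (P := @LocallyOfFinitePresentation) _ _ inferInstance
  haveI : LocallyOfFinitePresentation f' := MorphismProperty.of_isPullback h inferInstance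
  haveI : AlgebraicGeometry.Flat γ := by
    letI : Algebra (S.residueField t) K := ψ.hom.toAlgebra
    refine (HasRingHomProperty.Spec_iff (P := @AlgebraicGeometry.Flat)).mpr ?_
    show Module.Flat (S.residueField t) K
    infer_instance
  have hpt : f.fiberι t (m x') = g' x' := by
    rw [← Scheme.Hom.comp_apply, ht.lift_fst]
  rw [← hpt, ← iff_fibre f t (m x')]
  exact ⟨fun hx => Locus.Basic.mem_smoothLocus_of_isPullback hm hx,
    fun hx => Locus.BaseChange.mem_smoothLocus_forward hm hx⟩

theorem bc {X' X S' S : Scheme.{u}} {g' : X' ⟶ X} {f' : X' ⟶ S'} {f : X ⟶ S} {g : S' ⟶ S}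
    [LocallyOfFinitePresentation f] (h : IsPullback g' f' f g) (x' : X') : Sm f' x' ↔ Sm f (g' x') := by
  have ht : IsPullback (f'.fiberι (f' x')) (f'.fiberToSpecResidueField (f' x')) f'
      (S'.fromSpecResidueField (f' x')) := IsPullback.of_hasPullback _ _
  refine (iff_of_field (ht.paste_horiz h) (f'.asFiber x')).trans ?_
  rw [Scheme.Hom.comp_apply, Scheme.Hom.fiberι_asFiber]

theorem openImm {U X S : Scheme.{u}} (j : U ⟶ X) [IsOpenImmersion j] (f : X ⟶ S) [LocallyOfFinitePresentation f]
    (w : U) : Sm (j ≫ f) w ↔ Sm f (j w) := by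
  let t := f (j w)
  let jt := MoreMor.fiberMap j f t
  haveI : IsOpenImmersion jt := MorphismProperty.of_isPullback (Flat.FibreAt.isPullback_fiberMap j f t) inferInstance
  let a : (j ≫ f).fiber t := (j ≫ f).asFiber w
  have ha : f.fiberι t (jt a) = j w := by
    show (jt ≫ f.fiberι t) a = _
    rw [show jt ≫ f.fiberι t = (j ≫ f).fiberι t ≫ j from pullback.lift_fst _ _ _]
    exact congrArg j ((j ≫ f).fiberι_asFiber w)
  haveI : LocallyOfFinitePresentation (f.fiberToSpecResidueField t) :=
    MorphismProperty.pullback_snd (P := @LocallyOfFinitePresentation) _ _ inferInstance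
  rw [← ha, ← iff_fibre f t (jt a)]
  have hcomp : jt ≫ f.fiberToSpecResidueField t = (j ≫ f).fiberToSpecResidueField t := pullback.lift_snd _ _ _
  show ((( j ≫ f).fiberToSpecResidueField t).stalkMap a).hom.FormallySmooth ↔ _
  rw [← hcomp, Scheme.Hom.stalkMap_comp, CommRingCat.hom_comp]
  exact RingHom.FormallySmooth.respectsIso.cancel_right_isIso _ (jt.stalkMap a)

theorem iff_of_flat {X S : Scheme.{u}} (f : X ⟶ S) [LocallyOfFinitePresentation f] [AlgebraicGeometry.Flat f] (x : X) :
    Sm f x ↔ x ∈ f.smoothLocus := by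
  have ht : IsPullback (f.fiberι (f x)) (f.fiberToSpecResidueField (f x)) f (S.fromSpecResidueField (f x)) :=
    IsPullback.of_hasPullback _ _
  haveI : LocallyOfFinitePresentation (f.fiberToSpecResidueField (f x)) :=
    MorphismProperty.pullback_snd (P := @LocallyOfFinitePresentation) _ _ inferInstance
  refine ⟨fun h => ?_, fun h => Locus.BaseChange.mem_smoothLocus_forward ht (by rwa [Scheme.Hom.fiberι_asFiber])⟩
  have := Locus.BaseChange.mem_smoothLocus_of_flat_stalkMap ht (AlgebraicGeometry.Flat.stalkMap f _) h
  rwa [Scheme.Hom.fiberι_asFiber] at this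

theorem flat_case (R A : Type u) [CommRing R] [IsNoetherianRing R] [CommRing A] [Algebra R A]
    [Algebra.FinitePresentation R A] [Module.Flat R A] :
    IsConstructible {q : PrimeSpectrum A | Sm (Spec.map (CommRingCat.ofHom (algebraMap R A))) q} := by
  let f := Spec.map (CommRingCat.ofHom (algebraMap R A))
  haveI : LocallyOfFinitePresentation f := SchemeStrata.lfp_SpecMap R A
  haveI : AlgebraicGeometry.Flat f :=
    (HasRingHomProperty.Spec_iff (P := @AlgebraicGeometry.Flat)).mpr (RingHom.flat_algebraMap_iff.mpr inferInstance)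
  haveI : IsNoetherianRing A := Algebra.FiniteType.isNoetherianRing R A
  let U : Set (PrimeSpectrum A) := (f.smoothLocus : Set (Spec (CommRingCat.of A)))
  have hU : IsOpen U := f.smoothLocus.isOpen
  have h : IsConstructible U := (NoetherianSpace.isCompact _).isConstructible hU
  exact (congrArg IsConstructible (Set.ext fun q => iff_of_flat f q)).mpr h

theorem isLC {X S : Scheme.{u}} (f : X ⟶ S) [LocallyOfFinitePresentation f] :
    IsLocallyConstructible {x : X | Sm f x} :=
  SchemeStrata.isLC (Q := fun f x => Sm f x) (fun h x => bc h x) (fun j _ f _ w => openImm j f w) flat_case f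

end Groth.Agent.FibreDepth.SmoothFibre
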