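import Mathlib
import Groth.Agent.FibreDepth.SmoothFibre
import Groth.Agent.FibreDepth.ConstrStatements
import Groth.Agent.FibreDepth.EClosure
import Groth.Agent.FibreDepth.GeomPointwise
import Groth.Agent.FibreDepth.Unit

/-! Constructibility of the loci of the geometric conditions (R_k) on the fibres. -/

set_option autoImplicit false
set_option backward.isDefEq.respectTransparency false
set_option linter.style.haveILetI false
universe u
open CategoryTheory AlgebraicGeometry TopologicalSpace Topology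
open scoped TensorProduct

namespace Groth.Agent.FibreDepth.GeomLocus
open Gen Fibre Constr SmoothFibre

variable {X Y : Scheme.{u}} (f : X ⟶ Y)

/-- some nonsmooth point of the fibre of codimension at most `k` generizes `x` -/
def Bad (k : ℕ) (x : X) : Prop :=
  ∃ z, f.base z = f.base x ∧ z ⤳ x ∧ ¬ Sm f z ∧
    ∀ v, f.base v = f.base z → v ⤳ z → cd f v ≤ (k : WithBot ℕ∞) + cd f z

/-- nonsmooth points lying only on components of dimension at most `d`, and on one of dimension `d` -/
def Nd (d : ℕ) : Set X := {z | ¬ Sm f z} ∩ (E f Set.univ d \ E f Set.univ (d + 1))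

variable [LocallyOfFinitePresentation f]

theorem bad_iff (k : ℕ) (x : X) : Bad f k x ↔ ∃ d, x ∈ E f (Nd f d) (d - k) := by
  constructor
  · rintro ⟨z, hzf, hzx, hns, hk⟩
    obtain ⟨V, n, hzV, hb⟩ := exists_bound f z
    obtain ⟨e, -, he⟩ := hb z hzV
    have hmem : z ∈ E f Set.univ e := ⟨z, trivial, rfl, specializes_rfl, he.ge⟩
    have hlt : ∀ d, z ∈ E f Set.univ d → d ≤ n := fun d ⟨v, _, _, hvz, hd⟩ => by
      obtain ⟨i, hi, hv⟩ := hb v (hvz.mem_open V.isOpen hzV)
      rw [hv] at hd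
      exact le_trans (by exact_mod_cast hd) hi
    classical
    let d := Nat.findGreatest (fun d => z ∈ E f Set.univ d) n
    have hd : z ∈ E f Set.univ d := Nat.findGreatest_spec (P := fun d => z ∈ E f Set.univ d) (hlt e hmem) hmem
    refine ⟨d, z, ⟨hns, hd, fun h => ?_⟩, hzf, hzx, ?_⟩
    · exact Nat.not_succ_le_self d (Nat.le_findGreatest (hlt _ h) h)
    · obtain ⟨v, -, hvf, hvz, hdv⟩ := hd
      have := hdv.trans (hk v hvf hvz)
      rw [he] at this ⊢
      have h' : d ≤ k + e := by exact_mod_cast this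
      exact_mod_cast (by omega : d - k ≤ e)
  · rintro ⟨d, z, ⟨hns, -, hd⟩, hzf, hzx, hk⟩
    refine ⟨z, hzf, hzx, hns, fun v hvf hvz => ?_⟩
    obtain ⟨i, hi⟩ := exists_cd f v
    obtain ⟨e, he⟩ := exists_cd f z
    rw [he] at hk ⊢
    rw [hi]
    have h1 : ¬ (d + 1 ≤ i) := fun h => hd ⟨v, trivial, hvf, hvz, by rw [hi]; exact_mod_cast h⟩
    have h2 : d - k ≤ e := by exact_mod_cast hk
    exact_mod_cast (by omega : i ≤ k + e)

section chart

variable {F : X.Modules} {A : Type u} [CommRing A] {n : ℕ} {M : Type u} [AddCommGroup M]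
  [Module (MvPolynomial (Fin n) A) M]
  {V : X.Opens} {φ : ↥(V : Scheme.{u}) → PrimeSpectrum (MvPolynomial (Fin n) A)} (hc : IsChart f F A n M V φ)
include hc

omit [LocallyOfFinitePresentation f] in
theorem φ_injective : Function.Injective φ := fun z w h =>
  Subtype.ext (((hc.le_iff z w).mp h.le).antisymm ((hc.le_iff w z).mp h.ge)).eq

omit [LocallyOfFinitePresentation f] in
theorem mem_E_iff' {S : Set X} {W : Set (PrimeSpectrum (MvPolynomial (Fin n) A))}
    (hS : ∀ w, w.1 ∈ S ↔ φ w ∈ W) (hW : W ⊆ Set.range φ) (m : ℕ) (w : ↥(V : Scheme.{u})) :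
    w.1 ∈ E f S m ↔ φ w ∈ Sets.E A W m := by
  constructor
  · rintro ⟨z, hz, hzf, hzw, hm⟩
    let z' : ↥(V : Scheme.{u}) := ⟨z, hzw.mem_open V.isOpen w.2⟩
    exact ⟨φ z', (hS z').mp hz, (hc.le_iff z' w).mpr hzw, (hc.below_iff z' w).mpr hzf, hc.cd_eq z' ▸ hm⟩
  · rintro ⟨η, hη, hle, hb, hm⟩
    obtain ⟨z, rfl⟩ := hW hη
    exact ⟨z.1, (hS z).mpr hη, (hc.below_iff z w).mp hb, (hc.le_iff z w).mp hle, (hc.cd_eq z).symm ▸ hm⟩

omit [LocallyOfFinitePresentation f] in
theorem mem_image_iff (S : Set X) (w : ↥(V : Scheme.{u})) :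
    w.1 ∈ S ↔ φ w ∈ φ '' ((fun w : ↥(V : Scheme.{u}) => w.1) ⁻¹' S) :=
  Iff.symm (Function.Injective.mem_set_image (φ_injective f hc) (s := (fun w : ↥(V : Scheme.{u}) => w.1) ⁻¹' S) (a := w))

end chart

theorem lc_bad (k : ℕ) : IsLocallyConstructible {x : X | Bad f k x} := by
  refine Constr.isLC (f := f) (Unit.isFP_unit X) _ fun A _ m M _ _ _ V φ hc => ?_
  let U := φ '' ((fun w : ↥(V : Scheme.{u}) => w.1) ⁻¹' Set.univ)
  have hU : IsConstructible U := hc.constr_image _ (fun x => ⟨Set.univ, Filter.univ_mem, isOpen_univ, by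
    rw [Set.preimage_univ]; exact IsConstructible.univ⟩)
  have hns : IsConstructible (φ '' ((fun w : ↥(V : Scheme.{u}) => w.1) ⁻¹' {z | ¬ Sm f z})) :=
    hc.constr_image _ (ConstrStatements.lc_compl (SmoothFibre.isLC f))
  have hE : ∀ d (w : ↥(V : Scheme.{u})), w.1 ∈ E f Set.univ d ↔ φ w ∈ Sets.E A U d :=
    mem_E_iff' f hc (mem_image_iff f hc Set.univ) (Set.image_subset_range _ _)
  let W : ℕ → Set (PrimeSpectrum (MvPolynomial (Fin m) A)) := fun d =>
    φ '' ((fun w : ↥(V : Scheme.{u}) => w.1) ⁻¹' {z | ¬ Sm f z}) ∩ (Sets.E A U d \ Sets.E A U (d + 1))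
  have hW : ∀ d, IsConstructible (W d) := fun d =>
    hns.inter ((EClosure.isConstructible_E hU d).sdiff (EClosure.isConstructible_E hU (d + 1)))
  have hN : ∀ d (w : ↥(V : Scheme.{u})), w.1 ∈ Nd f d ↔ φ w ∈ W d := fun d w =>
    and_congr (mem_image_iff f hc _ w) (and_congr (hE d w) (not_congr (hE (d + 1) w)))
  refine ⟨⋃ d ∈ Set.Iic m, Sets.E A (W d) (d - k),
    IsConstructible.biUnion (Set.finite_Iic m) fun d _ => EClosure.isConstructible_E (hW d) _, fun w => ?_⟩
  rw [Set.mem_setOf_eq, bad_iff]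
  simp only [Set.mem_iUnion, Set.mem_Iic, exists_prop]
  have hiff : ∀ d, w.1 ∈ E f (Nd f d) (d - k) ↔ φ w ∈ Sets.E A (W d) (d - k) := fun d =>
    mem_E_iff' f hc (hN d) (fun _ h => Set.image_subset_range _ _ h.1) _ w
  constructor
  · rintro ⟨d, hd⟩
    refine ⟨d, ?_, (hiff d).mp hd⟩
    obtain ⟨η, hη, -⟩ := (hiff d).mp hd
    simpa using Families.le_card_of_mem_E hη.2.1
  · rintro ⟨d, -, hd⟩
    exact ⟨d, (hiff d).mpr hd⟩

theorem geomRk_iff (k : ℕ) (x : X) :
    (∀ (K : Type u) [Field K] [Algebra (IsLocalRing.ResidueField (Y.presheaf.stalk (f.base x))) K]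
        (x' : ↥(FBase.bc (f.fiberToSpecResidueField (f.base x)) K)),
        (FBase.bcπ (f.fiberToSpecResidueField (f.base x)) K).base x' = f.asFiber x →
          LocCoh.HasRk k ((FBase.bc (f.fiberToSpecResidueField (f.base x)) K).presheaf.stalk x')) ↔ ¬ Bad f k x := by
  haveI : ∀ y, LocallyOfFinitePresentation (f.fiberToSpecResidueField y) := fun y =>
    MorphismProperty.pullback_snd (P := @LocallyOfFinitePresentation) _ _ inferInstance
  refine (GeomPointwise.geomRk_iff (k := IsLocalRing.ResidueField (Y.presheaf.stalk (f.base x)))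
    (f.fiberToSpecResidueField (f.base x)) k (f.asFiber x)).trans ?_
  let P : ∀ y, ↥(f.fiber y) → Prop := fun y v =>
    (∀ u, u ⤳ v → topologicalKrullDim ↥(closure ({u} : Set ↥(f.fiber y))) ≤
      (k : WithBot ℕ∞) + topologicalKrullDim ↥(closure ({v} : Set ↥(f.fiber y)))) →
    ((f.fiberToSpecResidueField y).stalkMap v).hom.FormallySmooth
  have h1 : (∀ p : PrimeSpectrum ((f.fiber (f.base x)).presheaf.stalk (f.asFiber x)), p.asIdeal.height ≤ k →
      gen (f.asFiber x) p ∈ (f.fiberToSpecResidueField (f.base x)).smoothLocus) ↔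
      ∀ v, v ⤳ f.asFiber x → P (f.base x) v := by
    have hle : ∀ p : PrimeSpectrum ((f.fiber (f.base x)).presheaf.stalk (f.asFiber x)), p.asIdeal.height ≤ k ↔
        ∀ u, u ⤳ gen (f.asFiber x) p → topologicalKrullDim ↥(closure ({u} : Set ↥(f.fiber (f.base x)))) ≤
          (k : WithBot ℕ∞) + topologicalKrullDim ↥(closure ({gen (f.asFiber x) p} : Set ↥(f.fiber (f.base x)))) :=
      fun p => by
        rw [← GeomPointwise.dim_stalk_le_iff (k := IsLocalRing.ResidueField (Y.presheaf.stalk (f.base x)))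
          (f.fiberToSpecResidueField (f.base x)), ← GeomPointwise.height_eq_dim_stalk,
          show (k : WithBot ℕ∞) = ((k : ℕ∞) : WithBot ℕ∞) from rfl, WithBot.coe_le_coe]
    constructor
    · intro h v hv hP
      obtain ⟨p, rfl⟩ := (range_gen _ v).mpr hv
      exact h p ((hle p).mpr hP)
    · exact fun h p hp => h _ (gen_specializes _ p) ((hle p).mp hp)
  rw [h1, gen_forall f x (P := P)]
  simp only [Bad, not_exists, not_and]
  refine forall₃_congr fun z hzf hzx => ?_
  have hinner : (∀ u, u ⤳ f.asFiber z → topologicalKrullDim ↥(closure ({u} : Set ↥(f.fiber (f.base z)))) ≤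
      (k : WithBot ℕ∞) + topologicalKrullDim ↥(closure ({f.asFiber z} : Set ↥(f.fiber (f.base z))))) ↔
      ∀ v, f.base v = f.base z → v ⤳ z → cd f v ≤ (k : WithBot ℕ∞) + cd f z := by
    obtain ⟨e, he⟩ := exists_cd f z
    have hz : topologicalKrullDim ↥(closure ({f.asFiber z} : Set ↥(f.fiber (f.base z)))) = (e : ℕ) := he
    rw [hz, he]
    exact gen_forall f z (P := fun y u => topologicalKrullDim ↥(closure ({u} : Set ↥(f.fiber y))) ≤
      (k : WithBot ℕ∞) + (e : ℕ))
  show ((∀ u, _ → _) → Sm f z) ↔ _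
  rw [hinner]
  tauto

theorem lc_geomRk (k : ℕ) : IsLocallyConstructible {x : X |
      ∀ (K : Type u) [Field K] [Algebra (IsLocalRing.ResidueField (Y.presheaf.stalk (f.base x))) K]
        (x' : ↥(FBase.bc (f.fiberToSpecResidueField (f.base x)) K)),
        (FBase.bcπ (f.fiberToSpecResidueField (f.base x)) K).base x' = f.asFiber x →
          LocCoh.HasRk k ((FBase.bc (f.fiberToSpecResidueField (f.base x)) K).presheaf.stalk x')} :=
  (congrArg IsLocallyConstructible (Set.ext fun x => geomRk_iff f k x)).mpr (ConstrStatements.lc_compl (lc_bad f k))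

theorem lc_geomRk_image [QuasiCompact f] (k : ℕ) : IsLocallyConstructible {s : Y |
      ∀ (K : Type u) [Field K] [Algebra (IsLocalRing.ResidueField (Y.presheaf.stalk s)) K]
        (x' : ↥(FBase.bc (f.fiberToSpecResidueField s) K)),
        LocCoh.HasRk k ((FBase.bc (f.fiberToSpecResidueField s) K).presheaf.stalk x')} := by
  refine (congrArg IsLocallyConstructible (Set.ext fun s => ?_)).mpr
    (ConstrStatements.lc_compl (f.isLocallyConstructible_image (lc_bad f k)))
  rw [Set.mem_compl_iff, Set.mem_setOf_eq]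
  let P : ∀ y, ↥(f.fiber y) → Prop := fun y w =>
    ∀ (K : Type u) [Field K] [Algebra (IsLocalRing.ResidueField (Y.presheaf.stalk y)) K]
        (x' : ↥(FBase.bc (f.fiberToSpecResidueField y) K)),
        (FBase.bcπ (f.fiberToSpecResidueField y) K).base x' = w →
          LocCoh.HasRk k ((FBase.bc (f.fiberToSpecResidueField y) K).presheaf.stalk x')
  have h0 := fiber_forall f (P := P) s
  constructor
  · rintro h ⟨x, hx, hxs⟩
    exact (geomRk_iff f k x).mp (h0.mp (fun w K _ _ x' _ => h K x') x hxs) hx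
  · intro h K _ _ x'
    exact h0.mpr (fun x hx => (geomRk_iff f k x).mpr fun hb => h ⟨x, hb, hx⟩) _ K x' rfl

end Groth.Agent.FibreDepth.GeomLocus
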