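import Mathlib
import Groth.Agent.FibreDepth.GeomLocus
import Groth.Agent.Mor.Cancel

/-! Density, surjectivity and dominance on the fibres. -/

set_option autoImplicit false
set_option backward.isDefEq.respectTransparency false
set_option linter.style.haveILetI false
universe u
open CategoryTheory CategoryTheory.Limits AlgebraicGeometry TopologicalSpace Topology

namespace Groth.Agent.FibreDepth.DenseLocus
open Fibre Constr GeomLocus

theorem lc_univ {X : Scheme.{u}} : IsLocallyConstructible (Set.univ : Set X) :=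
  fun x => ⟨Set.univ, Filter.univ_mem, isOpen_univ, by rw [Set.preimage_univ]; exact IsConstructible.univ⟩

/-- In a scheme the closure of a locally constructible set consists of its specializations. -/
theorem mem_closure_iff {W : Scheme.{u}} {T : Set W} (hT : IsLocallyConstructible T) (x : W) :
    x ∈ closure T ↔ ∃ z ∈ T, z ⤳ x := by
  refine ⟨fun hx => ?_, fun ⟨z, hz, h⟩ => h.mem_closed isClosed_closure (subset_closure hz)⟩
  obtain ⟨V, hV, hxV, -⟩ := exists_isAffineOpen_mem_and_subset (X := W) (U := ⊤) (x := x) trivial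
  let T' : Set (PrimeSpectrum Γ(W, V)) := hV.fromSpec ⁻¹' T
  have hT' : IsConstructible T' :=
    (hT.preimage_of_isOpenEmbedding hV.fromSpec.isOpenEmbedding).isConstructible
  obtain ⟨x', rfl⟩ := hV.range_fromSpec.superset hxV
  have hx' : (x' : PrimeSpectrum Γ(W, V)) ∈ closure T' := by
    have h := hV.fromSpec.isOpenEmbedding.isOpenMap.preimage_closure_eq_closure_preimage hV.fromSpec.continuous T
    exact h.subset hx
  obtain ⟨C, _, g, hg⟩ := PrimeSpectrum.exists_range_eq_of_isConstructible hT'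
  rw [← hg, PrimeSpectrum.closure_range_comap, PrimeSpectrum.mem_zeroLocus] at hx'
  obtain ⟨p, hp, hpx⟩ := Ideal.exists_minimalPrimes_le (show RingHom.ker g ≤ (x' : PrimeSpectrum Γ(W, V)).asIdeal from hx')
  obtain ⟨q, hq, hqp⟩ := Ideal.exists_comap_eq_of_mem_minimalPrimes (f := g) (I := ⊥) p (by rwa [← RingHom.ker_eq_comap_bot])
  let z : PrimeSpectrum Γ(W, V) := PrimeSpectrum.comap g ⟨q, hq⟩
  have hz : z ∈ T' := hg ▸ ⟨_, rfl⟩
  refine ⟨hV.fromSpec z, hz, ?_⟩
  refine ((PrimeSpectrum.le_iff_specializes z x').mp ?_).map hV.fromSpec.continuous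
  show Ideal.comap g q ≤ _
  rw [hqp.2]
  exact hpx

variable {X S : Scheme.{u}} (f : X ⟶ S)

section
variable [LocallyOfFinitePresentation f]

theorem lc_E {Z : Set X} (hZ : IsLocallyConstructible Z) (m : ℕ) : IsLocallyConstructible (E f Z m) :=
  Constr.isLC (f := f) (Unit.isFP_unit X) _ fun _ _ _ _ _ _ _ _ _ hc =>
    ⟨_, EClosure.isConstructible_E (hc.constr_image _ hZ) m,
      mem_E_iff' f hc (mem_image_iff f hc Z) (Set.image_subset_range _ _) m⟩

theorem mem_closure_fibre_iff {Z : Set X} (hZ : IsLocallyConstructible Z) (x : X) :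
    x ∈ closure (Z ∩ f.base ⁻¹' {f.base x}) ↔ x ∈ E f Z 0 := by
  constructor
  · intro hx
    let j := f.fiberι (f.base x)
    have h1 : x ∈ closure (j '' (j ⁻¹' Z)) := by
      refine closure_mono ?_ hx
      rintro z ⟨hz, hzf⟩
      obtain ⟨w, rfl⟩ : z ∈ Set.range j := by rw [f.range_fiberι]; exact hzf
      exact ⟨w, hz, rfl⟩
    have h2 : f.asFiber x ∈ closure (j ⁻¹' Z) := by
      rw [j.isEmbedding.isInducing.closure_eq_preimage_closure_image, Set.mem_preimage]
      show j (f.asFiber x) ∈ _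
      rwa [Scheme.Hom.fiberι_asFiber]
    have hlc : IsLocallyConstructible (j ⁻¹' Z) := fun w => by
      obtain ⟨V, hV, hwV, -⟩ := exists_isAffineOpen_mem_and_subset (X := X) (U := ⊤) (x := j w) trivial
      refine ⟨((j ⁻¹ᵁ V : (f.fiber (f.base x)).Opens) : Set ↥(f.fiber (f.base x))), (j ⁻¹ᵁ V).isOpen.mem_nhds hwV,
        (j ⁻¹ᵁ V).isOpen, ?_⟩
      haveI : IsAffine (V : Scheme.{u}) := hV
      have hc : IsConstructible (V.ι ⁻¹' Z) :=
        (hZ.preimage_of_isOpenEmbedding V.ι.isOpenEmbedding).isConstructible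
      have hset : (Subtype.val : ↥(j ⁻¹ᵁ V) → ↥(f.fiber (f.base x))) ⁻¹' (j ⁻¹' Z) = (j ∣_ V) ⁻¹' (V.ι ⁻¹' Z) :=
        Set.ext fun v => by
          show j v.1 ∈ Z ↔ ((j ∣_ V) ≫ V.ι) v ∈ Z
          rw [morphismRestrict_ι]
          rfl
      exact (congrArg IsConstructible hset).mpr (Scheme.Hom.isConstructible_preimage (j ∣_ V) hc)
    obtain ⟨v, hv, hvx⟩ := (mem_closure_iff hlc _).mp h2
    refine ⟨j v, hv, (f.range_fiberι _).subset ⟨v, rfl⟩, ?_, ?_⟩
    · have := hvx.map j.continuous
      rwa [Scheme.Hom.fiberι_asFiber] at this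
    · obtain ⟨e, he⟩ := exists_cd f (j v)
      rw [he]
      exact_mod_cast Nat.zero_le e
  · rintro ⟨z, hz, hzf, hzx, -⟩
    exact hzx.mem_closed isClosed_closure (subset_closure ⟨hz, hzf⟩)

theorem lc_dense [QuasiCompact f] (Z Z' : Set X) (hZ : IsLocallyConstructible Z) (hZ' : IsLocallyConstructible Z') :
    IsLocallyConstructible {s : S | Z' ∩ f.base ⁻¹' {s} ⊆ closure (Z ∩ f.base ⁻¹' {s})} := by
  refine (congrArg IsLocallyConstructible (Set.ext fun s => ?_)).mpr
    (ConstrStatements.lc_compl (f.isLocallyConstructible_image (hZ'.inter (ConstrStatements.lc_compl (lc_E f hZ 0)))))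
  rw [Set.mem_compl_iff, Set.mem_setOf_eq]
  constructor
  · rintro h ⟨x, ⟨hx, hxE⟩, rfl⟩
    exact hxE ((mem_closure_fibre_iff f hZ x).mp (h ⟨hx, rfl⟩))
  · rintro h x ⟨hx, hxs⟩
    have hxs' : f.base x = s := hxs
    subst hxs'
    exact (mem_closure_fibre_iff f hZ x).mpr (by_contra fun hE => h ⟨x, ⟨hx, hE⟩, rfl⟩)

end

variable {Y : Scheme.{u}} (h : X ⟶ Y) (g : Y ⟶ S)

/-- the morphism induced on fibres -/
noncomputable abbrev fs (s : S) : pullback (h ≫ g) (S.fromSpecResidueField s) ⟶ pullback g (S.fromSpecResidueField s) :=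
  pullback.lift (pullback.fst (h ≫ g) (S.fromSpecResidueField s) ≫ h) (pullback.snd (h ≫ g) (S.fromSpecResidueField s))
    ((Category.assoc _ _ _).trans pullback.condition)

theorem range_fs (s : S) : Set.range (fs h g s).base = g.fiberι s ⁻¹' Set.range h.base := by
  have hw : ∀ v, g.fiberι s ((fs h g s).base v) = h.base ((h ≫ g).fiberι s v) := fun v => by
    show (fs h g s ≫ pullback.fst g (S.fromSpecResidueField s)) v = _
    rw [pullback.lift_fst]
    rfl
  ext w
  constructor
  · rintro ⟨v, rfl⟩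
    exact ⟨_, (hw v).symm⟩
  · rintro ⟨x, hx⟩
    have hs : (h ≫ g).base x = s := by
      show g.base (h.base x) = s
      rw [hx]
      exact (g.range_fiberι s).subset ⟨w, rfl⟩
    obtain ⟨v, rfl⟩ : x ∈ Set.range ((h ≫ g).fiberι s) := by rw [(h ≫ g).range_fiberι]; exact hs
    exact ⟨v, (g.fiberι s).isEmbedding.injective ((hw v).trans hx)⟩

theorem surjective_iff (s : S) :
    Function.Surjective (fs h g s).base ↔ s ∉ g.base '' (Set.range h.base)ᶜ := by
  rw [← Set.range_eq_univ, range_fs]
  constructor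
  · rintro he ⟨y, hy, hys⟩
    obtain ⟨w, rfl⟩ : y ∈ Set.range (g.fiberι s) := by rw [g.range_fiberι]; exact hys
    exact hy (he.symm.subset (Set.mem_univ w))
  · exact fun hn => Set.eq_univ_of_forall fun w => by_contra fun hw => hn ⟨_, hw, (g.range_fiberι s).subset ⟨w, rfl⟩⟩

theorem dominant_iff (s : S) :
    IsDominant (fs h g s) ↔ Set.univ ∩ g.base ⁻¹' {s} ⊆ closure (Set.range h.base ∩ g.base ⁻¹' {s}) := by
  have hd : IsDominant (fs h g s) ↔ Dense (Set.range (fs h g s).base) := ⟨fun h => h.1, fun h => ⟨h⟩⟩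
  rw [hd, range_fs, Set.univ_inter, (g.fiberι s).isEmbedding.isInducing.dense_iff]
  have hr : g.base ⁻¹' {s} = Set.range (g.fiberι s) := (g.range_fiberι s).symm
  rw [hr, ← Set.image_preimage_eq_inter_range]
  exact ⟨fun hh y ⟨w, hw⟩ => hw ▸ hh w, fun hh w => hh ⟨w, rfl⟩⟩

section
variable [LocallyOfFinitePresentation g] [QuasiCompact g] [QuasiSeparated g]
  [LocallyOfFinitePresentation (h ≫ g)] [QuasiCompact (h ≫ g)]

include g in
theorem lc_range : IsLocallyConstructible (Set.range h.base) := by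
  haveI : LocallyOfFinitePresentation h := Mor.Cancel.locallyOfFinitePresentation_of_comp h g
  haveI : QuasiCompact h := QuasiCompact.of_comp h g
  rw [← Set.image_univ]
  exact h.isLocallyConstructible_image lc_univ

theorem lc_surjective : IsLocallyConstructible {s : S | Function.Surjective (fs h g s).base} :=
  (congrArg IsLocallyConstructible (Set.ext fun s => surjective_iff h g s)).mpr
    (ConstrStatements.lc_compl (g.isLocallyConstructible_image (ConstrStatements.lc_compl (lc_range h g))))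

theorem lc_dominant : IsLocallyConstructible {s : S | IsDominant (fs h g s)} :=
  (congrArg IsLocallyConstructible (Set.ext fun s => dominant_iff h g s)).mpr
    (lc_dense g _ _ (lc_range h g) lc_univ)

end

end Groth.Agent.FibreDepth.DenseLocus
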