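import Mathlib
import Groth.Agent.FibreDepth.DenseLocus

/-! Closed, open and locally closed traces on the fibres. -/

set_option autoImplicit false
set_option backward.isDefEq.respectTransparency false
set_option linter.style.haveILetI false
universe u
open CategoryTheory AlgebraicGeometry TopologicalSpace Topology

namespace Groth.Agent.FibreDepth.ClosedLocus
open Fibre DenseLocus

variable {X S : Scheme.{u}} (f : X ⟶ S) [LocallyOfFinitePresentation f] {Z : Set X} (hZ : IsLocallyConstructible Z)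
include hZ

/-- the points added by closing `Z` in the fibres -/
theorem lc_frontier : IsLocallyConstructible (E f Z 0 \ Z) :=
  ConstrStatements.lc_diff (lc_E f hZ 0) hZ

theorem mem_closure_trace (s : S) (x : ↥(f.base ⁻¹' {s})) :
    x ∈ closure (Subtype.val ⁻¹' Z : Set ↥(f.base ⁻¹' {s})) ↔ x.1 ∈ E f Z 0 := by
  rw [closure_subtype, Subtype.image_preimage_val, Set.inter_comm]
  obtain ⟨x, hx⟩ := x
  have hx' : f.base x = s := hx
  subst hx'
  exact mem_closure_fibre_iff f hZ x

theorem isClosed_iff (s : S) :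
    IsClosed (Subtype.val ⁻¹' Z : Set ↥(f.base ⁻¹' {s})) ↔ s ∉ f.base '' (E f Z 0 \ Z) := by
  rw [← closure_subset_iff_isClosed]
  constructor
  · rintro h ⟨x, ⟨hxE, hxZ⟩, hxs⟩
    exact hxZ (h ((mem_closure_trace f hZ s ⟨x, hxs⟩).mpr hxE))
  · intro h x hx
    exact by_contra fun hn => h ⟨x.1, ⟨(mem_closure_trace f hZ s x).mp hx, hn⟩, x.2⟩

theorem lc_isClosed [QuasiCompact f] : IsLocallyConstructible {s : S | IsClosed (Subtype.val ⁻¹' Z : Set ↥(f.base ⁻¹' {s}))} :=
  (congrArg IsLocallyConstructible (Set.ext fun s => isClosed_iff f hZ s)).mpr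
    (ConstrStatements.lc_compl (f.isLocallyConstructible_image (lc_frontier f hZ)))

theorem isLocallyClosed_iff' (s : S) :
    IsLocallyClosed (Subtype.val ⁻¹' Z : Set ↥(f.base ⁻¹' {s})) ↔
      IsClosed (Subtype.val ⁻¹' (E f Z 0 \ Z) : Set ↥(f.base ⁻¹' {s})) := by
  have he : (Subtype.val ⁻¹' (E f Z 0 \ Z) : Set ↥(f.base ⁻¹' {s})) =
      closure (Subtype.val ⁻¹' Z) \ Subtype.val ⁻¹' Z := by
    ext x
    simp only [Set.mem_preimage, Set.mem_sdiff, mem_closure_trace f hZ s]
  rw [he]
  constructor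
  · intro h
    have h2 := h.isOpen_coborder
    rw [coborder, ← isClosed_compl_iff, compl_compl] at h2
    exact h2
  · intro h
    refine ⟨(closure (Subtype.val ⁻¹' Z) \ Subtype.val ⁻¹' Z)ᶜ, closure (Subtype.val ⁻¹' Z), h.isOpen_compl,
      isClosed_closure, Set.ext fun x => ?_⟩
    have := @subset_closure _ _ (Subtype.val ⁻¹' Z : Set ↥(f.base ⁻¹' {s})) x
    simp only [Set.mem_inter_iff, Set.mem_compl_iff, Set.mem_sdiff]
    tauto

theorem lc_isLocallyClosed [QuasiCompact f] :
    IsLocallyConstructible {s : S | IsLocallyClosed (Subtype.val ⁻¹' Z : Set ↥(f.base ⁻¹' {s}))} :=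
  (congrArg IsLocallyConstructible (Set.ext fun s => isLocallyClosed_iff' f hZ s)).mpr
    (lc_isClosed f (lc_frontier f hZ))

theorem lc_isOpen [QuasiCompact f] :
    IsLocallyConstructible {s : S | IsOpen (Subtype.val ⁻¹' Z : Set ↥(f.base ⁻¹' {s}))} :=
  (congrArg IsLocallyConstructible (Set.ext fun s => isClosed_compl_iff.symm)).mpr
    (lc_isClosed f (ConstrStatements.lc_compl hZ))

end Groth.Agent.FibreDepth.ClosedLocus
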