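import Mathlib
import Groth.Agent.FibreDepth.DenseLocus
import Groth.Agent.GenDim.Component

/-! The dimensions of the components of a constructible set in the fibres. -/

set_option autoImplicit false
set_option backward.isDefEq.respectTransparency false
set_option linter.style.haveILetI false
universe u
open CategoryTheory AlgebraicGeometry TopologicalSpace Topology

namespace Groth.Agent.FibreDepth.ComponentDims
open Fibre Constr GeomLocus DenseLocus

/-- the dimensions of the components -/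
def dims (S : Type u) [TopologicalSpace S] : Set (WithBot ℕ∞) :=
  (fun T : Set S => topologicalKrullDim ↥T) '' irreducibleComponents S

theorem dims_subset {A B : Type u} [TopologicalSpace A] [TopologicalSpace B] (h : A ≃ₜ B) : dims A ⊆ dims B := by
  rintro _ ⟨W, hW, rfl⟩
  refine ⟨h '' W, ⟨hW.1.image h h.continuous.continuousOn, fun W' hW' hle => ?_⟩, ?_⟩
  · have h1 : IsIrreducible (h.symm '' W') := hW'.image h.symm h.symm.continuous.continuousOn
    have h2 : W ≤ h.symm '' W' := fun a ha => ⟨h a, hle ⟨a, ha, rfl⟩, h.symm_apply_apply a⟩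
    intro b hb
    exact ⟨h.symm b, hW.2 h1 h2 ⟨b, hb, rfl⟩, h.apply_symm_apply b⟩
  · exact (IsHomeomorph.topologicalKrullDim_eq _ (h.image W).isHomeomorph).symm

theorem dims_congr {A B : Type u} [TopologicalSpace A] [TopologicalSpace B] (h : A ≃ₜ B) : dims A = dims B :=
  Set.Subset.antisymm (dims_subset h) (dims_subset h.symm)

theorem dims_eq {F : Type u} [TopologicalSpace F] [QuasiSober F] {T : Set F} (hT : IsLocallyClosed T)
    (hdim : ∀ g ∈ T, topologicalKrullDim ↥(closure ({g} : Set F)) ≤ topologicalKrullDim ↥(closure ({g} : Set F) ∩ T))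
    [T0Space F] :
    dims ↥T = (fun g => topologicalKrullDim ↥(closure ({g} : Set F))) '' {g | g ∈ T ∧ ∀ v ∈ T, v ⤳ g → v = g} := by
  obtain ⟨U, C, hU, hC, rfl⟩ := hT
  haveI : QuasiSober ↥C := hC.isClosedEmbedding_subtypeVal.quasiSober
  haveI : QuasiSober ↥(U ∩ C) := by
    refine IsOpenEmbedding.quasiSober (f := fun x : ↥(U ∩ C) => (⟨x.1, x.2.2⟩ : ↥C))
      ⟨IsEmbedding.subtypeVal.codRestrict _ _, ?_⟩
    have : Set.range (fun x : ↥(U ∩ C) => (⟨x.1, x.2.2⟩ : ↥C)) = Subtype.val ⁻¹' U :=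
      Set.ext fun c => ⟨fun ⟨x, hx⟩ => hx ▸ x.2.1, fun hc => ⟨⟨c.1, hc, c.2⟩, rfl⟩⟩
    rw [this]
    exact hU.preimage continuous_subtype_val
  have hcl : ∀ g : ↥(U ∩ C), topologicalKrullDim ↥(closure ({g} : Set ↥(U ∩ C))) =
      topologicalKrullDim ↥(closure ({g.1} : Set F)) := fun g => by
    refine le_antisymm ?_ ((hdim g.1 g.2).trans ?_)
    · refine IsInducing.topologicalKrullDim_le (f := fun s : closure ({g} : Set ↥(U ∩ C)) =>
        (⟨s.1.1, by
          have := image_closure_subset_closure_image continuous_subtype_val ⟨s.1, s.2, rfl⟩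
          rwa [Set.image_singleton] at this⟩ : closure ({g.1} : Set F))) ?_
      exact (IsInducing.subtypeVal.comp IsInducing.subtypeVal).codRestrict _
    · refine IsInducing.topologicalKrullDim_le (f := fun s : ↥(closure ({g.1} : Set F) ∩ (U ∩ C)) =>
        (⟨⟨s.1, s.2.2⟩, by
          rw [IsInducing.subtypeVal.closure_eq_preimage_closure_image, Set.image_singleton]
          exact s.2.1⟩ : closure ({g} : Set ↥(U ∩ C)))) ?_
      exact (IsInducing.subtypeVal.codRestrict _).codRestrict _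
  ext d
  constructor
  · rintro ⟨Z, hZ, rfl⟩
    let g := hZ.1.genericPoint
    have hg : closure ({g} : Set ↥(U ∩ C)) = Z := by
      rw [hZ.1.genericPoint_closure_eq, (isClosed_of_mem_irreducibleComponents Z hZ).closure_eq]
    refine ⟨g.1, ⟨g.2, fun v hv hvg' => ?_⟩, (hcl g).symm.trans (by rw [hg])⟩
    let v' : ↥(U ∩ C) := ⟨v, hv⟩
    have hvg : v' ⤳ g := (subtype_specializes_iff v' g).mpr hvg'
    have hsub : Z ⊆ closure {v'} := hg ▸ closure_minimal (Set.singleton_subset_iff.mpr hvg.mem_closure) isClosed_closure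
    have hgv : g ⤳ v' := specializes_iff_mem_closure.mpr (hg.symm ▸ hZ.2 isIrreducible_singleton.closure hsub (subset_closure rfl))
    exact congrArg Subtype.val (hvg.antisymm hgv).eq
  · rintro ⟨w, ⟨hw, hmin⟩, rfl⟩
    let g : ↥(U ∩ C) := ⟨w, hw⟩
    refine ⟨closure {g}, ⟨isIrreducible_singleton.closure, fun Z hZ hsub => ?_⟩, hcl g⟩
    have hZ' : IsIrreducible (closure Z) := hZ.closure
    let v := hZ'.genericPoint
    have hv : closure ({v} : Set ↥(U ∩ C)) = closure Z := by rw [hZ'.genericPoint_closure_eq, closure_closure]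
    have hvg : v ⤳ g := specializes_iff_mem_closure.mpr (hv.symm ▸ subset_closure (hsub (subset_closure rfl)))
    have : v = g := Subtype.ext (hmin v.1 v.2 ((subtype_specializes_iff v g).mp hvg))
    rw [← this, hv]
    exact subset_closure

variable {X S : Scheme.{u}} (f : X ⟶ S) [LocallyOfFinitePresentation f] (Z : Set X)

theorem dims_fibre (s : S) (hZs : IsLocallyClosed (Subtype.val ⁻¹' Z : Set ↥(⇑f ⁻¹' {s}))) :
    dims ↥(Z ∩ ⇑f ⁻¹' {s}) =
      {d | ∃ z ∈ Z, f z = s ∧ (∀ v ∈ Z, f v = s → v ⤳ z → v = z) ∧ cd f z = d} := by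
  let j := f.fiberι s
  haveI : LocallyOfFiniteType (f.fiberToSpecResidueField s) :=
    MorphismProperty.pullback_snd (P := @LocallyOfFiniteType) _ _ inferInstance
  have hj : ∀ w, f (j w) = s := fun w => (f.range_fiberι s).subset ⟨w, rfl⟩
  let T : Set ↥(f.fiber s) := j ⁻¹' Z
  have hT : IsLocallyClosed T :=
    hZs.preimage (f := fun w => (⟨j w, hj w⟩ : ↥(⇑f ⁻¹' {s}))) (j.continuous.subtype_mk _)
  let φ : ↥T → ↥(Z ∩ ⇑f ⁻¹' {s}) := fun w => ⟨j w.1, w.2, hj w.1⟩
  have hφ : IsHomeomorph φ := by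
    refine isHomeomorph_iff_isEmbedding_surjective.mpr
      ⟨(j.isEmbedding.comp IsEmbedding.subtypeVal).codRestrict (Z ∩ ⇑f ⁻¹' {s}) fun w => ⟨w.2, hj w.1⟩, fun x => ?_⟩
    obtain ⟨w, hw⟩ : x.1 ∈ Set.range j := by rw [f.range_fiberι]; exact x.2.2
    exact ⟨⟨w, show j w ∈ Z from hw.symm ▸ x.2.1⟩, Subtype.ext hw⟩
  have hdim : ∀ g ∈ T, topologicalKrullDim ↥(closure ({g} : Set ↥(f.fiber s))) ≤
      topologicalKrullDim ↥(closure ({g} : Set ↥(f.fiber s)) ∩ T) := fun g hg => by
    obtain ⟨U, C, hU, hC, hUC⟩ := hT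
    rw [hUC] at hg
    have hsub : closure ({g} : Set ↥(f.fiber s)) ⊆ C := closure_minimal (Set.singleton_subset_iff.mpr hg.2) hC
    have : closure ({g} : Set ↥(f.fiber s)) ∩ T = closure {g} ∩ U := by
      rw [hUC, ← Set.inter_assoc, Set.inter_right_comm, Set.inter_eq_left.mpr hsub]
    rw [this]
    exact GenDim.dim_le_inter (K := S.residueField s) (f.fiberToSpecResidueField s) _ isIrreducible_singleton.closure
      isClosed_closure ⟨U, hU⟩ g (subset_closure rfl) hg.1
  rw [← dims_congr (IsHomeomorph.homeomorph φ hφ), dims_eq hT hdim]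
  ext d
  constructor
  · rintro ⟨w, ⟨hw, hmin⟩, rfl⟩
    refine ⟨j w, hw, hj w, fun v hv hvs hvw => ?_, ?_⟩
    · obtain ⟨v, rfl⟩ : v ∈ Set.range j := by rw [f.range_fiberι]; exact hvs
      exact congrArg j (hmin v hv (j.isEmbedding.isInducing.specializes_iff.mp hvw))
    · exact ((fiber_iff f (P := fun y v => topologicalKrullDim ↥(closure ({v} : Set ↥(f.fiber y))) =
        topologicalKrullDim ↥(closure ({w} : Set ↥(f.fiber s)))) s w).mp rfl)
  · rintro ⟨z, hz, hzs, hmin, hd⟩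
    obtain ⟨w, rfl⟩ : z ∈ Set.range j := by rw [f.range_fiberι]; exact hzs
    refine ⟨w, ⟨hz, fun v hv hvw => j.isEmbedding.injective (hmin (j v) hv (hj v) (hvw.map j.continuous))⟩, ?_⟩
    exact (fiber_iff f (P := fun y v => topologicalKrullDim ↥(closure ({v} : Set ↥(f.fiber y))) = d) s w).mpr hd

/-- the points with a minimal generization in `Z` whose dimension satisfies `P` -/
def M (P : ℕ → Prop) : Set X := {x | ∃ i, P i ∧ x ∈ E f (Z \ E f Z (i + 1)) i}

theorem lc_M (hZ : IsLocallyConstructible Z) (P : ℕ → Prop) : IsLocallyConstructible (M f Z P) := by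
  have hZi : ∀ i, IsLocallyConstructible (Z \ E f Z (i + 1)) := fun i =>
    ConstrStatements.lc_diff hZ (lc_E f hZ (i + 1))
  refine Constr.isLC (f := f) (Unit.isFP_unit X) _ fun A _ m M' _ _ _ V φ hc =>
    ⟨⋃ i ∈ {i | P i ∧ i ≤ m}, Sets.E A (φ '' ((fun w : ↥(V : Scheme.{u}) => w.1) ⁻¹' (Z \ E f Z (i + 1)))) i,
      IsConstructible.biUnion ((Set.finite_Iic m).subset fun i hi => hi.2)
        fun i _ => EClosure.isConstructible_E (hc.constr_image _ (hZi i)) i, fun w => ?_⟩
  simp only [M, Set.mem_setOf_eq, Set.mem_iUnion, exists_prop]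
  constructor
  · rintro ⟨i, hP, hi⟩
    have h := (mem_E_iff' f hc (mem_image_iff f hc _) (Set.image_subset_range _ _) i w).mp hi
    exact ⟨i, ⟨hP, by simpa using Families.le_card_of_mem_E h⟩, h⟩
  · rintro ⟨i, hP, h⟩
    exact ⟨i, hP.1, (mem_E_iff' f hc (mem_image_iff f hc _) (Set.image_subset_range _ _) i w).mpr h⟩

theorem mem_image_M (P : ℕ → Prop) (s : S) :
    s ∈ f.base '' M f Z P ↔ ∃ z ∈ Z, f z = s ∧ (∀ v ∈ Z, f v = s → v ⤳ z → v = z) ∧ ∃ i, P i ∧ cd f z = (i : ℕ) := by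
  constructor
  · rintro ⟨x, ⟨i, hP, z, ⟨hz, hzE⟩, hzf, -, hi⟩, hxs⟩
    obtain ⟨e, he⟩ := exists_cd f z
    rw [he] at hi
    have hie : i ≤ e := by exact_mod_cast hi
    have hle : e ≤ i := by
      by_contra hlt
      exact hzE ⟨z, hz, rfl, specializes_rfl, by rw [he]; exact_mod_cast (show i + 1 ≤ e by omega)⟩
    obtain rfl : e = i := le_antisymm hle hie
    refine ⟨z, hz, hzf.trans hxs, fun v hv hvs hvz => ?_, e, hP, he⟩
    obtain ⟨a, ha⟩ := exists_cd f v
    have hfv : f.base v = f.base z := hvs.trans (hzf.trans hxs).symm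
    refine Loci.eq_of_cd_eq' (Unit.isFP_unit X) z v hfv hvz ?_
    rw [ha, he]
    congr 1
    refine le_antisymm (by_contra fun hlt => hzE ⟨v, hv, hfv, hvz, by rw [ha]; exact_mod_cast (show e + 1 ≤ a by omega)⟩) ?_
    have h := cd_mono_aux f z v hfv hvz
    rw [ha, he] at h
    exact_mod_cast h
  · rintro ⟨z, hz, hzs, hmin, i, hP, hzi⟩
    refine ⟨z, ⟨i, hP, z, ⟨hz, ?_⟩, rfl, specializes_rfl, hzi.ge⟩, hzs⟩
    rintro ⟨v, hv, hvf, hvz, hvi⟩
    rw [hmin v hv (hvf.trans hzs) hvz, hzi] at hvi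
    have : i + 1 ≤ i := by exact_mod_cast hvi
    omega
where
  cd_mono_aux {X S : Scheme.{u}} (f : X ⟶ S) (z v : X) (hfv : f.base v = f.base z) (hvz : v ⤳ z) :
      cd f z ≤ cd f v := by
    obtain ⟨w, hw⟩ : v ∈ Set.range (f.fiberι (f.base z)) := by rw [f.range_fiberι]; exact hfv
    have h2 : w ⤳ f.asFiber z := (f.fiberι (f.base z)).isEmbedding.isInducing.specializes_iff.mp (by
      rw [hw, Scheme.Hom.fiberι_asFiber]; exact hvz)
    have h3 : cd f v = topologicalKrullDim ↥(closure ({w} : Set ↥(f.fiber (f.base z)))) := by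
      rw [← hw]
      exact ((fiber_iff f (P := fun y u => topologicalKrullDim ↥(closure ({u} : Set ↥(f.fiber y))) =
        topologicalKrullDim ↥(closure ({w} : Set ↥(f.fiber (f.base z))))) (f.base z) w).mp rfl)
    rw [h3]
    exact (IsEmbedding.inclusion (closure_minimal (Set.singleton_subset_iff.mpr h2.mem_closure)
      isClosed_closure)).isInducing.topologicalKrullDim_le

variable [QuasiCompact f]

theorem lc_dims (hZ : IsLocallyConstructible Z)
    (hZs : ∀ s : S, IsLocallyClosed (Subtype.val ⁻¹' Z : Set ↥(⇑f ⁻¹' {s}))) (Φ : Set (WithBot ℕ∞)) :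
    IsLocallyConstructible {s : S | dims ↥(Z ∩ ⇑f ⁻¹' {s}) = Φ} := by
  classical
  let D : Set ℕ := {n | (n : WithBot ℕ∞) ∈ Φ}
  by_cases hΦ : (∀ d ∈ Φ, ∃ n : ℕ, d = (n : WithBot ℕ∞)) ∧ D.Finite
  · obtain ⟨hnat, hfin⟩ := hΦ
    haveI : Finite ↥D := hfin.to_subtype
    refine (congrArg IsLocallyConstructible (Set.ext fun s => ?_)).mpr
      ((IsLocallyConstructible.iInter fun i : ↥D => f.isLocallyConstructible_image (lc_M f Z hZ fun j => j = (i : ℕ))).inter
        (ConstrStatements.lc_compl (f.isLocallyConstructible_image (lc_M f Z hZ fun j => j ∉ D))))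
    simp only [Set.mem_inter_iff, Set.mem_iInter, Set.mem_compl_iff, Set.mem_setOf_eq, mem_image_M, dims_fibre f Z s (hZs s)]
    constructor
    · intro h
      refine ⟨fun i => ?_, fun ⟨z, hz, hzs, hmin, i, hi, hzi⟩ => ?_⟩
      · obtain ⟨z, hz, hzs, hmin, hd⟩ := h.ge i.2
        exact ⟨z, hz, hzs, hmin, i, rfl, hd⟩
      · exact hi (h.le ⟨z, hz, hzs, hmin, hzi⟩)
    · rintro ⟨h1, h2⟩
      refine Set.Subset.antisymm ?_ ?_
      · rintro _ ⟨z, hz, hzs, hmin, rfl⟩
        obtain ⟨e, he⟩ := exists_cd f z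
        by_contra hn
        exact h2 ⟨z, hz, hzs, hmin, e, fun hD => hn (he ▸ hD), he⟩
      · intro d hd
        obtain ⟨n, rfl⟩ := hnat d hd
        obtain ⟨z, hz, hzs, hmin, i, hi, hzi⟩ := h1 ⟨n, hd⟩
        exact ⟨z, hz, hzs, hmin, by rw [hzi, hi]⟩
  · refine (congrArg IsLocallyConstructible (Set.ext fun s => iff_of_false (fun h => ?_) (Set.notMem_empty s))).mpr
      (fun x => ⟨Set.univ, Filter.univ_mem, isOpen_univ, by rw [Set.preimage_empty]; exact IsConstructible.empty⟩)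
    have h' : dims ↥(Z ∩ ⇑f ⁻¹' {s}) = Φ := h
    rw [dims_fibre f Z s (hZs s)] at h'
    refine hΦ ⟨fun d hd => ?_, ?_⟩
    · obtain ⟨z, -, -, -, hz⟩ := h'.ge hd
      obtain ⟨e, he⟩ := exists_cd f z
      exact ⟨e, hz.symm.trans he⟩
    · obtain ⟨N, hN⟩ := exists_global_bound f s
      refine (Set.finite_Iic N).subset fun n hn => ?_
      obtain ⟨z, -, hzs, -, hz⟩ := h'.ge hn
      obtain ⟨e, hle, he⟩ := hN z hzs
      have : n = e := by exact_mod_cast hz.symm.trans he
      exact this ▸ hle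
where
  exists_global_bound {X S : Scheme.{u}} (f : X ⟶ S) [LocallyOfFinitePresentation f] [QuasiCompact f] (s : S) :
      ∃ N : ℕ, ∀ z : X, f z = s → ∃ e ≤ N, cd f z = (e : ℕ) := by
    choose V n hx hb using exists_bound f
    have hc : IsCompact (Set.range (f.fiberι s)) := by
      haveI : CompactSpace ↥(f.fiber s) := by
        haveI : QuasiCompact (f.fiberToSpecResidueField s) :=
          MorphismProperty.pullback_snd (P := @QuasiCompact) _ _ inferInstance
        exact QuasiCompact.compactSpace_of_compactSpace (f.fiberToSpecResidueField s)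
      exact isCompact_range (f.fiberι s).continuous
    obtain ⟨t, ht⟩ := hc.elim_finite_subcover (fun x => (V x : Set X)) (fun x => (V x).isOpen)
      fun z _ => Set.mem_iUnion.mpr ⟨z, hx z⟩
    refine ⟨t.sup n, fun z hz => ?_⟩
    obtain ⟨x, hxt, hzV⟩ := Set.mem_iUnion₂.mp (ht ((f.range_fiberι s).ge hz))
    obtain ⟨e, hle, he⟩ := hb x z hzV
    exact ⟨e, hle.trans (Finset.le_sup hxt), he⟩

end Groth.Agent.FibreDepth.ComponentDims
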