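import Mathlib
import Groth.Prelude.Def_CInt
import Groth.Agent.FibreDepth.ConstrStatements

/-! Constructibility of the dimensions of the components of the supports of the fibres. -/

set_option autoImplicit false
set_option backward.isDefEq.respectTransparency false
set_option linter.style.haveILetI false
universe u
open CategoryTheory AlgebraicGeometry TopologicalSpace Topology
open scoped TensorProduct

namespace Groth.Agent.FibreDepth.Components
open Gen Fibre Constr

variable {X Y : Scheme.{u}} (f : X ⟶ Y) [LocallyOfFinitePresentation f] {F : X.Modules} (hF : CohB1.IsFP F)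
include hF

theorem lc_single (P : ℕ → Prop) : IsLocallyConstructible
    {x : X | ∃ i, P i ∧ x ∈ Loci.A f F i ∧ ∀ j, x ∈ Loci.A f F j → j = i} := by
  refine isLC (f := f) hF _ fun A _ m M _ _ _ V φ hc =>
    ⟨⋃ i ∈ {i | P i ∧ i ≤ m}, Families.gA A (Fin m) M i \ ⋃ j ∈ {j | j ≠ i ∧ j ≤ m}, Families.gA A (Fin m) M j,
      IsConstructible.biUnion ((Set.finite_Iic m).subset fun i hi => hi.2) fun i _ =>
        (Families.isConstructible_gA M i).sdiff (IsConstructible.biUnion
          ((Set.finite_Iic m).subset fun j hj => hj.2) fun j _ => Families.isConstructible_gA M j), fun w => ?_⟩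
  simp only [Set.mem_setOf_eq, Set.mem_iUnion, Set.mem_sdiff, exists_prop, mem_A_iff hc]
  constructor
  · rintro ⟨i, hi, h, huniq⟩
    exact ⟨i, ⟨hi, by simpa using Families.le_card_of_mem_E h⟩, h, fun ⟨j, hj, hjA⟩ => hj.1 (huniq j hjA)⟩
  · rintro ⟨i, hi, h, hne⟩
    exact ⟨i, hi.1, h, fun j hj => by_contra fun hji => hne ⟨j, ⟨hji, by simpa using Families.le_card_of_mem_E hj⟩, hj⟩⟩

theorem mem_image_single (P : ℕ → Prop) (s : Y) :
    s ∈ f.base '' {x : X | ∃ i, P i ∧ x ∈ Loci.A f F i ∧ ∀ j, x ∈ Loci.A f F j → j = i} ↔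
      ∃ w, Loci.MinSupp f F s w ∧ ∃ i, P i ∧
        topologicalKrullDim ↥(closure ({w} : Set ↥(f.fiber s))) = (i : WithBot ℕ∞) := by
  constructor
  · rintro ⟨x, ⟨i, hP, hA, huniq⟩, hxs⟩
    obtain ⟨z, hzf, hzx, h0, hzi⟩ := (Loci.mem_A i x).mp hA
    obtain ⟨w, hw⟩ : z ∈ Set.range (f.fiberι s) := by
      rw [f.range_fiberι]; exact hzf.trans hxs
    have hn : Nontrivial ((fib f F s).presheaf.stalk w) :=
      (fiber_iff f (P := fun t v => Nontrivial ((fib f F t).presheaf.stalk v)) s w).mpr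
        (by rw [hw]; exact Statements.nontrivial_of_dp f F _ _ h0)
    obtain ⟨v, hvw, hv⟩ := Loci.exists_minSupp hF s w hn
    have hvz : f.fiberι s v ⤳ z := hw ▸ hvw.map (f.fiberι s).continuous
    have hvs : f.base (f.fiberι s v) = s := (f.range_fiberι s).subset ⟨v, rfl⟩
    have hvd : dp f F (f.fiberι s v) = 0 := (Statements.ass_iff f F hF _).mp
      ((fiber_iff f (P := fun t v => v ∈ AssSch.Ass (fib f F t)) s v).mp (Statements.ass_of_minSupp f F hF s v hv))
    obtain ⟨j, hj⟩ := exists_cd f (f.fiberι s v)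
    have hji : j = i := huniq j ((Loci.mem_A j x).mpr ⟨_, hvs.trans hxs.symm, hvz.trans hzx, hvd, hj⟩)
    refine ⟨v, hv, i, hP, ?_⟩
    exact (fiber_iff f (P := fun t v => topologicalKrullDim ↥(closure ({v} : Set ↥(f.fiber t))) = (i : WithBot ℕ∞)) s v).mpr
      (hji ▸ hj)
  · rintro ⟨w, hmin, i, hP, hwi⟩
    have hws : f.base (f.fiberι s w) = s := (f.range_fiberι s).subset ⟨w, rfl⟩
    have hwd : dp f F (f.fiberι s w) = 0 := (Statements.ass_iff f F hF _).mp
      ((fiber_iff f (P := fun t v => v ∈ AssSch.Ass (fib f F t)) s w).mp (Statements.ass_of_minSupp f F hF s w hmin))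
    have hwi' : cd f (f.fiberι s w) = (i : ℕ) :=
      (fiber_iff f (P := fun t v => topologicalKrullDim ↥(closure ({v} : Set ↥(f.fiber t))) = (i : WithBot ℕ∞)) s w).mp hwi
    refine ⟨f.fiberι s w, ⟨i, hP, (Loci.mem_A i _).mpr ⟨_, rfl, specializes_rfl, hwd, hwi'⟩, fun j hj => ?_⟩, hws⟩
    obtain ⟨z, hzf, hzw, h0, hzj⟩ := (Loci.mem_A j _).mp hj
    obtain ⟨v, hv⟩ : z ∈ Set.range (f.fiberι s) := by
      rw [f.range_fiberι]; exact hzf.trans hws
    have hvw : v = w := hmin.2 v ((f.fiberι s).isEmbedding.isInducing.specializes_iff.mp (by rw [hv]; exact hzw))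
      ((fiber_iff f (P := fun t v => Nontrivial ((fib f F t).presheaf.stalk v)) s v).mpr
        (by rw [hv]; exact Statements.nontrivial_of_dp f F _ _ h0))
    rw [← hv, hvw, hwi'] at hzj
    exact_mod_cast hzj.symm

theorem lc_supportComponentDims [QuasiCompact f] (Φ : Finset ℕ) :
    IsLocallyConstructible {s : Y |
      (fun Z : Set ↥(CohB1.support (fib f F s)) => topologicalKrullDim ↥Z) ''
          irreducibleComponents ↥(CohB1.support (fib f F s)) =
        (fun n : ℕ => (n : WithBot ℕ∞)) '' (Φ : Set ℕ)} := by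
  have hlc := fun P => f.isLocallyConstructible_image (lc_single f hF P)
  refine (congrArg IsLocallyConstructible (Set.ext fun s => ?_)).mpr
    ((IsLocallyConstructible.iInter fun i : Φ => hlc (fun j => j = (i : ℕ))).inter
      (ConstrStatements.lc_compl (hlc (fun j => j ∉ Φ))))
  rw [Set.mem_inter_iff, Set.mem_iInter, Set.mem_compl_iff]
  simp only [mem_image_single f hF]
  simp only [exists_eq_left]
  rw [Set.mem_setOf_eq, show CohB1.support (fib f F s) = {z : ↥(f.fiber s) | Nontrivial ((fib f F s).presheaf.stalk z)} from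
    Set.ext fun z => not_subsingleton_iff_nontrivial, Proper.components_dims (f := f) hF s]
  constructor
  · intro h
    refine ⟨fun i => ?_, fun ⟨w, hw, i, hi, hwi⟩ => ?_⟩
    · obtain ⟨w, hw, hwi⟩ := h.ge ⟨i, i.2, rfl⟩
      exact ⟨w, hw, hwi⟩
    · obtain ⟨n, hn, hne⟩ := h.le ⟨w, hw, rfl⟩
      simp only at hne
      refine hi ?_
      have : n = i := by exact_mod_cast hne.trans hwi
      exact this ▸ hn
  · rintro ⟨h1, h2⟩
    refine subset_antisymm ?_ ?_
    · rintro _ ⟨w, hw, rfl⟩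
      obtain ⟨e, he⟩ := (fiber_iff f (P := fun y w => ∃ e : ℕ,
        topologicalKrullDim ↥(closure ({w} : Set ↥(f.fiber y))) = (e : ℕ)) s w).mpr (exists_cd f _)
      exact ⟨e, by_contra fun hn => h2 ⟨w, hw, e, hn, he⟩, he.symm⟩
    · rintro _ ⟨i, hi, rfl⟩
      obtain ⟨w, hw, hwi⟩ := h1 ⟨i, hi⟩
      exact ⟨w, hw, hwi⟩

end Groth.Agent.FibreDepth.Components
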