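import Mathlib
import Groth.Prelude.Def_CAlg
import Groth.Agent.IdealDepth.Basic
import Groth.Agent.IdealDepth.CM

/-! Depth of tensor products along flat local homomorphisms. -/

set_option autoImplicit false
set_option backward.isDefEq.respectTransparency false
set_option linter.style.haveILetI false
universe u

open IsLocalRing
open scoped TensorProduct Pointwise

namespace Groth.Agent.FibreDepth.DepthFlat

variable {R S : Type u} [CommRing R] [CommRing S] [Algebra R S]

section maps

variable (N : Type u) [AddCommGroup N] [Module S N] [Module R N] [IsScalarTower R S N]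
  {M : Type u} [AddCommGroup M] [Module R M]

/-- the tensor product of `N` with a map, linear over `S` -/
noncomputable abbrev lmap {M' : Type u} [AddCommGroup M'] [Module R M'] (f : M →ₗ[R] M') :
    N ⊗[R] M →ₗ[S] N ⊗[R] M' :=
  TensorProduct.AlgebraTensorModule.lTensor S N f

theorem lmap_lsmul (x : R) (w : N ⊗[R] M) :
    lmap (S := S) N (LinearMap.lsmul R M x) w = algebraMap R S x • w := by
  rw [algebraMap_smul]
  induction w using TensorProduct.induction_on with
  | zero => simp
  | add a b ha hb => simp only [map_add, smul_add, ha, hb]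
  | tmul a b =>
    show a ⊗ₜ[R] (x • b) = x • (a ⊗ₜ[R] b)
    rw [TensorProduct.tmul_smul]

theorem finite_tensor [Module.Finite S N] [Module.Finite R M] : Module.Finite S (N ⊗[R] M) := by
  obtain ⟨r, g, hg⟩ := Module.Finite.exists_fin' R M
  let e : N ⊗[R] (Fin r → R) ≃ₗ[S] (Fin r → N) := (TensorProduct.piRight R S N fun _ : Fin r => R).trans
    (LinearEquiv.piCongrRight fun _ => TensorProduct.AlgebraTensorModule.rid R S N)
  haveI : Module.Finite S (N ⊗[R] (Fin r → R)) := Module.Finite.equiv e.symm
  exact Module.Finite.of_surjective (lmap (S := S) N g) (LinearMap.lTensor_surjective N hg)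

theorem quotient_tensor_right (x : R) :
    Nonempty (QuotSMulTop (algebraMap R S x) (N ⊗[R] M) ≃ₗ[S] N ⊗[R] QuotSMulTop x M) := by
  let q : M →ₗ[R] QuotSMulTop x M := (x • (⊤ : Submodule R M)).mkQ
  let r : N ⊗[R] M →ₗ[S] N ⊗[R] QuotSMulTop x M := lmap N q
  have hs : Function.Surjective r := LinearMap.lTensor_surjective N (g := q) (Submodule.mkQ_surjective _)
  have hker : LinearMap.ker r = algebraMap R S x • (⊤ : Submodule S (N ⊗[R] M)) := by
    have hex : Function.Exact ((LinearMap.lsmul R M x).lTensor N) (q.lTensor N) := by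
      refine lTensor_exact N (fun m => ?_) (Submodule.mkQ_surjective _)
      rw [Submodule.mkQ_apply, Submodule.Quotient.mk_eq_zero, Submodule.mem_smul_pointwise_iff_exists]
      simp
    ext z
    rw [LinearMap.mem_ker, Submodule.mem_smul_pointwise_iff_exists]
    refine ⟨fun h => ?_, ?_⟩
    · obtain ⟨w, rfl⟩ := (hex z).mp h
      exact ⟨w, trivial, (lmap_lsmul N x w).symm⟩
    · rintro ⟨w, -, rfl⟩
      rw [← lmap_lsmul]
      exact (hex _).mpr ⟨w, rfl⟩
  exact ⟨(Submodule.quotEquivOfEq _ _ hker.symm).trans (r.quotKerEquivOfSurjective hs)⟩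

theorem rTensor_lsmul (y : S) (w : N ⊗[R] M) : ((LinearMap.lsmul S N y).restrictScalars R).rTensor M w = y • w := by
  induction w using TensorProduct.induction_on with
  | zero => simp
  | add a b ha hb => simp only [map_add, smul_add, ha, hb]
  | tmul a b => rfl

theorem exists_mkQ_exact (y : S) : ∃ q : N →ₗ[S] QuotSMulTop y N, Function.Surjective q ∧
    Function.Exact (LinearMap.lsmul S N y) q := by
  refine ⟨(y • (⊤ : Submodule S N)).mkQ, Submodule.mkQ_surjective _, fun m => ?_⟩
  rw [Submodule.mkQ_apply, Submodule.Quotient.mk_eq_zero, Submodule.mem_smul_pointwise_iff_exists]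
  simp

theorem exact_rTensor {Q : Type u} [AddCommGroup Q] [Module S Q] [Module R Q] [IsScalarTower R S Q] (y : S)
    (q : N →ₗ[S] Q) (hq : Function.Surjective q) (hex : Function.Exact (LinearMap.lsmul S N y) q)
    (z : N ⊗[R] M) : TensorProduct.AlgebraTensorModule.rTensor R M q z = 0 ↔ ∃ w, y • w = z := by
  have h := rTensor_exact M (f := (LinearMap.lsmul S N y).restrictScalars R) (g := q.restrictScalars R) hex hq z
  refine h.trans ⟨fun ⟨w, hw⟩ => ⟨w, (rTensor_lsmul N y w).symm.trans hw⟩,
    fun ⟨w, hw⟩ => ⟨w, (rTensor_lsmul N y w).trans hw⟩⟩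

theorem ker_rTensor {Q : Type u} [AddCommGroup Q] [Module S Q] [Module R Q] [IsScalarTower R S Q] (y : S)
    (q : N →ₗ[S] Q) (hq : Function.Surjective q) (hex : Function.Exact (LinearMap.lsmul S N y) q) :
    Nonempty (QuotSMulTop y (N ⊗[R] M) ≃ₗ[S] Q ⊗[R] M) := by
  let r : N ⊗[R] M →ₗ[S] Q ⊗[R] M := TensorProduct.AlgebraTensorModule.rTensor R M q
  have hs : Function.Surjective r := LinearMap.rTensor_surjective M (g := q.restrictScalars R) hq
  have hker : LinearMap.ker r = y • (⊤ : Submodule S (N ⊗[R] M)) := by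
    ext z
    rw [LinearMap.mem_ker, Submodule.mem_smul_pointwise_iff_exists, exact_rTensor N y q hq hex z]
    simp
  exact ⟨(Submodule.quotEquivOfEq _ _ hker.symm).trans (r.quotKerEquivOfSurjective hs)⟩

theorem quotient_tensor_left (y : S) :
    Nonempty (QuotSMulTop y (N ⊗[R] M) ≃ₗ[S] QuotSMulTop y N ⊗[R] M) := by
  obtain ⟨q, hq, hex⟩ := exists_mkQ_exact N y
  exact ker_rTensor N y q hq hex

end maps

section regular

variable {N : Type u} [AddCommGroup N] [Module S N] [Module R N] [IsScalarTower R S N] [Module.Flat R N]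
  [IsLocalRing R] {y : S} (hy : IsSMulRegular (N ⊗[R] (R ⧸ maximalIdeal R)) y)
include hy

theorem regular_of_killed : ∀ (n : ℕ) (M : Type u) [AddCommGroup M] [Module R M] [Module.Finite R M]
    [IsNoetherianRing R], (∀ r ∈ maximalIdeal R ^ n, ∀ z : M, r • z = 0) → IsSMulRegular (N ⊗[R] M) y
  | 0, M, _, _, _, _, h => by
    haveI : Subsingleton M := subsingleton_of_forall_eq 0 fun z => by
      simpa using h 1 (by simp) z
    intro a b _
    exact Subsingleton.elim a b
  | n + 1, M, _, _, _, _, h => by
    let M' : Submodule R M := maximalIdeal R • ⊤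
    haveI : Module.Finite R M' := Module.Finite.iff_fg.mpr (IsNoetherian.noetherian _)
    have h' : IsSMulRegular (N ⊗[R] M') y := by
      refine regular_of_killed n M' fun r hr z => Subtype.ext ?_
      show r • (z : M) = 0
      refine Submodule.smul_induction_on z.2 (fun s hs w _ => ?_) fun a b ha hb => by rw [smul_add, ha, hb, add_zero]
      rw [smul_smul]
      exact h _ (by rw [pow_succ]; exact Ideal.mul_mem_mul hr hs) w
    have h'' : IsSMulRegular (N ⊗[R] (M ⧸ M')) y := by
      letI : Field (R ⧸ maximalIdeal R) := Ideal.Quotient.field _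
      have htor : Module.IsTorsionBySet R (M ⧸ M') (maximalIdeal R : Set R) := fun z r => by
        obtain ⟨z, rfl⟩ := Submodule.mkQ_surjective _ z
        rw [← map_smul, Submodule.mkQ_apply, Submodule.Quotient.mk_eq_zero]
        exact Submodule.smul_mem_smul r.2 trivial
      letI : Module (R ⧸ maximalIdeal R) (M ⧸ M') := htor.module
      haveI : IsScalarTower R (R ⧸ maximalIdeal R) (M ⧸ M') := htor.isScalarTower
      haveI : Module.Finite (R ⧸ maximalIdeal R) (M ⧸ M') := Module.Finite.of_restrictScalars_finite R _ _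
      let b := Module.finBasis (R ⧸ maximalIdeal R) (M ⧸ M')
      let e : (M ⧸ M') ≃ₗ[R] (Fin (Module.finrank (R ⧸ maximalIdeal R) (M ⧸ M')) → R ⧸ maximalIdeal R) :=
        b.equivFun.restrictScalars R
      let e' := (TensorProduct.AlgebraTensorModule.congr (LinearEquiv.refl S N) e).trans
        (TensorProduct.piRight R S N fun _ : Fin (Module.finrank (R ⧸ maximalIdeal R) (M ⧸ M')) => R ⧸ maximalIdeal R)
      intro a c hac
      refine e'.injective (funext fun i => hy ?_)
      show y • e' a i = y • e' c i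
      show (y • e' a) i = (y • e' c) i
      rw [← map_smul, ← map_smul]
      exact congrArg (fun v => e' v i) hac
    rw [isSMulRegular_iff_right_eq_zero_of_smul]
    intro x hx
    have hx2 : lmap (S := S) N M'.mkQ x = 0 :=
      h''.right_eq_zero_of_smul (by rw [← map_smul, hx, map_zero])
    obtain ⟨x', rfl⟩ := ((Module.Flat.lTensor_exact N (LinearMap.exact_subtype_mkQ M')) x).mp hx2
    have hinj : Function.Injective (M'.subtype.lTensor N) :=
      Module.Flat.lTensor_preserves_injective_linearMap _ M'.injective_subtype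
    have hx3 : y • x' = 0 := hinj (by
      rw [map_zero, ← hx]
      exact map_smul (lmap (S := S) N M'.subtype) y x')
    rw [h'.right_eq_zero_of_smul hx3, map_zero]

variable [IsLocalRing S] [IsNoetherianRing R] [IsNoetherianRing S] [Module.Finite S N]
  [IsLocalHom (algebraMap R S)]

theorem regular (M : Type u) [AddCommGroup M] [Module R M] [Module.Finite R M] : IsSMulRegular (N ⊗[R] M) y := by
  rw [isSMulRegular_iff_right_eq_zero_of_smul]
  intro x hx
  let J := (maximalIdeal R).map (algebraMap R S)
  have hJ : J ≠ ⊤ := ne_top_of_le_ne_top (maximalIdeal.isMaximal S).ne_top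
    (((local_hom_TFAE (algebraMap R S)).out 0 2).mp ‹IsLocalHom (algebraMap R S)›)
  have hmem : x ∈ ⨅ n : ℕ, J ^ n • (⊤ : Submodule S (N ⊗[R] M)) := by
    refine Submodule.mem_iInf _ |>.mpr fun n => ?_
    let M' : Submodule R M := (maximalIdeal R ^ n) • ⊤
    have hq : IsSMulRegular (N ⊗[R] (M ⧸ M')) y := regular_of_killed hy n (M ⧸ M') fun r hr z => by
      obtain ⟨z, rfl⟩ := Submodule.mkQ_surjective _ z
      rw [← map_smul, Submodule.mkQ_apply, Submodule.Quotient.mk_eq_zero]
      exact Submodule.smul_mem_smul hr trivial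
    have hx2 : lmap (S := S) N M'.mkQ x = 0 := hq.right_eq_zero_of_smul (by rw [← map_smul, hx, map_zero])
    obtain ⟨x', rfl⟩ := ((Module.Flat.lTensor_exact N (LinearMap.exact_subtype_mkQ M')) x).mp hx2
    clear hx hx2
    induction x' using TensorProduct.induction_on with
    | zero => simp
    | add a b ha hb => rw [map_add]; exact add_mem ha hb
    | tmul a m =>
      obtain ⟨m, hm⟩ := m
      show a ⊗ₜ[R] m ∈ _
      refine Submodule.smul_induction_on hm (fun r hr z _ => ?_) fun u v hu hv => by
        rw [TensorProduct.tmul_add]; exact add_mem hu hv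
      rw [TensorProduct.tmul_smul, ← algebraMap_smul S r (a ⊗ₜ[R] z), ← Ideal.map_pow]
      exact Submodule.smul_mem_smul (Ideal.mem_map_of_mem _ hr) trivial
  haveI : Module.Finite S (N ⊗[R] M) := finite_tensor N
  rw [Ideal.iInf_pow_smul_eq_bot_of_isLocalRing J hJ] at hmem
  exact hmem

theorem flat_of_exact {Q : Type u} [AddCommGroup Q] [Module S Q] [Module R Q] [IsScalarTower R S Q]
    (q : N →ₗ[S] Q) (hq : Function.Surjective q) (hex : Function.Exact (LinearMap.lsmul S N y) q) :
    Module.Flat R Q := by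
  refine Module.Flat.iff_rTensor_injective'.mpr fun I => ?_
  rw [← LinearMap.lTensor_inj_iff_rTensor_inj, injective_iff_map_eq_zero]
  intro w hw
  obtain ⟨z, rfl⟩ := LinearMap.rTensor_surjective I (g := q.restrictScalars R) hq w
  have h1 : TensorProduct.AlgebraTensorModule.rTensor R R q (I.subtype.lTensor N z) = 0 := by
    show (q.restrictScalars R).rTensor R (I.subtype.lTensor N z) = 0
    rw [← LinearMap.comp_apply, LinearMap.rTensor_comp_lTensor, ← LinearMap.lTensor_comp_rTensor,
      LinearMap.comp_apply]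
    exact hw
  obtain ⟨u, hu⟩ := (exact_rTensor N y q hq hex _).mp h1
  have h2 : lmap (S := S) N I.mkQ u = 0 := by
    refine (regular hy (R ⧸ I)).right_eq_zero_of_smul ?_
    rw [← map_smul, hu]
    exact ((Module.Flat.lTensor_exact N (LinearMap.exact_subtype_mkQ I)) _).mpr ⟨z, rfl⟩
  obtain ⟨v, rfl⟩ := ((Module.Flat.lTensor_exact N (LinearMap.exact_subtype_mkQ I)) u).mp h2
  have h3 : z = y • v := Module.Flat.lTensor_preserves_injective_linearMap (M := N) _ I.injective_subtype (by
    rw [← hu]
    exact (map_smul (lmap (S := S) N I.subtype) y v).symm)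
  exact (exact_rTensor N y q hq hex z).mpr ⟨v, h3.symm⟩

theorem flat_quotient : Module.Flat R (QuotSMulTop y N) := by
  obtain ⟨q, hq, hex⟩ := exists_mkQ_exact N y
  exact flat_of_exact hy q hq hex

end regular

section depth

variable [IsLocalRing R] [IsLocalRing S] [IsNoetherianRing R] [IsNoetherianRing S] [IsLocalHom (algebraMap R S)]

theorem nontrivial_fibre (N : Type u) [AddCommGroup N] [Module S N] [Module R N] [IsScalarTower R S N]
    [Module.Finite S N] [Nontrivial N] : Nontrivial (N ⊗[R] (R ⧸ maximalIdeal R)) := by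
  let J := (maximalIdeal R).map (algebraMap R S)
  have hJ : J ≠ ⊤ := ne_top_of_le_ne_top (maximalIdeal.isMaximal S).ne_top
    (((local_hom_TFAE (algebraMap R S)).out 0 2).mp ‹IsLocalHom (algebraMap R S)›)
  have h : J • (⊤ : Submodule S N) ≠ ⊤ := IdealDepth.smul_top_ne_top hJ
  refine (TensorProduct.tensorQuotEquivQuotSMul N (maximalIdeal R)).toEquiv.nontrivial_congr.mpr ?_
  rw [Submodule.Quotient.nontrivial_iff]
  intro htop
  refine h (top_le_iff.mp fun v _ => ?_)
  have hv : v ∈ maximalIdeal R • (⊤ : Submodule R N) := htop.ge trivial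
  refine Submodule.smul_induction_on hv (fun r hr w _ => ?_) fun a b ha hb => add_mem ha hb
  rw [← algebraMap_smul S r w]
  exact Submodule.smul_mem_smul (Ideal.mem_map_of_mem _ hr) trivial

theorem depth_base : ∀ (b : ℕ) (N : Type u) [AddCommGroup N] [Module S N] [Module R N] [IsScalarTower R S N]
    [Module.Finite S N] [Module.Flat R N] (M : Type u) [AddCommGroup M] [Module R M] [Module.Finite R M],
    LocCoh.depth R M = 0 → LocCoh.depth S (N ⊗[R] (R ⧸ maximalIdeal R)) = b →
      LocCoh.depth S (N ⊗[R] M) = b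
  | 0, N, _, _, _, _, _, _, M, _, _, _, hM, hN => by
    obtain ⟨p, hp, hmp⟩ := IdealDepth.eq_zero_iff.mp hM
    haveI : Module.Finite S (N ⊗[R] (R ⧸ maximalIdeal R)) := finite_tensor N
    obtain ⟨q, hq, hnq⟩ := IdealDepth.eq_zero_iff.mp hN
    obtain rfl : p = maximalIdeal R := ((maximalIdeal.isMaximal R).eq_of_le hp.isPrime.ne_top hmp).symm
    obtain ⟨hpr, z, hz⟩ := isAssociatedPrime_iff.mp hp
    let i : R ⧸ maximalIdeal R →ₗ[R] M := Submodule.liftQ _ (LinearMap.toSpanSingleton R M z) (le_of_eq (by
      ext r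
      rw [hz, LinearMap.mem_ker, Submodule.mem_colon_singleton, Submodule.mem_bot]
      rfl))
    have hi : Function.Injective i := by
      rw [← LinearMap.ker_eq_bot]
      refine Submodule.ker_liftQ_eq_bot _ _ _ (le_of_eq ?_)
      ext r
      rw [hz, LinearMap.mem_ker, Submodule.mem_colon_singleton, Submodule.mem_bot]
      rfl
    haveI : Module.Finite S (N ⊗[R] M) := finite_tensor N
    refine IdealDepth.eq_zero_iff.mpr ⟨q, associatedPrimes.subset_of_injective (f := lmap (S := S) N i) ?_ hq, hnq⟩
    exact Module.Flat.lTensor_preserves_injective_linearMap _ hi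
  | b + 1, N, _, _, _, _, _, _, M, _, _, _, hM, hN => by
    haveI : Module.Finite S (N ⊗[R] (R ⧸ maximalIdeal R)) := finite_tensor N
    haveI : Module.Finite S (N ⊗[R] M) := finite_tensor N
    obtain ⟨y, hym, hy⟩ := IdealDepth.one_le_iff_exists.mp (show 1 ≤ LocCoh.idealDepth (maximalIdeal S) _ by
      rw [show LocCoh.idealDepth (maximalIdeal S) (N ⊗[R] (R ⧸ maximalIdeal R)) = _ from hN]
      exact_mod_cast Nat.le_add_left 1 b)
    haveI := flat_quotient hy
    obtain ⟨ek⟩ := quotient_tensor_left (R := R) N (M := R ⧸ maximalIdeal R) y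
    obtain ⟨eM⟩ := quotient_tensor_left (R := R) N (M := M) y
    have h1 := IdealDepth.add_one_eq hym hy
    rw [IdealDepth.congr _ ek] at h1
    have hb : LocCoh.depth S (QuotSMulTop y N ⊗[R] (R ⧸ maximalIdeal R)) = b := by
      have h : _ + 1 = ((b : ℕ∞) + 1) := h1.trans (hN.trans (Nat.cast_succ b))
      exact (ENat.addLECancellable_natCast 1).inj_left.mp h
    have h2 := IdealDepth.add_one_eq hym (regular hy M)
    rw [IdealDepth.congr _ eM] at h2
    rw [← show _ = LocCoh.depth S (N ⊗[R] M) from h2]
    exact (congrArg (· + 1) (depth_base b (QuotSMulTop y N) M hM hb)).trans (Nat.cast_succ b).symm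

/-- The depth of a tensor product along a flat local homomorphism. -/
theorem depth_tensor (N : Type u) [AddCommGroup N] [Module S N] [Module R N] [IsScalarTower R S N]
    [Module.Finite S N] [Module.Flat R N] : ∀ (M : Type u) [AddCommGroup M] [Module R M] [Module.Finite R M],
    LocCoh.depth S (N ⊗[R] M) = LocCoh.depth R M + LocCoh.depth S (N ⊗[R] (R ⧸ maximalIdeal R)) := by
  intro M _ _ _
  rcases subsingleton_or_nontrivial M with hM | hM
  · have h1 : LocCoh.depth R M = ⊤ := IdealDepth.eq_top_iff'.mpr (Subsingleton.elim _ _)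
    have h2 : LocCoh.depth S (N ⊗[R] M) = ⊤ := IdealDepth.eq_top_iff'.mpr (Subsingleton.elim _ _)
    rw [h1, h2, top_add]
  rcases subsingleton_or_nontrivial N with hN | hN
  · have h1 : LocCoh.depth S (N ⊗[R] (R ⧸ maximalIdeal R)) = ⊤ := IdealDepth.eq_top_iff'.mpr (Subsingleton.elim _ _)
    have h2 : LocCoh.depth S (N ⊗[R] M) = ⊤ := IdealDepth.eq_top_iff'.mpr (Subsingleton.elim _ _)
    rw [h1, h2, add_top]
  obtain ⟨a, ha⟩ := ENat.ne_top_iff_exists.mp
    (IdealDepth.idealDepth_ne_top (M := M) (maximalIdeal.isMaximal R).ne_top)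
  induction a generalizing M with
  | zero =>
    haveI := nontrivial_fibre (R := R) (S := S) N
    haveI : Module.Finite S (N ⊗[R] (R ⧸ maximalIdeal R)) := finite_tensor N
    obtain ⟨b, hb⟩ := ENat.ne_top_iff_exists.mp
      (IdealDepth.idealDepth_ne_top (M := N ⊗[R] (R ⧸ maximalIdeal R)) (maximalIdeal.isMaximal S).ne_top)
    have ha' : LocCoh.depth R M = 0 := ha.symm.trans Nat.cast_zero
    rw [ha', zero_add, depth_base b N M ha' hb.symm]
    exact hb
  | succ a ih =>
    obtain ⟨x, hxm, hx⟩ := IdealDepth.one_le_iff_exists.mp (show 1 ≤ LocCoh.idealDepth (maximalIdeal R) M by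
      rw [← ha]
      exact_mod_cast Nat.le_add_left 1 a)
    have h1 := IdealDepth.add_one_eq hxm hx
    have ha' : ((a : ℕ) : ℕ∞) = LocCoh.depth R (QuotSMulTop x M) :=
      ((ENat.addLECancellable_natCast 1).inj_left.mp (h1.trans (ha.symm.trans (Nat.cast_succ a)))).symm
    haveI : Nontrivial (QuotSMulTop x M) := by
      by_contra hne
      rw [not_nontrivial_iff_subsingleton] at hne
      exact ENat.natCast_ne_top a (ha'.trans (IdealDepth.eq_top_iff'.mpr (Subsingleton.elim _ _)))
    have hxS : algebraMap R S x ∈ maximalIdeal S := by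
      rw [mem_maximalIdeal, mem_nonunits_iff, isUnit_map_iff]
      exact hxm
    haveI : Module.Finite S (N ⊗[R] M) := finite_tensor N
    have hreg : IsSMulRegular (N ⊗[R] M) (algebraMap R S x) := fun u v huv => by
      refine Module.Flat.lTensor_preserves_injective_linearMap (M := N) (LinearMap.lsmul R M x) hx ?_
      show lmap (S := S) N (LinearMap.lsmul R M x) u = lmap (S := S) N (LinearMap.lsmul R M x) v
      rw [lmap_lsmul, lmap_lsmul]
      exact huv
    obtain ⟨e⟩ := quotient_tensor_right (S := S) N (M := M) x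
    have h2 := IdealDepth.add_one_eq hxS hreg
    rw [IdealDepth.congr _ e] at h2
    rw [← show _ = LocCoh.depth S (N ⊗[R] M) from h2, ← show _ = LocCoh.depth R M from h1]
    show LocCoh.depth S (N ⊗[R] QuotSMulTop x M) + 1 = _
    rw [ih (QuotSMulTop x M) inferInstance ha']
    exact add_right_comm _ _ _

/-- The fibre module, as a quotient. -/
theorem exists_fibreEquiv (N : Type u) [AddCommGroup N] [Module S N] [Module R N] [IsScalarTower R S N] :
    Nonempty (N ⊗[R] (R ⧸ maximalIdeal R) ≃ₗ[S] N ⧸ (maximalIdeal R).map (algebraMap R S) • (⊤ : Submodule S N)) := by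
  let J := (maximalIdeal R).map (algebraMap R S)
  let g : N ⊗[R] R →ₗ[S] N ⧸ J • (⊤ : Submodule S N) :=
    (J • (⊤ : Submodule S N)).mkQ.comp (TensorProduct.AlgebraTensorModule.rid R S N).toLinearMap
  let q : N ⊗[R] R →ₗ[S] N ⊗[R] (R ⧸ maximalIdeal R) := lmap N (maximalIdeal R).mkQ
  have hq : Function.Surjective q := LinearMap.lTensor_surjective N (Submodule.mkQ_surjective _)
  have hker : LinearMap.ker q = LinearMap.ker g := by
    have hex : Function.Exact ((maximalIdeal R).subtype.lTensor N) ((maximalIdeal R).mkQ.lTensor N) :=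
      lTensor_exact N (LinearMap.exact_subtype_mkQ _) (Submodule.mkQ_surjective _)
    refine le_antisymm (fun z hz => ?_) fun z hz => ?_
    · obtain ⟨w, rfl⟩ := (hex z).mp hz
      clear hz
      induction w using TensorProduct.induction_on with
      | zero => simp
      | add a b ha hb => rw [map_add]; exact add_mem ha hb
      | tmul a r =>
        show g (a ⊗ₜ[R] (r : R)) = 0
        simp only [g, LinearMap.comp_apply, LinearEquiv.coe_coe, TensorProduct.AlgebraTensorModule.rid_tmul]
        rw [Submodule.mkQ_apply, Submodule.Quotient.mk_eq_zero, ← algebraMap_smul S (r : R) a]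
        exact Submodule.smul_mem_smul (Ideal.mem_map_of_mem _ r.2) trivial
    · obtain ⟨v, rfl⟩ : ∃ v : N, v ⊗ₜ[R] (1 : R) = z := ⟨TensorProduct.rid R N z, by
        rw [← TensorProduct.rid_symm_apply, LinearEquiv.symm_apply_apply]⟩
      have hv : v ∈ J • (⊤ : Submodule S N) := by simpa [g] using hz
      clear hz
      refine Submodule.smul_induction_on hv (fun s hs w _ => ?_) fun a b ha hb => by
        rw [TensorProduct.add_tmul]; exact add_mem ha hb
      induction hs using Submodule.span_induction with
      | mem s hs =>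
        obtain ⟨r, hr, rfl⟩ := hs
        show q ((algebraMap R S r • w) ⊗ₜ[R] 1) = 0
        rw [algebraMap_smul]
        simp only [q, TensorProduct.AlgebraTensorModule.lTensor_tmul, TensorProduct.smul_tmul, ← map_smul,
          smul_eq_mul, mul_one, Submodule.mkQ_apply, (Submodule.Quotient.mk_eq_zero _).mpr hr, TensorProduct.tmul_zero]
      | zero => simp
      | add a b _ _ ha hb => rw [add_smul, TensorProduct.add_tmul]; exact add_mem ha hb
      | smul c a _ ha =>
        rw [smul_eq_mul, mul_smul, show (c • a • w) ⊗ₜ[R] (1 : R) = c • ((a • w) ⊗ₜ[R] (1 : R)) from rfl]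
        exact Submodule.smul_mem _ _ ha
  have hg : Function.Surjective g :=
    (Submodule.mkQ_surjective _).comp (TensorProduct.AlgebraTensorModule.rid R S N).surjective
  exact ⟨(q.quotKerEquivOfSurjective hq).symm.trans ((Submodule.quotEquivOfEq _ _ hker).trans (g.quotKerEquivOfSurjective hg))⟩

theorem depth_tensor' (N : Type u) [AddCommGroup N] [Module S N] [Module R N] [IsScalarTower R S N]
    [Module.Finite S N] [Module.Flat R N] (M : Type u) [AddCommGroup M] [Module R M] [Module.Finite R M] :
    LocCoh.depth S (N ⊗[R] M) = LocCoh.depth R M +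
      LocCoh.depth S (N ⧸ (maximalIdeal R).map (algebraMap R S) • (⊤ : Submodule S N)) := by
  obtain ⟨e⟩ := exists_fibreEquiv (R := R) (S := S) N
  rw [depth_tensor N M]
  exact congrArg (LocCoh.depth R M + ·) (IdealDepth.congr _ e)

theorem depth_self [Module.Flat R S] :
    LocCoh.depth S S = LocCoh.depth R R +
      LocCoh.depth S (S ⧸ (maximalIdeal R).map (algebraMap R S) • (⊤ : Submodule S S)) := by
  rw [← depth_tensor' S R]
  exact (IdealDepth.congr _ (TensorProduct.AlgebraTensorModule.rid R S S)).symm

end depth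

end Groth.Agent.FibreDepth.DepthFlat
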