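import Mathlib
import Groth.Agent.FibreDepth.Components
import Groth.Agent.FibreDepth.EClosure
import Groth.Agent.FibreDepth.Unit

/-! Constructibility of the locus of points where the fibre is equidimensional. -/

set_option autoImplicit false
set_option backward.isDefEq.respectTransparency false
set_option linter.style.haveILetI false
universe u
open CategoryTheory AlgebraicGeometry TopologicalSpace Topology
open scoped TensorProduct

namespace Groth.Agent.FibreDepth.EquidimLocus
open Gen Fibre Constr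

variable {X Y : Scheme.{u}} (f : X ⟶ Y) [LocallyOfFinitePresentation f]

/-- points all whose associated generizations have dimension `i` -/
def Mi (F : X.Modules) (i : ℕ) : Set X := {x | x ∈ Loci.A f F i ∧ ∀ j, x ∈ Loci.A f F j → j = i}

variable {F : X.Modules} (hF : CohB1.IsFP F)
include hF

theorem lc_notEquidim : IsLocallyConstructible
    {x : X | ∃ i j, i ≠ j ∧ x ∈ E f (Mi f F i) i ∧ x ∈ E f (Mi f F j) j} := by
  refine isLC (f := f) hF _ fun A _ m M _ _ _ V φ hc => ?_
  let M' : ℕ → Set (PrimeSpectrum (MvPolynomial (Fin m) A)) := fun i =>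
    Families.gA A (Fin m) M i \ ⋃ j ∈ {j | j ≠ i ∧ j ≤ m}, Families.gA A (Fin m) M j
  have hM' : ∀ i, IsConstructible (M' i) := fun i => (Families.isConstructible_gA M i).sdiff
    (IsConstructible.biUnion ((Set.finite_Iic m).subset fun j hj => hj.2) fun j _ => Families.isConstructible_gA M j)
  have hmem : ∀ i (w : ↥(V : Scheme.{u})), w.1 ∈ Mi f F i ↔ φ w ∈ M' i := fun i w => by
    simp only [Mi, M', Set.mem_setOf_eq, Set.mem_sdiff, Set.mem_iUnion, exists_prop, mem_A_iff hc]
    refine and_congr_right fun _ => ⟨fun h ⟨j, hj, hjA⟩ => hj.1 (h j hjA), fun h j hj => by_contra fun hji =>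
      h ⟨j, ⟨hji, by simpa using Families.le_card_of_mem_E hj⟩, hj⟩⟩
  have hns : ∀ i, ∀ η ∈ M' i, ¬ Subsingleton (Ring.Loc A η ⊗[MvPolynomial (Fin m) A] M) := by
    intro i η hη hs
    obtain ⟨η', hT, hle, -, -⟩ := hη.1
    have h1 : Module.annihilator (MvPolynomial (Fin m) A) M ≤ η'.asIdeal :=
      not_not.mp (fun h => Families.not_subsingleton_of_mem_T hT ((Locus.subsingleton_iff (A := A) M η').mpr h))
    exact ((Locus.subsingleton_iff (A := A) M η).mp hs) (h1.trans hle)
  refine ⟨⋃ p ∈ {p : ℕ × ℕ | p.1 ≠ p.2 ∧ p.1 ≤ m ∧ p.2 ≤ m}, (Sets.E A (M' p.1) p.1 ∩ Sets.E A (M' p.2) p.2),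
    IsConstructible.biUnion (((Set.finite_Iic m).prod (Set.finite_Iic m)).subset fun p hp => hp.2)
      fun p _ => (EClosure.isConstructible_E (hM' _) _).inter (EClosure.isConstructible_E (hM' _) _), fun w => ?_⟩
  simp only [Set.mem_setOf_eq, Set.mem_iUnion, exists_prop, Prod.exists, Set.mem_inter_iff,
    mem_E_iff hc (hmem _) (hns _)]
  constructor
  · rintro ⟨i, j, hne, hi, hj⟩
    exact ⟨i, j, ⟨hne, by simpa using Families.le_card_of_mem_E hi, by simpa using Families.le_card_of_mem_E hj⟩, hi, hj⟩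
  · rintro ⟨i, j, hp, hi, hj⟩
    exact ⟨i, j, hp.1, hi, hj⟩

theorem mem_comp_iff (i : ℕ) (x : X) :
    x ∈ E f (Mi f F i) i ↔ ∃ w, w ⤳ f.asFiber x ∧ Loci.MinSupp f F (f.base x) w ∧
      topologicalKrullDim ↥(closure ({w} : Set ↥(f.fiber (f.base x)))) = (i : WithBot ℕ∞) := by
  have tr : ∀ (v : ↥(f.fiber (f.base x))) (k : ℕ),
      topologicalKrullDim ↥(closure ({v} : Set ↥(f.fiber (f.base x)))) = (k : WithBot ℕ∞) ↔
        cd f (f.fiberι (f.base x) v) = (k : ℕ) := fun v k =>
    fiber_iff f (P := fun t v => topologicalKrullDim ↥(closure ({v} : Set ↥(f.fiber t))) = (k : WithBot ℕ∞)) (f.base x) v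
  have ass : ∀ v : ↥(f.fiber (f.base x)), Loci.MinSupp f F (f.base x) v → dp f F (f.fiberι (f.base x) v) = 0 := fun v hv =>
    (Statements.ass_iff f F hF _).mp ((fiber_iff f (P := fun t v => v ∈ AssSch.Ass (fib f F t)) (f.base x) v).mp
      (Statements.ass_of_minSupp f F hF _ v hv))
  have hbase : ∀ v : ↥(f.fiber (f.base x)), f.base (f.fiberι (f.base x) v) = f.base x := fun v =>
    (f.range_fiberι _).subset ⟨v, rfl⟩
  have hinto : ∀ z : X, f.base z = f.base x → ∃ v, f.fiberι (f.base x) v = z := fun z hz =>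
    (f.range_fiberι (f.base x)).symm.subset (show z ∈ f ⁻¹' {f.base x} from hz)
  have hnz : ∀ (v : ↥(f.fiber (f.base x))), dp f F (f.fiberι (f.base x) v) = 0 →
      Nontrivial ((fib f F (f.base x)).presheaf.stalk v) := fun v h0 =>
    (fiber_iff f (P := fun t v => Nontrivial ((fib f F t).presheaf.stalk v)) (f.base x) v).mpr
      (Statements.nontrivial_of_dp f F _ _ h0)
  constructor
  · rintro ⟨z, ⟨hzA, huniq⟩, hzx, hsp, hiz⟩
    obtain ⟨z', hz'f, hz'z, h0, hz'i⟩ := (Loci.mem_A i z).mp hzA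
    obtain ⟨v', hv'⟩ := hinto z' (hz'f.trans hzx)
    obtain ⟨w, hwv', hw⟩ := Loci.exists_minSupp hF _ v' (hnz v' (by rw [hv']; exact h0))
    obtain ⟨j, hj⟩ := exists_cd f (f.fiberι (f.base x) w)
    have hwz : f.fiberι (f.base x) w ⤳ z := (hwv'.map (f.fiberι _).continuous).trans (hv'.symm ▸ hz'z)
    obtain rfl : j = i := huniq j ((Loci.mem_A j z).mpr ⟨_, (hbase w).trans hzx.symm, hwz, ass w hw, hj⟩)
    refine ⟨w, (f.fiberι _).isEmbedding.isInducing.specializes_iff.mp ?_, hw, (tr w j).mpr hj⟩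
    rw [Scheme.Hom.fiberι_asFiber]
    exact hwz.trans hsp
  · rintro ⟨w, hwx, hw, hwi⟩
    refine ⟨f.fiberι (f.base x) w, ⟨(Loci.mem_A i _).mpr ⟨_, rfl, specializes_rfl, ass w hw, (tr w i).mp hwi⟩, fun j hj => ?_⟩,
      hbase w, ?_, ((tr w i).mp hwi).ge⟩
    · obtain ⟨z, hzf, hzw, h0, hzj⟩ := (Loci.mem_A j _).mp hj
      obtain ⟨v, hv⟩ := hinto z (hzf.trans (hbase w))
      have hvw : v = w := hw.2 v ((f.fiberι _).isEmbedding.isInducing.specializes_iff.mp (by rw [hv]; exact hzw))
        (hnz v (by rw [hv]; exact h0))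
      rw [← hv, hvw, (tr w i).mp hwi] at hzj
      exact_mod_cast hzj.symm
    · have := hwx.map (f.fiberι (f.base x)).continuous
      rwa [Scheme.Hom.fiberι_asFiber] at this

omit hF in
theorem lc_equidim : IsLocallyConstructible {x : X | ∃ e : ℕ,
      ∀ Z ∈ irreducibleComponents (↥(f.fiber (f.base x)) : Type u), f.asFiber x ∈ Z →
        topologicalKrullDim (↥Z : Type u) = e} := by
  have hU := Unit.isFP_unit X
  refine (congrArg IsLocallyConstructible (Set.ext fun x => ?_)).mpr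
    (ConstrStatements.lc_compl (lc_notEquidim f hU))
  have hn : ∀ w : ↥(f.fiber (f.base x)), Nontrivial ((fib f (Coh.structureModule X) (f.base x)).presheaf.stalk w) := fun w => by
    obtain ⟨e⟩ := Unit.exists_stalk_equiv f (f.base x) w
    exact e.toEquiv.nontrivial
  have hcomp : ∀ w, Loci.MinSupp f (Coh.structureModule X) (f.base x) w → w ⤳ f.asFiber x →
      closure ({w} : Set ↥(f.fiber (f.base x))) ∈ irreducibleComponents (↥(f.fiber (f.base x)) : Type u) ∧
        f.asFiber x ∈ closure ({w} : Set ↥(f.fiber (f.base x))) := fun w hw hwx => by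
    refine ⟨⟨isIrreducible_singleton.closure, fun Z hZ hsub => ?_⟩, hwx.mem_closure⟩
    let v := hZ.genericPoint
    have hv : closure ({v} : Set ↥(f.fiber (f.base x))) = closure Z := hZ.genericPoint_closure_eq
    have hvw : v ⤳ w := specializes_iff_mem_closure.mpr (hv.symm ▸ subset_closure (hsub (subset_closure rfl)))
    rw [← hw.2 v hvw (hn v), hv]
    exact subset_closure
  rw [Set.mem_compl_iff, Set.mem_setOf_eq]
  constructor
  · rintro ⟨e, he⟩ ⟨i, j, hne, hi, hj⟩
    obtain ⟨w, hwx, hw, hwi⟩ := (mem_comp_iff f hU i x).mp hi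
    obtain ⟨v, hvx, hv, hvj⟩ := (mem_comp_iff f hU j x).mp hj
    have h1 := hwi.symm.trans (he _ (hcomp w hw hwx).1 (hcomp w hw hwx).2)
    have h2 := hvj.symm.trans (he _ (hcomp v hv hvx).1 (hcomp v hv hvx).2)
    exact hne (by exact_mod_cast h1.trans h2.symm)
  · intro h
    obtain ⟨w₀, hw₀x, hw₀⟩ := Loci.exists_minSupp hU _ _ (hn (f.asFiber x))
    have hcd : ∀ w : ↥(f.fiber (f.base x)), ∃ e : ℕ,
        topologicalKrullDim ↥(closure ({w} : Set ↥(f.fiber (f.base x)))) = (e : ℕ) := fun w =>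
      (fiber_iff f (P := fun y w => ∃ e : ℕ, topologicalKrullDim ↥(closure ({w} : Set ↥(f.fiber y))) = (e : ℕ)) (f.base x) w).mpr
        (exists_cd f _)
    obtain ⟨e, he⟩ := hcd w₀
    refine ⟨e, fun Z hZ hxZ => ?_⟩
    let g := hZ.1.genericPoint
    have hg : closure ({g} : Set ↥(f.fiber (f.base x))) = Z := by
      rw [hZ.1.genericPoint_closure_eq, (isClosed_of_mem_irreducibleComponents Z hZ).closure_eq]
    have hgmin : Loci.MinSupp f (Coh.structureModule X) (f.base x) g := ⟨hn g, fun v hvg _ => by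
      have hsub : Z ⊆ closure {v} := hg ▸ closure_minimal (Set.singleton_subset_iff.mpr hvg.mem_closure) isClosed_closure
      have hgv : g ⤳ v := specializes_iff_mem_closure.mpr
        (hg.symm ▸ hZ.2 isIrreducible_singleton.closure hsub (subset_closure rfl))
      exact (hvg.antisymm hgv).eq⟩
    have hgx : g ⤳ f.asFiber x := specializes_iff_mem_closure.mpr (hg.symm ▸ hxZ)
    obtain ⟨e', he'⟩ := hcd g
    obtain rfl : e' = e := by_contra fun hne => h ⟨e', e, hne, (mem_comp_iff f hU e' x).mpr ⟨g, hgx, hgmin, he'⟩,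
      (mem_comp_iff f hU e x).mpr ⟨w₀, hw₀x, hw₀, he⟩⟩
    rw [← hg]
    exact he'

end Groth.Agent.FibreDepth.EquidimLocus
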