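import Mathlib
import Groth.Agent.FibreDepth.ConstrStatements
import Groth.Agent.FibreDepth.Unit
import Groth.Agent.TopDim.Basic

/-! Constructibility of the dimension of the fibres. -/

set_option autoImplicit false
set_option backward.isDefEq.respectTransparency false
set_option linter.style.haveILetI false
universe u
open CategoryTheory AlgebraicGeometry TopologicalSpace Topology

namespace Groth.Agent.FibreDepth.FibreDim
open Gen Fibre Constr

theorem le_dim_iff {Z : Type u} [TopologicalSpace Z] [QuasiSober Z] (k : ℕ) :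
    (k : WithBot ℕ∞) ≤ topologicalKrullDim Z ↔ ∃ w : Z, (k : WithBot ℕ∞) ≤ topologicalKrullDim ↥(closure ({w} : Set Z)) := by
  constructor
  · intro h
    obtain ⟨p, hp⟩ := Order.le_krullDim_iff.mp h
    refine ⟨p.last.isIrreducible.genericPoint, le_trans ?_ (TopDim.Basic.restrict_closed p ?_)⟩
    · exact_mod_cast hp.ge
    · rw [p.last.isIrreducible.genericPoint_closure_eq, p.last.isClosed.closure_eq]
  · rintro ⟨w, hw⟩
    exact hw.trans IsInducing.subtypeVal.topologicalKrullDim_le

variable {X Y : Scheme.{u}} (f : X ⟶ Y) [LocallyOfFinitePresentation f]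

theorem geq_iff (k : ℕ) (s : Y) :
    s ∈ f.base '' {x : X | ∃ i, k ≤ i ∧ x ∈ Loci.A f (Coh.structureModule X) i} ↔
      (k : WithBot ℕ∞) ≤ topologicalKrullDim ↥(f.fiber s) := by
  have hF := Unit.isFP_unit X
  rw [le_dim_iff, ConstrStatements.mem_image_A f hF]
  constructor
  · rintro ⟨w, -, i, hki, hwi⟩
    exact ⟨w, by rw [hwi]; exact_mod_cast hki⟩
  · rintro ⟨w, hw⟩
    have hn : Nontrivial ((fib f (Coh.structureModule X) s).presheaf.stalk w) := by
      obtain ⟨e⟩ := Unit.exists_stalk_equiv f s w
      exact e.toEquiv.nontrivial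
    obtain ⟨v, hvw, hv⟩ := Loci.exists_minSupp hF s w hn
    obtain ⟨e, he⟩ := (fiber_iff f (P := fun y w => ∃ e : ℕ,
      topologicalKrullDim ↥(closure ({w} : Set ↥(f.fiber y))) = (e : ℕ)) s v).mpr (exists_cd f _)
    refine ⟨v, Statements.ass_of_minSupp f _ hF s v hv, e, ?_, he⟩
    have hsub : closure ({w} : Set ↥(f.fiber s)) ⊆ closure {v} :=
      closure_minimal (Set.singleton_subset_iff.mpr hvw.mem_closure) isClosed_closure
    have h := hw.trans ((IsEmbedding.inclusion hsub).isInducing.topologicalKrullDim_le)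
    rw [he] at h
    exact_mod_cast h

theorem dim_ne_top [QuasiCompact f] (s : Y) : topologicalKrullDim ↥(f.fiber s) ≠ ((⊤ : ℕ∞) : WithBot ℕ∞) := by
  intro htop
  choose V n hxV hV using fun w : ↥(f.fiber s) => exists_bound f (f.fiberι s w)
  haveI : QuasiCompact (f.fiberToSpecResidueField s) :=
    MorphismProperty.pullback_snd (P := @QuasiCompact) _ _ inferInstance
  haveI : CompactSpace ↥(f.fiber s) := QuasiCompact.compactSpace_of_compactSpace (f.fiberToSpecResidueField s)
  obtain ⟨t, ht⟩ := CompactSpace.elim_nhds_subcover (fun w => (f.fiberι s) ⁻¹' (V w : Set X))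
    fun w => ((V w).isOpen.preimage (f.fiberι s).continuous).mem_nhds (hxV w)
  obtain ⟨w, hw⟩ := (le_dim_iff (Z := ↥(f.fiber s)) (t.sup n + 1)).mp (htop ▸ WithBot.coe_le_coe.mpr le_top)
  obtain ⟨a, hat, ha⟩ : ∃ a ∈ t, f.fiberι s w ∈ V a := by
    have : w ∈ ⋃ x ∈ t, (f.fiberι s) ⁻¹' (V x : Set X) := ht.symm ▸ trivial
    simpa using this
  obtain ⟨e, hen, he⟩ := hV a _ ha
  rw [(fiber_iff f (P := fun y w => topologicalKrullDim ↥(closure ({w} : Set ↥(f.fiber y))) = (e : WithBot ℕ∞)) s w).mpr he] at hw
  have : t.sup n + 1 ≤ e := by exact_mod_cast hw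
  have := Finset.le_sup (f := n) hat
  omega

theorem lc_dim_eq [QuasiCompact f] (n : WithBot ℕ∞) :
    IsLocallyConstructible {y : Y | topologicalKrullDim ↥(f.fiber y) = n} := by
  have hF := Unit.isFP_unit X
  have hlc : ∀ k : ℕ, IsLocallyConstructible {y : Y | (k : WithBot ℕ∞) ≤ topologicalKrullDim ↥(f.fiber y)} := fun k =>
    (congrArg IsLocallyConstructible (Set.ext fun s => geq_iff f k s)).mp
      (f.isLocallyConstructible_image (lc_assDims (f := f) hF fun i => k ≤ i))
  induction n using WithBot.recBotCoe with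
  | bot =>
    refine (congrArg IsLocallyConstructible (Set.ext fun s => ?_)).mpr (ConstrStatements.lc_compl (hlc 0))
    rw [Set.mem_setOf_eq, Set.mem_compl_iff, Set.mem_setOf_eq, Nat.cast_zero]
    constructor
    · intro h
      rw [h]
      simp
    · intro h
      by_contra hne
      obtain ⟨m, hm⟩ := WithBot.ne_bot_iff_exists.mp hne
      exact h (hm ▸ WithBot.coe_le_coe.mpr zero_le)
  | coe n =>
    induction n using ENat.recTopCoe with
    | top =>
      refine (congrArg IsLocallyConstructible (Set.ext fun s => ?_)).mpr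
        (IsConstructible.empty.isLocallyConstructible)
      exact iff_of_false (dim_ne_top f s) id
    | coe k =>
      refine (congrArg IsLocallyConstructible (Set.ext fun s => ?_)).mpr
        (ConstrStatements.lc_diff (hlc k) (hlc (k + 1)))
      simp only [Set.mem_sdiff, Set.mem_setOf_eq]
      generalize topologicalKrullDim ↥(f.fiber s) = d
      induction d using WithBot.recBotCoe with
      | bot => simp
      | coe d =>
        induction d using ENat.recTopCoe with
        | top =>
          exact iff_of_false (fun h => ENat.natCast_ne_top k (WithBot.coe_inj.mp h).symm)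
            fun h => h.2 (WithBot.coe_le_coe.mpr le_top)
        | coe t =>
          norm_cast
          omega

end Groth.Agent.FibreDepth.FibreDim
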