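import Groth.Agent.Flat.FibreCriterion
import Groth.Agent.Flat.OpenLocus

/-! Flatness on modules killed by an ideal: base change, descent, quotient rings. -/

set_option autoImplicit false

noncomputable section

namespace Groth.Agent.FibreDepth.KilledFlat

universe u

open scoped TensorProduct
open Flat.Descent Flat.FlatAt Flat.OpenLocus Flat.GlobalModel Flat.FibreCriterion

section up

variable {BT B CT C MT M : Type u} [CommRing BT] [CommRing B] [CommRing CT] [CommRing C]
  [Algebra BT CT] [Algebra B C] [Algebra BT B]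
  [AddCommGroup MT] [Module BT MT] [Module CT MT] [IsScalarTower BT CT MT]
  [AddCommGroup M] [Module B M] [Module C M] [IsScalarTower B C M]
  [Module BT M] [IsScalarTower BT B M]

/-- the condition is stable under base change -/
theorem killed_baseChange (φC : CT →+* C) (j : MT →ₗ[BT] M) (hj : IsBaseChange B j)
    (hjC : ∀ c m, j (c • m) = φC c • j m) {I : Ideal BT} {I' : Ideal B}
    (hI : I.map (algebraMap BT B) ≤ I') {q : Ideal CT} {q' : Ideal C} (hq : q'.comap φC ≤ q)
    (h : FlatAtKilled BT MT I q) : FlatAtKilled B M I' q' := by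
  intro P Q _ _ _ _ f hf hP hQ x hx
  letI : Module BT P := Module.compHom P (algebraMap BT B)
  haveI : IsScalarTower BT B P := IsScalarTower.of_algebraMap_smul fun _ _ => rfl
  letI : Module BT Q := Module.compHom Q (algebraMap BT B)
  haveI : IsScalarTower BT B Q := IsScalarTower.of_algebraMap_smul fun _ _ => rfl
  obtain ⟨x, rfl⟩ := (twist j hj).surjective x
  rw [← twist_lTensor, map_eq_zero_iff _ (twist j hj).injective] at hx
  obtain ⟨s, hs, hs0⟩ := h (f.restrictScalars BT) hf
    (fun i hi z => hP _ (hI (Ideal.mem_map_of_mem _ hi)) z)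
    (fun i hi z => hQ _ (hI (Ideal.mem_map_of_mem _ hi)) z) x hx
  refine ⟨φC s, fun h' => hs (hq h'), ?_⟩
  rw [← twist_smul φC j hj hjC, hs0, map_zero]

end up

section quotient

variable {B₀ B C₀ C M : Type u} [CommRing B₀] [CommRing B] [CommRing C₀] [CommRing C]
  [Algebra B₀ B] [Algebra B C] [Algebra B₀ C] [IsScalarTower B₀ B C] [Algebra B₀ C₀]
  [AddCommGroup M] [Module B₀ M] [Module B M] [Module C M] [Module C₀ M]
  [IsScalarTower B₀ B M] [IsScalarTower B₀ C M] [IsScalarTower B C M] [IsScalarTower B₀ C₀ M]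

/-- the condition only depends on the quotient rings -/
theorem killed_quot_iff (hs : Function.Surjective (algebraMap B₀ B)) (π : C₀ →+* C)
    (hπ : Function.Surjective π) (hsmul : ∀ (s : C₀) (m : M), π s • m = s • m) (I₀ : Ideal B₀)
    (hker : RingHom.ker (algebraMap B₀ B) ≤ I₀) (q : Ideal C) [q.IsPrime] :
    FlatAtKilled B M (I₀.map (algebraMap B₀ B)) q ↔ FlatAtKilled B₀ M I₀ (q.comap π) := by
  constructor
  · intro h
    exact (h.of_surjective hs ⊥ q (fun t ht => by
      rw [Submonoid.mem_bot.mp ht, map_one]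
      exact fun h1 => (inferInstance : q.IsPrime).ne_top ((Ideal.eq_top_iff_one q).mpr h1)) I₀
      (fun j hj => ⟨1, Submonoid.mem_bot.mpr rfl, by rw [one_mul]; exact hker hj⟩)).comap π hπ hsmul
  · intro h P Q _ _ _ _ f hf hP hQ x hx
    letI : Module B₀ P := Module.compHom P (algebraMap B₀ B)
    haveI : IsScalarTower B₀ B P := IsScalarTower.of_algebraMap_smul fun _ _ => rfl
    letI : Module B₀ Q := Module.compHom Q (algebraMap B₀ B)
    haveI : IsScalarTower B₀ B Q := IsScalarTower.of_algebraMap_smul fun _ _ => rfl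
    let j : M →ₗ[B₀] M := LinearMap.id
    have hj : IsBaseChange B j := isBaseChange_id_of_surjective hs
    obtain ⟨x, rfl⟩ := (twist j hj).surjective x
    rw [← twist_lTensor, map_eq_zero_iff _ (twist j hj).injective] at hx
    obtain ⟨s, hs, hs0⟩ := h (f.restrictScalars B₀) hf
      (fun i hi z => hP _ (Ideal.mem_map_of_mem _ hi) z)
      (fun i hi z => hQ _ (Ideal.mem_map_of_mem _ hi) z) x hx
    refine ⟨π s, hs, ?_⟩
    rw [← twist_smul π j hj fun c m => (hsmul c m).symm, hs0, map_zero]

end quotient

section fieldDescent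

variable {A R BT CT B C MT M : Type u} [CommRing A] [CommRing R] [CommRing BT] [CommRing CT]
  [CommRing B] [CommRing C] [Algebra A R] [Algebra A BT] [Algebra A CT] [Algebra BT CT]
  [IsScalarTower A BT CT] [Algebra R B] [Algebra A B] [IsScalarTower A R B] [Algebra BT B]
  [IsScalarTower A BT B] [Algebra.IsPushout A R BT B]
  [Algebra R C] [Algebra B C] [IsScalarTower R B C] [Algebra A C] [IsScalarTower A R C]
  [AddCommGroup MT] [Module A MT] [Module BT MT] [Module CT MT] [IsScalarTower BT CT MT]
  [IsScalarTower A CT MT] [IsScalarTower A BT MT]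
  [AddCommGroup M] [Module B M] [Module C M] [IsScalarTower B C M]
  [Module BT M] [IsScalarTower BT B M]

/-- descending the fibre condition along a base change of the coefficient ring -/
theorem killed_descend (J : Ideal BT) (φC : CT →ₐ[A] C) (hC : IsBaseChange R φC.toLinearMap)
    (j : MT →ₗ[BT] M) (hj : IsBaseChange B j) (hjC : ∀ c m, j (c • m) = φC c • j m)
    (q : Ideal C) [q.IsPrime] (p : Ideal R) [p.IsPrime] (hpq : q.comap (algebraMap R C) = p)
    (h : FlatAtKilled B M (p.map (algebraMap R B) ⊔ J.map (algebraMap BT B)) q) :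
    FlatAtKilled BT MT ((p.comap (algebraMap A R)).map (algebraMap A BT) ⊔ J)
      (q.comap φC.toRingHom) := by
  classical
  intro P Q _ _ _ _ f hf hP hQ ξ hξ
  letI : Module A P := Module.compHom P (algebraMap A BT)
  haveI : IsScalarTower A BT P := IsScalarTower.of_algebraMap_smul fun _ _ => rfl
  letI : Module A Q := Module.compHom Q (algebraMap A BT)
  haveI : IsScalarTower A BT Q := IsScalarTower.of_algebraMap_smul fun _ _ => rfl
  let pA := p.comap (algebraMap A R)
  let κ := p.ResidueField
  letI : Algebra κ (B ⊗[R] κ) := Algebra.TensorProduct.rightAlgebra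
  haveI : Algebra.IsPushout R κ B (B ⊗[R] κ) := Algebra.IsPushout.symm inferInstance
  haveI : IsScalarTower A κ (B ⊗[R] κ) := IsScalarTower.of_algebraMap_eq fun a => by
    rw [IsScalarTower.algebraMap_apply A R (B ⊗[R] κ), IsScalarTower.algebraMap_apply A R κ,
      ← IsScalarTower.algebraMap_apply R κ (B ⊗[R] κ)]
  haveI : IsScalarTower BT B (B ⊗[R] κ) := inferInstance
  haveI : Algebra.IsPushout A κ BT (B ⊗[R] κ) :=
    (Algebra.IsPushout.comp_iff (R := A) (S := R) (R' := BT) (S' := B) (T := κ)
      (T' := B ⊗[R] κ)).mpr inferInstance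
  have hkilled : ∀ {N : Type u} [AddCommGroup N] [Module BT N], (∀ i ∈ J, ∀ x : N, i • x = 0) →
      ∀ i ∈ p.map (algebraMap R B) ⊔ J.map (algebraMap BT B), ∀ x : (B ⊗[R] κ) ⊗[BT] N, i • x = 0 := by
    intro N _ _ hN i hi x
    obtain ⟨u, hu, v, hv, rfl⟩ := Submodule.mem_sup.mp hi
    have hJ : J.map (algebraMap BT B) ≤ LinearMap.ker (LinearMap.toSpanSingleton B _ x) := by
      refine Ideal.map_le_iff_le_comap.mpr fun j hj => ?_
      show algebraMap BT B j • x = 0
      rw [algebraMap_smul]
      induction x using TensorProduct.induction_on with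
      | zero => simp
      | add a b ha hb => rw [smul_add, ha, hb, add_zero]
      | tmul k n => rw [← TensorProduct.tmul_smul, hN j hj, TensorProduct.tmul_zero]
    rw [add_smul, show v • x = 0 from hJ hv, add_zero]
    clear hJ
    revert x
    clear hi hv v
    rename' u => i, hu => hi
    have hi0 : algebraMap B (B ⊗[R] κ) i = 0 := by
      induction hi using Submodule.span_induction with
      | mem x hx =>
        obtain ⟨r, hr, rfl⟩ := hx
        rw [← IsScalarTower.algebraMap_apply R B (B ⊗[R] κ),
          IsScalarTower.algebraMap_apply R κ (B ⊗[R] κ),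
          Ideal.algebraMap_residueField_eq_zero.mpr hr, map_zero]
      | zero => exact map_zero _
      | add x y _ _ hx hy => rw [map_add, hx, hy, add_zero]
      | smul s x _ hx => rw [smul_eq_mul, map_mul, hx, mul_zero]
    intro x
    rw [← algebraMap_smul (B ⊗[R] κ) i x, hi0, zero_smul]
  -- the injection stays injective
  let f' : (B ⊗[R] κ) ⊗[BT] P →ₗ[B] (B ⊗[R] κ) ⊗[BT] Q :=
    (f.baseChange (B ⊗[R] κ)).restrictScalars B
  let eP : (B ⊗[R] κ) ⊗[BT] P ≃ₗ[κ] κ ⊗[A] P :=
    Algebra.IsPushout.cancelBaseChange A κ BT (B ⊗[R] κ) P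
  let eQ : (B ⊗[R] κ) ⊗[BT] Q ≃ₗ[κ] κ ⊗[A] Q :=
    Algebra.IsPushout.cancelBaseChange A κ BT (B ⊗[R] κ) Q
  have hκf : Function.Injective ((f.restrictScalars A).baseChange κ) :=
    flat_residueField_lTensor_injective p (f.restrictScalars A) hf
      (fun a ha x => by
        show algebraMap A BT a • x = 0
        exact hP _ (Ideal.mem_sup_left (Ideal.mem_map_of_mem _ ha)) x)
      (fun a ha x => by
        show algebraMap A BT a • x = 0
        exact hQ _ (Ideal.mem_sup_left (Ideal.mem_map_of_mem _ ha)) x)
  have hf' : Function.Injective f' := by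
    have key : ∀ z, eQ (f' z) = (f.restrictScalars A).baseChange κ (eP z) := fun z => by
      obtain ⟨z, rfl⟩ := eP.symm.surjective z
      rw [LinearEquiv.apply_symm_apply]
      induction z using TensorProduct.induction_on with
      | zero => simp
      | add a b ha hb => simp only [map_add, ha, hb]
      | tmul k v =>
        refine eQ.symm.injective ?_
        simp [f', eP, eQ, Algebra.IsPushout.cancelBaseChange_symm_tmul]
    intro x y hxy
    refine eP.injective (hκf ?_)
    rw [← key, ← key, hxy]
  -- push the element up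
  let mkP : P →ₗ[BT] (B ⊗[R] κ) ⊗[BT] P := TensorProduct.mk BT (B ⊗[R] κ) P 1
  let x' := twist j hj (mkP.lTensor MT ξ)
  have hx' : f'.lTensor M x' = 0 := by
    rw [← twist_lTensor, ← LinearMap.lTensor_comp_apply,
      show f'.restrictScalars BT ∘ₗ mkP = TensorProduct.mk BT (B ⊗[R] κ) Q 1 ∘ₗ f from
        LinearMap.ext fun v => by simp [f', mkP],
      LinearMap.lTensor_comp_apply, hξ, map_zero, map_zero]
  obtain ⟨s, hs, hs0⟩ := h f' hf' (hkilled fun i hi => hP i (Ideal.mem_sup_right hi)) (hkilled fun i hi => hQ i (Ideal.mem_sup_right hi)) x' hx'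
  let Ψ : κ ⊗[A] (MT ⊗[BT] P) →+ M ⊗[B] ((B ⊗[R] κ) ⊗[BT] P) :=
    (((Algebra.IsPushout.cancelBaseChange A κ BT (B ⊗[R] κ) (MT ⊗[BT] P)).symm.toAddEquiv.trans
      (TensorProduct.leftComm BT (B ⊗[R] κ) MT P).toAddEquiv).trans
      (twist j hj).toAddEquiv).toAddMonoidHom
  have hΨinj : Function.Injective Ψ := AddEquiv.injective _
  have hΨ : ∀ (k : κ) m v, Ψ (k ⊗ₜ (m ⊗ₜ v)) =
      j m ⊗ₜ[B] (algebraMap κ (B ⊗[R] κ) k ⊗ₜ[BT] v) := fun k m v => by
    simp [Ψ, Algebra.IsPushout.cancelBaseChange_symm_tmul, twist_tmul]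
  have hxΨ : ∀ z, twist j hj (mkP.lTensor MT z) = Ψ (1 ⊗ₜ z) := fun z => by
    induction z using TensorProduct.induction_on with
    | zero => simp
    | add a b ha hb => rw [map_add, map_add, ha, hb, TensorProduct.tmul_add, map_add]
    | tmul m v => rw [hΨ, LinearMap.lTensor_tmul, twist_tmul, map_one]; rfl
  refine exists_smul_eq_zero_descend φC hC q p hpq ?_ Ψ hΨinj ?_ ?_ ξ hs
    (by rw [← hxΨ]; exact hs0)
  · intro a ha z
    induction z using TensorProduct.induction_on with
    | zero => simp
    | add u v hu hv => rw [smul_add, hu, hv, add_zero]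
    | tmul m v =>
      rw [← algebraMap_smul BT a (m ⊗ₜ[BT] v), ← TensorProduct.tmul_smul,
        hP _ (Ideal.mem_sup_left (Ideal.mem_map_of_mem _ ha)) v, TensorProduct.tmul_zero]
  · intro r z
    induction z using TensorProduct.induction_on with
    | zero => simp
    | add a b ha hb => rw [smul_add, map_add, ha, hb, map_add, smul_add]
    | tmul k n =>
      induction n using TensorProduct.induction_on with
      | zero => simp
      | add a b ha hb =>
        rw [TensorProduct.tmul_add, smul_add, map_add, ha, hb, map_add, smul_add]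
      | tmul m v =>
        rw [TensorProduct.smul_tmul', hΨ, hΨ, TensorProduct.smul_tmul',
          IsScalarTower.algebraMap_apply R B C, algebraMap_smul, TensorProduct.smul_tmul,
          TensorProduct.smul_tmul', ← algebraMap_smul (B ⊗[R] κ) (algebraMap R B r),
          smul_eq_mul, Algebra.smul_def, map_mul,
          ← IsScalarTower.algebraMap_apply R B (B ⊗[R] κ),
          ← IsScalarTower.algebraMap_apply R κ (B ⊗[R] κ)]
  · intro c z
    induction z using TensorProduct.induction_on with
    | zero => simp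
    | add a b ha hb => rw [smul_add, TensorProduct.tmul_add, map_add, ha, hb, TensorProduct.tmul_add,
        map_add, smul_add]
    | tmul m v => rw [TensorProduct.smul_tmul', hΨ, hΨ, TensorProduct.smul_tmul', hjC]

end fieldDescent

end Groth.Agent.FibreDepth.KilledFlat
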