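import Mathlib
import Groth.Prelude.Def_FlatMod2
import Groth.Agent.FibreDepth.FibreStalk
import Groth.Agent.FibreDepth.KilledFlat
import Groth.Agent.ModStalk.PullbackBC
import Groth.Agent.ModStalk.Unit

/-! Flatness of the restrictions to the fibres, on local rings. -/

set_option autoImplicit false
set_option backward.isDefEq.respectTransparency false
set_option linter.style.haveILetI false
noncomputable section
universe u
open CategoryTheory CategoryTheory.Limits AlgebraicGeometry TopologicalSpace IsLocalRing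
open scoped TensorProduct
open Groth.Agent.Flat.FlatAt Groth.Agent.Flat.FibreCriterion

namespace Groth.Agent.FibreDepth.FibreFlatStalk

/-- flatness over a quotient is injectivity on the modules it sees -/
theorem flat_iff_killed {R R' A M M' : Type u} [CommRing R] [CommRing R'] [CommRing A] [IsLocalRing A]
    [Algebra R R'] [Algebra R A] [AddCommGroup M] [Module R M] [Module A M] [IsScalarTower R A M]
    [AddCommGroup M'] [Module R' M'] [Module R M'] [IsScalarTower R R' M']
    (hs : Function.Surjective (algebraMap R R')) (j : M →ₗ[R] M') (hj : IsBaseChange R' j) :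
    Module.Flat R' M' ↔ FlatAtKilled R M (RingHom.ker (algebraMap R R')) (maximalIdeal A) := by
  constructor
  · intro hfl P Q _ _ _ _ f hf hP hQ x hx
    letI : Module R' P := quotModule hs hP
    letI : Module R' Q := quotModule hs hQ
    haveI : IsScalarTower R R' P := quotModule_isScalarTower hs hP
    haveI : IsScalarTower R R' Q := quotModule_isScalarTower hs hQ
    let f' : P →ₗ[R'] Q := LinearMap.extendScalarsOfSurjective hs f
    refine ⟨1, fun h => (maximalIdeal.isMaximal A).ne_top ((Ideal.eq_top_iff_one _).mpr h), ?_⟩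
    rw [one_smul]
    refine (twist j hj).injective ?_
    rw [map_zero]
    refine Module.Flat.lTensor_preserves_injective_linearMap f' hf ?_
    rw [map_zero, ← twist_lTensor, show f'.restrictScalars R = f from rfl, hx, map_zero]
  · intro hK
    rw [Module.Flat.iff_lTensor_injective']
    intro a
    rw [injective_iff_map_eq_zero]
    intro x hx
    obtain ⟨x, rfl⟩ := (twist j hj).surjective x
    rw [← twist_lTensor, map_eq_zero_iff _ (twist j hj).injective] at hx
    have hkill : ∀ {N : Type u} [AddCommGroup N] [Module R' N] [Module R N] [IsScalarTower R R' N],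
        ∀ i ∈ RingHom.ker (algebraMap R R'), ∀ z : N, i • z = 0 := fun i hi z => by
      rw [← algebraMap_smul R' i z, RingHom.mem_ker.mp hi, zero_smul]
    obtain ⟨t, ht, ht0⟩ := hK (a.subtype.restrictScalars R) (Submodule.injective_subtype a) hkill hkill x hx
    have hu : IsUnit t := by
      by_contra hn
      exact ht ((mem_maximalIdeal t).mpr hn)
    rw [(hu.smul_eq_zero).mp ht0, map_zero]

variable {X Y S : Scheme.{u}} (f : X ⟶ Y) (h : Y ⟶ S) (F : X.Modules)

/-- the ideal of the fibre of the target -/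
abbrev J (x : X) : Ideal (Y.presheaf.stalk (f x)) :=
  (maximalIdeal (S.presheaf.stalk (h (f x)))).map (h.stalkMap (f x)).hom

/-- the restriction of `F` to the fibre is flat over the fibre of the target at `x` -/
def K (x : X) : Prop :=
  letI := (f.stalkMap x).hom.toAlgebra
  letI := FlatMod.moduleStalkOver f F x
  haveI : IsScalarTower (Y.presheaf.stalk (f x)) (X.presheaf.stalk x) (F.presheaf.stalk x) :=
    IsScalarTower.of_algebraMap_smul fun _ _ => rfl
  FlatAtKilled (Y.presheaf.stalk (f x)) (F.presheaf.stalk x) (J f h x) (maximalIdeal (X.presheaf.stalk x))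

theorem flat_quot_iff (x : X) :
    (letI := FlatMod.moduleStalkOver f F x;
      Module.Flat (↑(Y.presheaf.stalk (f x)) ⧸ Ideal.map (h.stalkMap (f x)).hom (IsLocalRing.maximalIdeal ↑(S.presheaf.stalk (h (f x)))))
        (↑(F.presheaf.stalk x) ⧸ (Ideal.map (h.stalkMap (f x)).hom (IsLocalRing.maximalIdeal ↑(S.presheaf.stalk (h (f x)))) •
          (⊤ : Submodule ↑(Y.presheaf.stalk (f x)) ↑(F.presheaf.stalk x))))) ↔ K f h F x := by
  letI := (f.stalkMap x).hom.toAlgebra
  letI := FlatMod.moduleStalkOver f F x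
  haveI : IsScalarTower (Y.presheaf.stalk (f x)) (X.presheaf.stalk x) (F.presheaf.stalk x) :=
    IsScalarTower.of_algebraMap_smul fun _ _ => rfl
  let I := J f h x
  let M := F.presheaf.stalk x
  let j : M →ₗ[Y.presheaf.stalk (f x)] M ⧸ (I • ⊤ : Submodule (Y.presheaf.stalk (f x)) M) := Submodule.mkQ _
  have hj : IsBaseChange (Y.presheaf.stalk (f x) ⧸ I) j := by
    refine IsBaseChange.of_equiv (LinearEquiv.extendScalarsOfSurjective Ideal.Quotient.mk_surjective
      (TensorProduct.quotTensorEquivQuotSMul M I)) fun v => ?_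
    show TensorProduct.quotTensorEquivQuotSMul M I (1 ⊗ₜ v) = _
    rw [← map_one (Ideal.Quotient.mk I), TensorProduct.quotTensorEquivQuotSMul_mk_tmul, one_smul]
    rfl
  have := flat_iff_killed (A := X.presheaf.stalk x) Ideal.Quotient.mk_surjective j hj
  rw [show RingHom.ker (algebraMap (Y.presheaf.stalk (f x)) (Y.presheaf.stalk (f x) ⧸ I)) = I from Ideal.mk_ker] at this
  exact this

/-- the local rings of a fibre -/
theorem ker_stalk {Ys : Scheme.{u}} (s : S) (ιY : Ys ⟶ Y) (pY : Ys ⟶ Spec (S.residueField s))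
    (hY : IsPullback ιY pY h (S.fromSpecResidueField s)) (z : Ys) (y : Y) (hy : ιY z = y) :
    Function.Surjective (Y.presheaf.stalkSpecializes (specializes_of_eq hy) ≫ ιY.stalkMap z).hom ∧
      RingHom.ker (Y.presheaf.stalkSpecializes (specializes_of_eq hy) ≫ ιY.stalkMap z).hom =
        (maximalIdeal (S.presheaf.stalk (h y))).map (h.stalkMap y).hom := by
  subst hy
  rw [TopCat.Presheaf.stalkSpecializes_refl, Category.id_comp]
  obtain ⟨e, rfl⟩ : ∃ e : Ys ≅ h.fiber s, ιY = e.hom ≫ h.fiberι s :=
    ⟨hY.isoPullback, (hY.isoPullback_hom_fst).symm⟩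
  rw [Scheme.Hom.stalkMap_comp, CommRingCat.hom_comp]
  have hb : Function.Bijective (e.hom.stalkMap z).hom := ConcreteCategory.bijective_of_isIso (e.hom.stalkMap z)
  refine ⟨hb.2.comp (FibreStalk.surjective h s _), ?_⟩
  rw [RingHom.ker_comp_of_injective _ hb.1]
  exact FibreStalk.ker_eq h s (e.hom z)

set_option maxHeartbeats 1000000 in
theorem isFlatOverAt_iff {Xs Ys : Scheme.{u}} (s : S) (ιX : Xs ⟶ X) (ιY : Ys ⟶ Y) (fs : Xs ⟶ Ys)
    (pY : Ys ⟶ Spec (S.residueField s)) (hY : IsPullback ιY pY h (S.fromSpecResidueField s))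
    (hX : IsPullback ιX fs f ιY) (x' : Xs) :
    FlatMod.IsFlatOverAt fs ((Scheme.Modules.pullback ιX).obj F) x' ↔ K f h F (ιX x') := by
  let x := ιX x'
  have hy : ιY (fs x') = f x := by
    rw [← Scheme.Hom.comp_apply, ← hX.w, Scheme.Hom.comp_apply]
  obtain ⟨hs, hker⟩ := ker_stalk h s ιY pY hY (fs x') (f x) hy
  letI := (f.stalkMap x).hom.toAlgebra
  letI := (Y.presheaf.stalkSpecializes (specializes_of_eq hy) ≫ ιY.stalkMap (fs x')).hom.toAlgebra
  obtain ⟨φ, hl, hr, Q, hQ, hK⟩ := ModStalk.exists_stalk_localization hX x'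
  letI := (ιX.stalkMap x').hom.toAlgebra
  letI := (fs.stalkMap x').hom.toAlgebra
  letI := FlatMod.moduleStalkOver f F x
  let R := Y.presheaf.stalk (f x)
  let A := X.presheaf.stalk x
  let R' := Ys.presheaf.stalk (fs x')
  let O := Xs.presheaf.stalk x'
  let Fx := F.presheaf.stalk x
  haveI : IsScalarTower R A Fx := IsScalarTower.of_algebraMap_smul fun _ _ => rfl
  letI : Algebra (A ⊗[R] R') O := φ.toAlgebra
  haveI := hK
  have hgen : ∀ t : A ⊗[R] R', ∃ a : A, t = a ⊗ₜ 1 := fun t => by
    induction t using TensorProduct.induction_on with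
    | zero => exact ⟨0, (TensorProduct.zero_tmul _ _).symm⟩
    | add a b ha hb =>
      obtain ⟨a, rfl⟩ := ha
      obtain ⟨b, rfl⟩ := hb
      exact ⟨a + b, (TensorProduct.add_tmul _ _ _).symm⟩
    | tmul a r =>
      obtain ⟨r, rfl⟩ := hs r
      exact ⟨r • a, by rw [TensorProduct.smul_tmul, ← Algebra.algebraMap_eq_smul_one]; rfl⟩
  have hunit : Q.primeCompl ≤ IsUnit.submonoid (A ⊗[R] R') := fun t ht => by
    obtain ⟨a, rfl⟩ := hgen t
    have hu : IsUnit (φ (a ⊗ₜ 1)) := IsLocalization.map_units O (⟨a ⊗ₜ 1, ht⟩ : Q.primeCompl)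
    rw [hl] at hu
    exact (isUnit_of_map_unit (ιX.stalkMap x').hom a hu).map (Algebra.TensorProduct.includeLeftRingHom : A →+* A ⊗[R] R')
  have hφ : Function.Bijective φ := (IsLocalization.atUnits (A ⊗[R] R') Q.primeCompl (S := O) hunit).bijective
  letI : Algebra R O := ((algebraMap A O).comp (algebraMap R A)).toAlgebra
  haveI : IsScalarTower R A O := IsScalarTower.of_algebraMap_eq fun _ => rfl
  haveI : IsScalarTower R R' O := IsScalarTower.of_algebraMap_eq fun r => by
    show algebraMap A O (algebraMap R A r) = algebraMap R' O (algebraMap R R' r)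
    rw [show algebraMap A O (algebraMap R A r) = φ (algebraMap R A r ⊗ₜ 1) from (hl _).symm,
      show algebraMap R' O (algebraMap R R' r) = φ (1 ⊗ₜ algebraMap R R' r) from (hr _).symm,
      Algebra.algebraMap_eq_smul_one r, Algebra.algebraMap_eq_smul_one (A := R') r, TensorProduct.smul_tmul]
  letI : Algebra R' (A ⊗[R] R') := Algebra.TensorProduct.rightAlgebra
  haveI : IsScalarTower R' (A ⊗[R] R') O := IsScalarTower.of_algebraMap_eq fun r => (hr r).symm
  haveI hpush : Algebra.IsPushout R R' A O := by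
    let E : (R' ⊗[R] A) ≃ₗ[R'] O :=
      (Algebra.IsPushout.equiv R R' A (A ⊗[R] R')).toLinearEquiv.trans
        (LinearEquiv.ofBijective (IsScalarTower.toAlgHom R' (A ⊗[R] R') O).toLinearMap hφ)
    refine ⟨IsBaseChange.of_equiv E fun a => ?_⟩
    show φ (Algebra.IsPushout.equiv R R' A (A ⊗[R] R') ((1 : R') ⊗ₜ[R] a)) = algebraMap A O a
    rw [Algebra.IsPushout.equiv_tmul, map_one, one_mul]
    exact hl a
  obtain ⟨e, -⟩ := ModStalk.exists_pullStalk_equiv ιX F x'
  let Fs := ((Scheme.Modules.pullback ιX).obj F).presheaf.stalk x'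
  letI := FlatMod.moduleStalkOver fs ((Scheme.Modules.pullback ιX).obj F) x'
  let e' : Fs ≃ₗ[R'] (O ⊗[A] Fx) :=
    { e.toAddEquiv with
      map_smul' := fun r v => by
        refine (map_smul e (fs.stalkMap x' r) v).trans ?_
        exact IsScalarTower.algebraMap_smul O r (e v) }
  let j : Fx →ₗ[R] O ⊗[A] Fx := (TensorProduct.mk A O Fx 1).restrictScalars R
  have hj : IsBaseChange R' j := by
    refine IsBaseChange.of_equiv (Algebra.IsPushout.cancelBaseChange R R' A O Fx).symm fun v => ?_
    rw [Algebra.IsPushout.cancelBaseChange_symm_tmul, map_one]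
    rfl
  have := flat_iff_killed (A := A) hs j hj
  rw [show RingHom.ker (algebraMap R R') = J f h x from hker] at this
  exact ⟨fun hf => this.mp (@Module.Flat.of_linearEquiv _ _ _ _ _ _ _ _ hf e'.symm),
    fun hf => @Module.Flat.of_linearEquiv _ _ _ _ _ _ _ _ (this.mpr hf) e'⟩

end Groth.Agent.FibreDepth.FibreFlatStalk
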