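import Mathlib
import Groth.Agent.FibreDepth.DenseLocus
import Groth.Agent.Flat.FibreAt

/-! Quasi-finiteness and radiciality of the maps of fibres. -/

set_option autoImplicit false
set_option backward.isDefEq.respectTransparency false
set_option linter.style.haveILetI false
universe u
open CategoryTheory CategoryTheory.Limits AlgebraicGeometry TopologicalSpace Topology

namespace Groth.Agent.FibreDepth.FibreMaps
open Fibre DenseLocus

variable {X Y S : Scheme.{u}} (h : X ⟶ Y) (g : Y ⟶ S)

theorem isPullback_fs (s : S) : IsPullback ((h ≫ g).fiberι s) (fs h g s) h (g.fiberι s) :=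
  IsPullback.of_bot (by
      rw [show fs h g s ≫ pullback.snd g (S.fromSpecResidueField s) = pullback.snd (h ≫ g) (S.fromSpecResidueField s) from
        pullback.lift_snd _ _ _]
      exact IsPullback.of_hasPullback (h ≫ g) (S.fromSpecResidueField s))
    (pullback.lift_fst _ _ _).symm (IsPullback.of_hasPullback g (S.fromSpecResidueField s))

theorem lc_of_isClosed {W : Scheme.{u}} [IsLocallyNoetherian W] {C : Set W} (hC : IsClosed C) :
    IsLocallyConstructible C := fun x => by
  obtain ⟨V, hV, hxV, -⟩ := exists_isAffineOpen_mem_and_subset (X := W) (U := ⊤) (x := x) trivial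
  refine ⟨(V : Set W), V.isOpen.mem_nhds hxV, V.isOpen, ?_⟩
  haveI : IsNoetherianRing Γ(W, V) := IsLocallyNoetherian.component_noetherian ⟨V, hV⟩
  let e : ↥(V : Scheme.{u}) ≃ₜ ↥(Spec Γ(W, V)) := hV.isoSpec.hom.homeomorph
  haveI : NoetherianSpace ↥(V : Scheme.{u}) :=
    e.isEmbedding.isInducing.noetherianSpace
  have h2 : IsClosed ((fun w : ↥(V : Scheme.{u}) => w.1) ⁻¹' C) := hC.preimage continuous_subtype_val
  have h3 : IsConstructible ((fun w : ↥(V : Scheme.{u}) => w.1) ⁻¹' C)ᶜ :=
    (NoetherianSpace.isCompact _).isConstructible h2.isOpen_compl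
  have h4 := h3.compl
  rw [compl_compl] at h4
  exact h4

/-- A point is isolated in its fibre iff no positive dimensional part of the fibre passes through it. -/
theorem quasiFiniteAt_iff [LocallyOfFinitePresentation h] (x : X) :
    h.QuasiFiniteAt x ↔ x ∉ E h Set.univ 1 := by
  rw [Scheme.Hom.quasiFiniteAt_iff_isOpen_singleton_asFiber]
  let w := h.asFiber x
  constructor
  · intro hopen
    rintro ⟨z, -, hzf, hzx, hz1⟩
    obtain ⟨v, rfl⟩ : z ∈ Set.range (h.fiberι (h.base x)) := by rw [h.range_fiberι]; exact hzf
    have hvw : v ⤳ w := (h.fiberι _).isEmbedding.isInducing.specializes_iff.mp (by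
      show _ ⤳ h.fiberι (h.base x) (h.asFiber x)
      rwa [Scheme.Hom.fiberι_asFiber])
    have hv : v = w := hvw.mem_open hopen rfl
    have hc : IsClosed ({w} : Set ↥(h.fiber (h.base x))) := by
      haveI := isLocallyNoetherian_fiber h (h.base x)
      haveI : LocallyOfFiniteType (h.fiberToSpecResidueField (h.base x)) :=
        MorphismProperty.pullback_snd (P := @LocallyOfFiniteType) _ _ inferInstance
      haveI : JacobsonSpace ↥(h.fiber (h.base x)) := LocallyOfFiniteType.jacobsonSpace (h.fiberToSpecResidueField (h.base x))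
      exact isClosed_singleton_of_isLocallyClosed_singleton hopen.isLocallyClosed
    have h0 : cd h (h.fiberι (h.base x) v) = topologicalKrullDim ↥(closure ({w} : Set ↥(h.fiber (h.base x)))) := by
      rw [hv, show h.fiberι (h.base x) w = x from h.fiberι_asFiber x]
    rw [h0, hc.closure_eq, topologicalKrullDim] at hz1
    haveI : Subsingleton (IrreducibleCloseds ↥({w} : Set ↥(h.fiber (h.base x)))) := ⟨fun a b => by
      apply SetLike.coe_injective
      have hu : ∀ c : IrreducibleCloseds ↥({w} : Set ↥(h.fiber (h.base x))), (c : Set ↥({w} : Set ↥(h.fiber (h.base x)))) = Set.univ := fun c =>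
        Set.eq_univ_of_forall fun z => by
          obtain ⟨t, ht⟩ := c.isIrreducible.nonempty
          exact (Subsingleton.elim t z) ▸ ht
      rw [hu a, hu b]⟩
    have h1 := hz1.trans Order.krullDim_nonpos_of_subsingleton
    exact absurd h1 (by norm_num)
  · intro hx
    haveI := isLocallyNoetherian_fiber h (h.base x)
    have hcd : ∀ v : ↥(h.fiber (h.base x)), v ⤳ w → cd h (h.fiberι (h.base x) v) = (0 : ℕ) := fun v hv => by
      obtain ⟨e, he⟩ := exists_cd h (h.fiberι (h.base x) v)
      rcases Nat.eq_zero_or_pos e with rfl | hpos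
      · exact he
      · refine absurd ?_ hx
        refine ⟨_, trivial, (h.range_fiberι _).subset ⟨v, rfl⟩, ?_, ?_⟩
        · have := hv.map (h.fiberι (h.base x)).continuous
          rwa [Scheme.Hom.fiberι_asFiber] at this
        · rw [he]
          exact_mod_cast hpos
    have hw0 : cd h x = (0 : ℕ) := by
      have := hcd w specializes_rfl
      rwa [Scheme.Hom.fiberι_asFiber] at this
    have hgen : ∀ v, v ⤳ w → v = w := fun v hv => by
      refine (h.fiberι (h.base x)).isEmbedding.injective ?_
      rw [show h.fiberι (h.base x) w = x from h.fiberι_asFiber x]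
      refine Loci.eq_of_cd_eq' (f := h) (F := Coh.structureModule X) (Unit.isFP_unit X) x _ ((h.range_fiberι _).subset ⟨v, rfl⟩) ?_
        ((hcd v hv).trans hw0.symm)
      have := hv.map (h.fiberι (h.base x)).continuous
      rwa [Scheme.Hom.fiberι_asFiber] at this
    have hc : IsClosed ({w} : Set ↥(h.fiber (h.base x))) := by
      rw [← closure_eq_iff_isClosed]
      refine subset_antisymm (fun v hv => ?_) subset_closure
      have hwv : w ⤳ v := specializes_iff_mem_closure.mpr hv
      have hsp : x ⤳ h.fiberι (h.base x) v := by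
        have := hwv.map (h.fiberι (h.base x)).continuous
        rwa [Scheme.Hom.fiberι_asFiber] at this
      have hf : h.base (h.fiberι (h.base x) v) = h.base x := (h.range_fiberι _).subset ⟨v, rfl⟩
      obtain ⟨e, he⟩ := exists_cd h (h.fiberι (h.base x) v)
      have hmono : cd h (h.fiberι (h.base x) v) ≤ cd h x := by
        have hsub : closure ({v} : Set ↥(h.fiber (h.base x))) ⊆ closure {w} :=
          closure_minimal (Set.singleton_subset_iff.mpr hv) isClosed_closure
        have hv' := (fiber_iff h (P := fun y u => topologicalKrullDim ↥(closure ({u} : Set ↥(h.fiber y))) ≤ cd h x) (h.base x) v).mp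
        refine hv' ?_
        exact (Topology.IsEmbedding.inclusion hsub).isInducing.topologicalKrullDim_le
      rw [hw0, he] at hmono
      have he0 : e = 0 := by
        have : e ≤ 0 := by exact_mod_cast hmono
        omega
      subst he0
      show v = w
      refine (h.fiberι (h.base x)).isEmbedding.injective ?_
      rw [show h.fiberι (h.base x) w = x from h.fiberι_asFiber x]
      exact (Loci.eq_of_cd_eq' (f := h) (F := Coh.structureModule X) (Unit.isFP_unit X) (h.fiberι (h.base x) v) x
        hf.symm hsp (hw0.trans he.symm)).symm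
    rw [← isClosed_compl_iff, ← closure_eq_iff_isClosed]
    refine subset_antisymm (fun v hv hvw => ?_) subset_closure
    obtain rfl : v = w := hvw
    obtain ⟨z, hz, hzw⟩ := (mem_closure_iff (ConstrStatements.lc_compl (lc_of_isClosed hc)) _).mp hv
    exact hz (hgen z hzw)

theorem isDiscrete_preimage_iff (y : Y) [LocallyOfFiniteType h] :
    _root_.IsDiscrete (h.base ⁻¹' {y}) ↔ ∀ x, h.base x = y → h.QuasiFiniteAt x := by
  simp only [Scheme.Hom.quasiFiniteAt_iff_isOpen_singleton_asFiber, isDiscrete_iff_discreteTopology,
    discreteTopology_iff_isOpen_singleton]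
  constructor
  · intro hd x hx
    subst hx
    rw [← (h.fiberHomeo (h x)).isOpen_image, Set.image_singleton]
    exact hd _
  · rintro hd ⟨x, hx⟩
    have hx' : h.base x = y := hx
    subst hx'
    have := hd x rfl
    rw [← (h.fiberHomeo (h x)).isOpen_image, Set.image_singleton, Scheme.Hom.asFiber, Homeomorph.apply_symm_apply] at this
    exact this

theorem locallyQuasiFinite_iff [LocallyOfFinitePresentation h] (s : S) :
    LocallyQuasiFinite (fs h g s) ↔ s ∉ (h ≫ g).base '' E h Set.univ 1 := by
  have sq := isPullback_fs h g s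
  haveI : LocallyOfFiniteType (fs h g s) := MorphismProperty.of_isPullback sq inferInstance
  rw [locallyQuasiFinite_iff_isDiscrete_preimage_singleton]
  have hset : ∀ w : ↥(pullback g (S.fromSpecResidueField s)),
      (h ≫ g).fiberι s '' ((fs h g s).base ⁻¹' {w}) = h.base ⁻¹' {g.fiberι s w} := fun w => by
    ext x
    constructor
    · rintro ⟨v, rfl, rfl⟩
      exact (congrArg (fun φ : _ ⟶ Y => φ v) sq.w : _)
    · intro hx
      have hx' : h.base x = g.fiberι s w := hx
      have hs : (h ≫ g).base x = s := by
        show g.base (h.base x) = s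
        rw [hx']
        exact (g.range_fiberι s).subset ⟨w, rfl⟩
      obtain ⟨v, rfl⟩ : x ∈ Set.range ((h ≫ g).fiberι s) := by rw [(h ≫ g).range_fiberι]; exact hs
      exact ⟨v, (g.fiberι s).isEmbedding.injective ((congrArg (fun φ : _ ⟶ Y => φ v) sq.w.symm : _).trans hx'), rfl⟩
  have hd : ∀ w, _root_.IsDiscrete ((fs h g s).base ⁻¹' {w}) ↔ ∀ x, h.base x = g.fiberι s w → h.QuasiFiniteAt x := fun w => by
    rw [← isDiscrete_preimage_iff]
    constructor
    · intro hw
      rw [← hset w]
      exact hw.image ((h ≫ g).fiberι s).isEmbedding.isInducing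
    · intro hw
      rw [← hset w] at hw
      have := hw.preimage ((h ≫ g).fiberι s).continuous.continuousOn ((h ≫ g).fiberι s).isEmbedding.injective
      rwa [Set.preimage_image_eq _ ((h ≫ g).fiberι s).isEmbedding.injective] at this
  simp only [hd, quasiFiniteAt_iff]
  constructor
  · rintro hh ⟨x, hx, hxs⟩
    obtain ⟨w, hw⟩ : h.base x ∈ Set.range (g.fiberι s) := by rw [g.range_fiberι]; exact hxs
    exact hh w x hw.symm hx
  · intro hh w x hx hxE
    refine hh ⟨x, hxE, ?_⟩
    show g.base (h.base x) = s
    rw [hx]
    exact (g.range_fiberι s).subset ⟨w, rfl⟩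

theorem universallyInjective_iff (s : S) :
    UniversallyInjective (fs h g s) ↔ s ∉ (pullback.fst h h ≫ h ≫ g).base '' (Set.range (pullback.diagonal h).base)ᶜ := by
  have sq := isPullback_fs h g s
  let q := fs h g s
  let ι := (h ≫ g).fiberι s
  have hw : (pullback.fst q q ≫ ι) ≫ h = (pullback.snd q q ≫ ι) ≫ h := by
    rw [Category.assoc, Category.assoc, sq.w, ← Category.assoc, ← Category.assoc, pullback.condition]
  let m : pullback q q ⟶ pullback h h := pullback.lift (pullback.fst q q ≫ ι) (pullback.snd q q ≫ ι) hw
  have h1 : IsPullback (pullback.snd q q ≫ ι) (pullback.fst q q) h (q ≫ g.fiberι s) :=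
    (IsPullback.of_hasPullback q q).flip.paste_horiz sq
  have h1' : IsPullback (pullback.snd q q ≫ ι) (pullback.fst q q) h (ι ≫ h) := by
    rw [show ι ≫ h = q ≫ g.fiberι s from sq.w]; exact h1
  have h2 : IsPullback m (pullback.fst q q) (pullback.fst h h) ι := by
    refine IsPullback.of_right ?_ (pullback.lift_fst _ _ _) (IsPullback.of_hasPullback h h).flip
    rw [show m ≫ pullback.snd h h = pullback.snd q q ≫ ι from pullback.lift_snd _ _ _]
    exact h1'
  haveI : IsPreimmersion m := MorphismProperty.of_isPullback (P := @IsPreimmersion) h2.flip inferInstance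
  have hdiag : pullback.diagonal q ≫ m = ι ≫ pullback.diagonal h := by
    apply pullback.hom_ext <;>
      simp [m, pullback.lift_fst, pullback.lift_snd]
  have hrange : ∀ p, p ∈ Set.range m ↔ (pullback.fst h h ≫ h ≫ g).base p = s := fun p => by
    constructor
    · rintro ⟨t, rfl⟩
      have e : (pullback.fst h h).base (m t) = ι ((pullback.fst q q).base t) := congrArg (fun φ : _ ⟶ X => φ t) h2.w
      show (h ≫ g).base ((pullback.fst h h).base (m t)) = s
      rw [e]
      exact ((h ≫ g).range_fiberι s).subset ⟨_, rfl⟩
    · intro hp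
      obtain ⟨v, hv⟩ : (pullback.fst h h).base p ∈ Set.range ι := by
        show _ ∈ Set.range ((h ≫ g).fiberι s)
        rw [(h ≫ g).range_fiberι]
        exact hp
      obtain ⟨t, ht, -⟩ := Scheme.Pullback.exists_preimage_pullback (f := pullback.fst h h) (g := ι) p v hv.symm
      refine ⟨h2.isoPullback.inv t, ?_⟩
      rw [← Scheme.Hom.comp_apply, IsPullback.isoPullback_inv_fst]
      exact ht
  rw [UniversallyInjective.iff_diagonal]
  constructor
  · rintro ⟨hs⟩ ⟨p, hp, hps⟩
    obtain ⟨t, rfl⟩ := (hrange p).mpr hps
    obtain ⟨v, rfl⟩ := hs t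
    exact hp ⟨ι v, (congrArg (fun φ : _ ⟶ pullback h h => φ v) hdiag).symm⟩
  · intro hh
    refine ⟨fun t => ?_⟩
    obtain ⟨x, hx⟩ : m t ∈ Set.range (pullback.diagonal h).base :=
      by_contra fun hn => hh ⟨m t, hn, (hrange _).mp ⟨t, rfl⟩⟩
    have hxs : (h ≫ g).base x = s := by
      have e := (hrange _).mp ⟨t, rfl⟩
      rw [← hx, ← Scheme.Hom.comp_apply, pullback.diagonal_fst_assoc] at e
      exact e
    obtain ⟨v, rfl⟩ : x ∈ Set.range ι := by
      show x ∈ Set.range ((h ≫ g).fiberι s)
      rw [(h ≫ g).range_fiberι]; exact hxs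
    exact ⟨v, m.isEmbedding.injective ((congrArg (fun φ : _ ⟶ pullback h h => φ v) hdiag).trans hx)⟩

variable [LocallyOfFinitePresentation g] [QuasiSeparated g]
  [LocallyOfFinitePresentation (h ≫ g)] [QuasiCompact (h ≫ g)]

theorem lc_locallyQuasiFinite : IsLocallyConstructible {s : S | LocallyQuasiFinite (fs h g s)} := by
  haveI : LocallyOfFinitePresentation h := Mor.Cancel.locallyOfFinitePresentation_of_comp h g
  exact (congrArg IsLocallyConstructible (Set.ext fun s => locallyQuasiFinite_iff h g s)).mpr
    (ConstrStatements.lc_compl ((h ≫ g).isLocallyConstructible_image (lc_E h lc_univ 1)))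

theorem lc_universallyInjective [QuasiSeparated (h ≫ g)] :
    IsLocallyConstructible {s : S | UniversallyInjective (fs h g s)} := by
  haveI : LocallyOfFinitePresentation h := Mor.Cancel.locallyOfFinitePresentation_of_comp h g
  haveI : QuasiCompact h := QuasiCompact.of_comp h g
  haveI : QuasiSeparated h := QuasiSeparated.of_comp h g
  haveI : LocallyOfFinitePresentation (pullback.diagonal h ≫ pullback.fst h h) := by
    rw [pullback.diagonal_fst]; infer_instance
  haveI : LocallyOfFinitePresentation (pullback.diagonal h) :=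
    Mor.Cancel.locallyOfFinitePresentation_of_comp (pullback.diagonal h) (pullback.fst h h)
  haveI : QuasiCompact (pullback.diagonal h) := QuasiSeparated.quasiCompact_diagonal
  have hr : IsLocallyConstructible (Set.range (pullback.diagonal h).base) := by
    rw [← Set.image_univ]
    exact (pullback.diagonal h).isLocallyConstructible_image lc_univ
  exact (congrArg IsLocallyConstructible (Set.ext fun s => universallyInjective_iff h g s)).mpr
    (ConstrStatements.lc_compl ((pullback.fst h h ≫ h ≫ g).isLocallyConstructible_image (ConstrStatements.lc_compl hr)))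

end Groth.Agent.FibreDepth.FibreMaps
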