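import Mathlib
import Groth.Agent.FibreDepth.Strata
import Groth.Agent.FibreDepth.KilledFlat

/-! Constructibility of the fibrewise flat locus in affine space. -/

set_option autoImplicit false
set_option backward.isDefEq.respectTransparency false
set_option linter.style.haveILetI false
noncomputable section
universe u
open scoped TensorProduct
open Topology

namespace Groth.Agent.FibreDepth.FlatFamily
open Ring LocMap Strata Flat.FlatAt Flat.FibreCriterion

attribute [local instance] MvPolynomial.algebraMvPolynomial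
attribute [-instance] ModuleCat.sMulCommClass_mk

local instance commPB {σ : Type} {A₀ B : Type u} [CommRing A₀] [CommRing B] [Algebra A₀ B] :
    SMulCommClass (MvPolynomial σ A₀) B (MvPolynomial σ B) := ⟨fun p b x => by
  rw [Algebra.smul_def, Algebra.smul_def, Algebra.smul_def, Algebra.smul_def]; ring⟩

/-- coordinates of the target -/
abbrev Pτ (n : ℕ) (A : Type u) [CommRing A] := MvPolynomial (Fin n) A
/-- coordinates of the source -/
abbrev Pσ (n m : ℕ) (A : Type u) [CommRing A] := MvPolynomial (Fin n ⊕ Fin m) A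

variable {n m r : ℕ}

@[reducible] def algInl {A : Type u} [CommRing A] : Algebra (Pτ n A) (Pσ n m A) :=
  (MvPolynomial.rename Sum.inl).toRingHom.toAlgebra

theorem towerInl {A : Type u} [CommRing A] : letI := algInl (n := n) (m := m) (A := A); IsScalarTower A (Pτ n A) (Pσ n m A) :=
  letI := algInl (n := n) (m := m) (A := A)
  IsScalarTower.of_algebraMap_eq fun a => ((MvPolynomial.rename (R := A) Sum.inl).commutes a).symm

section withInl
attribute [local instance] algInl towerInl

/-- the inclusion of the coordinates of the target -/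
abbrev inl (m : ℕ) {A : Type u} [CommRing A] : Pτ n A →ₐ[A] Pσ n m A := MvPolynomial.rename Sum.inl

/-- the equations of the target kill the module -/
def Killed (m : ℕ) {A : Type u} [CommRing A] (b : Fin r → Pτ n A) (M : Type u) [AddCommGroup M] [Module (Pσ n m A) M] : Prop :=
  ∀ l (z : M), inl m (b l) • z = 0

/-- the ideal of the fibre of the target -/
abbrev fibJ {A : Type u} [CommRing A] (b : Fin r → Pτ n A) (q : PrimeSpectrum (Pσ n m A)) : Ideal (Pτ n A) :=
  (below A q).asIdeal.map (algebraMap A (Pτ n A)) ⊔ Ideal.span (Set.range b)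

/-- the fibrewise flat locus -/
def W (A : Type u) [CommRing A] (b : Fin r → Pτ n A) (M : Type u) [AddCommGroup M] [Module (Pσ n m A) M] :
    Set (PrimeSpectrum (Pσ n m A)) :=
  {q | letI : Module (Pτ n A) M := Module.compHom M (algebraMap (Pτ n A) (Pσ n m A))
    haveI : IsScalarTower (Pτ n A) (Pσ n m A) M := IsScalarTower.of_algebraMap_smul fun _ _ => rfl
    FlatAtKilled (Pτ n A) M (fibJ b q) q.asIdeal}

theorem mem_W {A : Type u} [CommRing A] {b : Fin r → Pτ n A} {M : Type u} [AddCommGroup M] [Module (Pσ n m A) M]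
    [inst : Module (Pτ n A) M] [IsScalarTower (Pτ n A) (Pσ n m A) M] (q : PrimeSpectrum (Pσ n m A)) :
    q ∈ W (m := m) A b M ↔ FlatAtKilled (Pτ n A) M (fibJ b q) q.asIdeal := by
  obtain rfl : inst = Module.compHom M (algebraMap (Pτ n A) (Pσ n m A)) :=
    Module.ext' _ _ fun c z => (algebraMap_smul (Pσ n m A) c z).symm
  rfl

section bc

variable {A A' : Type u} [CommRing A] [CommRing A'] (φ : A →+* A') (b : Fin r → Pτ n A) (M : Type u)
  [AddCommGroup M] [Module (Pσ n m A) M] (M' : Type u) [AddCommGroup M'] [Module (Pσ n m A') M']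

theorem killed_bc (hb : Killed m b M) (h : IsBC (σ := Fin n ⊕ Fin m) φ M M') :
    Killed m (fun l => MvPolynomial.map φ (b l)) M' := by
  letI := φ.toAlgebra
  obtain ⟨e⟩ := h
  intro l z
  show algebraMap (Pτ n A') (Pσ n m A') (MvPolynomial.map φ (b l)) • z = 0
  obtain ⟨z, rfl⟩ := e.surjective z
  rw [← map_smul]
  refine (map_eq_zero_iff _ e.injective).mpr ?_
  have hmap : algebraMap (Pτ n A') (Pσ n m A') (MvPolynomial.map φ (b l)) =
      algebraMap (Pσ n m A) (Pσ n m A') (algebraMap (Pτ n A) (Pσ n m A) (b l)) :=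
    (MvPolynomial.map_rename φ Sum.inl (b l)).symm
  rw [hmap, algebraMap_smul]
  induction z using TensorProduct.induction_on with
  | zero => simp
  | add x y hx hy => rw [smul_add, hx, hy, add_zero]
  | tmul s z => rw [← TensorProduct.tmul_smul, show algebraMap (Pτ n A) (Pσ n m A) (b l) • z = 0 from hb l z, TensorProduct.tmul_zero]

set_option maxHeartbeats 1600000 in
theorem hinv (hb : Killed m b M) (h : IsBC (σ := Fin n ⊕ Fin m) φ M M') :
    dn φ ⁻¹' W (m := m) A b M = W A' (fun l => MvPolynomial.map φ (b l)) M' := by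
  letI := φ.toAlgebra
  obtain ⟨e⟩ := h
  letI : Module (Pτ n A) M := Module.compHom M (algebraMap (Pτ n A) (Pσ n m A))
  haveI : IsScalarTower (Pτ n A) (Pσ n m A) M := IsScalarTower.of_algebraMap_smul fun _ _ => rfl
  letI : Module (Pτ n A') M' := Module.compHom M' (algebraMap (Pτ n A') (Pσ n m A'))
  haveI : IsScalarTower (Pτ n A') (Pσ n m A') M' := IsScalarTower.of_algebraMap_smul fun _ _ => rfl
  letI : Module A M := Module.compHom M (algebraMap A (Pσ n m A))
  haveI : IsScalarTower A (Pσ n m A) M := IsScalarTower.of_algebraMap_smul fun _ _ => rfl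
  haveI : IsScalarTower A (Pτ n A) M := IsScalarTower.of_algebraMap_smul fun a z => by
    show algebraMap (Pτ n A) (Pσ n m A) (algebraMap A (Pτ n A) a) • z = _
    rw [← IsScalarTower.algebraMap_apply]
    rfl
  letI : Module (Pτ n A) M' := Module.compHom M' (algebraMap (Pτ n A) (Pτ n A'))
  haveI : IsScalarTower (Pτ n A) (Pτ n A') M' := IsScalarTower.of_algebraMap_smul fun _ _ => rfl
  letI : Module A M' := Module.compHom M' (algebraMap A (Pσ n m A'))
  haveI : IsScalarTower A (Pσ n m A') M' := IsScalarTower.of_algebraMap_smul fun _ _ => rfl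
  letI : Module A' M' := Module.compHom M' (algebraMap A' (Pσ n m A'))
  haveI : IsScalarTower A' (Pσ n m A') M' := IsScalarTower.of_algebraMap_smul fun _ _ => rfl
  haveI : IsScalarTower A' (Pτ n A') M' := IsScalarTower.of_algebraMap_smul fun a z => by
    show algebraMap (Pτ n A') (Pσ n m A') (algebraMap A' (Pτ n A') a) • z = _
    rw [← IsScalarTower.algebraMap_apply]
    rfl
  haveI : IsScalarTower A A' M' := IsScalarTower.of_algebraMap_smul fun a z => by
    show algebraMap A' (Pσ n m A') (algebraMap A A' a) • z = _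
    rw [← IsScalarTower.algebraMap_apply]
    rfl
  haveI : IsScalarTower A (Pτ n A) M' := IsScalarTower.of_algebraMap_smul fun a z => by
    show inl (n := n) m (MvPolynomial.map φ (MvPolynomial.C a)) • z = algebraMap A (Pσ n m A') a • z
    rw [MvPolynomial.map_C, MvPolynomial.rename_C]
    rfl
  let φC : Pσ n m A →ₐ[A] Pσ n m A' := IsScalarTower.toAlgHom A (Pσ n m A) (Pσ n m A')
  have hC : IsBaseChange A' φC.toLinearMap := Algebra.IsPushout.out (R := A) (S := A') (R' := Pσ n m A) (S' := Pσ n m A')
  let j₀ : M → M' := fun z => e (1 ⊗ₜ z)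
  have hj0 : ∀ (c : Pσ n m A) z, j₀ (c • z) = φC c • j₀ z := fun c z => by
    show e _ = algebraMap (Pσ n m A) (Pσ n m A') c • e _
    rw [← map_smul, TensorProduct.tmul_smul, algebraMap_smul]
  let j : M →ₗ[Pτ n A] M' :=
    { toFun := j₀
      map_add' := fun x y => by simp [j₀, TensorProduct.tmul_add]
      map_smul' := fun c z => (hj0 _ z).trans (congrArg (· • j₀ z) (MvPolynomial.map_rename φ Sum.inl c)) }
  have hjA : IsBaseChange A' (j.restrictScalars A) := by
    refine IsBaseChange.of_equiv ((Algebra.IsPushout.cancelBaseChange A A' (Pσ n m A) (Pσ n m A') M).symm.trans (e.restrictScalars A')) fun z => ?_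
    show e ((Algebra.IsPushout.cancelBaseChange A A' (Pσ n m A) (Pσ n m A') M).symm (1 ⊗ₜ z)) = e (1 ⊗ₜ z)
    rw [Algebra.IsPushout.cancelBaseChange_symm_tmul, map_one]
  have hj : IsBaseChange (Pτ n A') j := isBaseChange_of_isPushout j hjA
  have hspan : (Ideal.span (Set.range b)).map (algebraMap (Pτ n A) (Pτ n A')) =
      Ideal.span (Set.range fun l => MvPolynomial.map φ (b l)) := by
    rw [Ideal.map_span, ← Set.range_comp]
    rfl
  ext q'
  rw [Set.mem_preimage, mem_W, mem_W]
  have hp := congrArg PrimeSpectrum.asIdeal (below_dn φ q')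
  constructor
  · refine KilledFlat.killed_baseChange φC.toRingHom j hj hj0 ?_ le_rfl
    rw [Ideal.map_sup, hspan, Ideal.map_map, ← IsScalarTower.algebraMap_eq, IsScalarTower.algebraMap_eq A A' (Pτ n A'), ← Ideal.map_map]
    exact sup_le_sup_right (Ideal.map_mono (Ideal.map_le_iff_le_comap.mpr hp.le)) _
  · intro h
    have := KilledFlat.killed_descend (Ideal.span (Set.range b)) φC hC j hj hj0 q'.asIdeal (below A' q').asIdeal rfl
      (by rw [hspan]; exact h)
    exact this.mono_ideal (le_of_eq (by rw [fibJ, hp]; rfl))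

end bc

end withInl

section core
set_option maxHeartbeats 400000 in
/-- the Noetherian flat case, for abstract rings -/
theorem flat_core {A P S M : Type u} [CommRing A] [CommRing P] [CommRing S] [Algebra A P] [Algebra A S] [Algebra P S]
    [IsScalarTower A P S] [IsNoetherianRing P] [IsNoetherianRing S] [Algebra.FiniteType A S]
    [AddCommGroup M] [Module A M] [Module P M] [Module S M] [IsScalarTower A S M] [IsScalarTower P S M]
    [Module.Finite S M] [Module.Flat A M] (I : Ideal P) (htB : Module.IsTorsionBySet P M I) :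
    IsConstructible {q : PrimeSpectrum S |
      FlatAtKilled P M ((below A q).asIdeal.map (algebraMap A P) ⊔ I) q.asIdeal} := by
  let WS : Set (PrimeSpectrum S) := {q | FlatAtKilled P M ((below A q).asIdeal.map (algebraMap A P) ⊔ I) q.asIdeal}
  show IsConstructible WS
  let J := I.map (algebraMap (P) (S))
  let B := P ⧸ I
  let C := S ⧸ J
  have htC : Module.IsTorsionBySet (S) M J := by
    intro z ⟨a, ha⟩
    refine Submodule.span_induction (p := fun a _ => a • z = 0) ?_ (zero_smul _ z)
      (fun x y _ _ hx hy => by rw [add_smul, hx, hy, add_zero])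
      (fun c x _ hx => by rw [smul_eq_mul, mul_smul, hx, smul_zero]) ha
    rintro _ ⟨x, hx, rfl⟩
    rw [algebraMap_smul]
    exact @htB z ⟨x, hx⟩
  letI : Algebra B C := (Ideal.quotientMap J (algebraMap (P) (S)) Ideal.le_comap_map).toAlgebra
  haveI : IsScalarTower (P) B C := IsScalarTower.of_algebraMap_eq' (RingHom.ext fun c => (Ideal.quotientMap_mk (I := J) (f := algebraMap (P) (S)) (H := Ideal.le_comap_map) (x := c)).symm)
  haveI : IsScalarTower A B C := IsScalarTower.of_algebraMap_eq fun a => by
    rw [IsScalarTower.algebraMap_apply A (P) B, ← IsScalarTower.algebraMap_apply (P) B C,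
      ← IsScalarTower.algebraMap_apply A (P) C]
  letI : Module B M := htB.module
  haveI : IsScalarTower (P) B M := htB.isScalarTower
  letI : Module C M := htC.module
  haveI : IsScalarTower (S) C M := htC.isScalarTower
  haveI : IsScalarTower (P) C M := IsScalarTower.of_algebraMap_smul fun c z => by
    show algebraMap P S c • z = c • z
    rw [algebraMap_smul]
  haveI : IsScalarTower B C M := IsScalarTower.of_algebraMap_smul fun c z => by
    obtain ⟨c, rfl⟩ := Ideal.Quotient.mk_surjective c
    show algebraMap P S c • z = c • z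
    rw [algebraMap_smul]
  haveI : IsScalarTower A C M := IsScalarTower.of_algebraMap_smul fun a z => by
    rw [IsScalarTower.algebraMap_apply A (S) C, algebraMap_smul, algebraMap_smul]
  haveI : IsScalarTower A B M := IsScalarTower.of_algebraMap_smul fun a z => by
    rw [← algebraMap_smul C (algebraMap A B a) z, ← IsScalarTower.algebraMap_apply, algebraMap_smul]
  haveI : Algebra.FiniteType B C := Algebra.FiniteType.of_restrictScalars_finiteType A B C
  haveI : Module.Finite C M := Module.Finite.of_restrictScalars_finite (S) C M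
  have key : ∀ y : PrimeSpectrum C, PrimeSpectrum.comap (Ideal.Quotient.mk J) y ∈ WS ↔ FlatAt B M y.asIdeal := by
    intro y
    show FlatAtKilled P M ((below A (PrimeSpectrum.comap (Ideal.Quotient.mk J) y)).asIdeal.map (algebraMap A P) ⊔ I) _ ↔ _
    refine Iff.trans (KilledFlat.killed_quot_iff (B := B) Ideal.Quotient.mk_surjective (Ideal.Quotient.mk J)
      Ideal.Quotient.mk_surjective (fun _ _ => rfl) _ (by rw [show RingHom.ker (algebraMap (P) B) = I from Ideal.mk_ker]; exact le_sup_right) y.asIdeal).symm ?_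
    have hI : ((below A (PrimeSpectrum.comap (Ideal.Quotient.mk J) y)).asIdeal.map (algebraMap A P) ⊔ I).map (algebraMap (P) B) =
        (y.asIdeal.comap (algebraMap A C)).map (algebraMap A B) := by
      rw [Ideal.map_sup, Ideal.map_map, ← IsScalarTower.algebraMap_eq,
        show I.map (algebraMap (P) B) = ⊥ from Ideal.map_quotient_self I, sup_bot_eq]
      refine congrArg (Ideal.map _) ?_
      show (y.asIdeal.comap _).comap _ = _
      rw [Ideal.comap_comap]
      rfl
    rw [hI]
    exact ⟨fun h => flatAt_of_killed _ _ Ideal.map_comap_le (FlatAt.of_flat _ y.2.ne_top) h, FlatAtKilled.of_flatAt⟩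
  have hout : ∀ q, q ∉ PrimeSpectrum.zeroLocus (J : Set (S)) → q ∈ WS := by
    intro q hq
    show FlatAtKilled P M ((below A q).asIdeal.map (algebraMap A P) ⊔ I) q.asIdeal
    intro X Q _ _ _ _ f _ _ _ x hx'
    obtain ⟨s, hs, hsq⟩ := Set.not_subset.mp hq
    refine ⟨s, hsq, ?_⟩
    clear hx'
    induction x using TensorProduct.induction_on with
    | zero => simp
    | add x y hx hy => rw [smul_add, hx, hy, add_zero]
    | tmul z w => rw [TensorProduct.smul_tmul', @htC z ⟨s, hs⟩, TensorProduct.zero_tmul]
  have heq : WS = PrimeSpectrum.comap (Ideal.Quotient.mk J) '' {y | FlatAt B M y.asIdeal} ∪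
      (PrimeSpectrum.zeroLocus (J : Set (S)))ᶜ := by
    have hr : Set.range (PrimeSpectrum.comap (Ideal.Quotient.mk J)) = PrimeSpectrum.zeroLocus (J : Set (S)) := by
      rw [range_comap_of_surjective _ _ Ideal.Quotient.mk_surjective, Ideal.mk_ker]
    ext q
    by_cases hq : q ∈ PrimeSpectrum.zeroLocus (J : Set (S))
    · obtain ⟨y, rfl⟩ := hr.ge hq
      rw [key]
      refine ⟨fun h => Or.inl ⟨y, h, rfl⟩, fun h => h.elim ?_ fun h => (h hq).elim⟩
      rintro ⟨y', hy', he⟩
      rwa [← PrimeSpectrum.comap_injective_of_surjective _ Ideal.Quotient.mk_surjective he]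
    · exact ⟨fun _ => Or.inr hq, fun _ => hout q hq⟩
  rw [heq]
  have ho : IsOpen {y : PrimeSpectrum C | FlatAt B M y.asIdeal} := isOpen_flatLocus_noetherian
  refine IsConstructible.union (PrimeSpectrum.isConstructible_comap_image
    (RingHom.FinitePresentation.of_surjective _ Ideal.Quotient.mk_surjective (by
      rw [Ideal.mk_ker]; exact IsNoetherian.noetherian J))
    (IsRetrocompact.isConstructible ho (fun _ _ _ => TopologicalSpace.NoetherianSpace.isCompact _))) ?_
  have hc := (PrimeSpectrum.isClosed_zeroLocus (J : Set (S))).isOpen_compl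
  exact IsRetrocompact.isConstructible hc (fun _ _ _ => TopologicalSpace.NoetherianSpace.isCompact _)

end core

section withInl
attribute [local instance] algInl towerInl

/-- the flat Noetherian case -/
theorem hflat (A : Type u) [CommRing A] [IsNoetherianRing A] (b : Fin r → Pτ n A) (M : Type u) [AddCommGroup M]
    [Module (Pσ n m A) M] [Module A M] [IsScalarTower A (Pσ n m A) M]
    [Module.FinitePresentation (Pσ n m A) M] [Module.Flat A M] (hb : Killed m b M) :
    IsConstructible (W (m := m) A b M) := by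
  letI : Module (Pτ n A) M := Module.compHom M (algebraMap (Pτ n A) (Pσ n m A))
  haveI : IsScalarTower (Pτ n A) (Pσ n m A) M := IsScalarTower.of_algebraMap_smul fun _ _ => rfl
  refine flat_core (S := Pσ n m A) (Ideal.span (Set.range b)) ?_
  intro z ⟨a, ha⟩
  refine Submodule.span_induction (p := fun a _ => a • z = 0) ?_ (zero_smul _ z)
    (fun x y _ _ hx hy => by rw [add_smul, hx, hy, add_zero])
    (fun c x _ hx => by rw [smul_eq_mul, mul_smul, hx, smul_zero]) ha
  rintro _ ⟨l, rfl⟩
  exact hb l z

end withInl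

section noeth

variable {A : Type u} [CommRing A] [IsNoetherianRing A] (b : Fin r → Pτ n A) (M : Type u) [AddCommGroup M]
  [Module (Pσ n m A) M] [Module A M] [IsScalarTower A (Pσ n m A) M] [Module.Finite (Pσ n m A) M]


set_option maxHeartbeats 1000000 in
/-- the part where the module is free over the base -/
theorem free_part (f : A)
    (hb : Killed m b M) (hfree : ∀ (L : Type u) [CommRing L] [Algebra A L], IsUnit (algebraMap A L f) → Module.Free L (L ⊗[A] M)) :
    IsConstructible (W (m := m) A b M ∩ {q | f ∉ (below A q).asIdeal}) := by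
  let L := Localization.Away f
  let ML := Pσ n m L ⊗[Pσ n m A] M
  haveI := hfree L (IsLocalization.Away.algebraMap_isUnit f)
  haveI : Module.Flat L ML := flat_tensor (σ := Fin n ⊕ Fin m) (A₀ := A) (B := L) (M₀ := M) inferInstance
  haveI : Module.FinitePresentation (Pσ n m L) ML := Module.finitePresentation_of_finite (Pσ n m L) ML
  have hL := hflat L (fun l => MvPolynomial.map (algebraMap A L) (b l)) ML (killed_bc _ b M ML hb isBC_tensor)
  have hWL := hinv (algebraMap A L) b M ML hb isBC_tensor
  have heq : W (m := m) A b M ∩ {q | f ∉ (below A q).asIdeal} = dn (algebraMap A L) '' W (m := m) L (fun l => MvPolynomial.map (algebraMap A L) (b l)) ML := by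
    rw [← hWL, Set.image_preimage_eq_inter_range]
    exact congrArg (W (m := m) A b M ∩ ·) (range_dn_away f).symm
  rw [heq]
  exact PrimeSpectrum.isConstructible_comap_image fp_map hL

set_option maxHeartbeats 1000000 in
theorem stratum (hb : Killed m b M) (p : Ideal A) [p.IsPrime]
    (ih : ∀ J : Ideal A, p < J → IsConstructible (W (m := m) A b M ∩ {q | J ≤ (below A q).asIdeal})) :
    IsConstructible (W (m := m) A b M ∩ {q | p ≤ (below A q).asIdeal}) := by
  let R := A ⧸ p
  let MR := Pσ n m R ⊗[Pσ n m A] M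
  haveI : Module.Finite (Pσ n m R) MR := inferInstance
  obtain ⟨f, hf0, hfree⟩ := Flat.GenericFree.freeAway_of_finite (R := R) (Pσ n m R) MR
  obtain ⟨f₀, rfl⟩ := Ideal.Quotient.mk_surjective f
  let f : R := Ideal.Quotient.mk p f₀
  have hfree' := free_part (fun l => MvPolynomial.map (algebraMap A R) (b l)) MR f (killed_bc _ b M MR hb isBC_tensor) hfree
  have hWR := hinv (algebraMap A R) b M MR hb isBC_tensor
  have hlt : p < p ⊔ Ideal.span {f₀} := left_lt_sup.mpr fun h =>
    hf0 (Ideal.Quotient.eq_zero_iff_mem.mpr (h (Ideal.mem_span_singleton_self f₀)))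
  have hR : IsConstructible (W (m := m) R (fun l => MvPolynomial.map (algebraMap A R) (b l)) MR) := by
    have : W (m := m) R (fun l => MvPolynomial.map (algebraMap A R) (b l)) MR = (W (m := m) R (fun l => MvPolynomial.map (algebraMap A R) (b l)) MR ∩ {q | f ∉ (below R q).asIdeal}) ∪
        dn (Ideal.Quotient.mk p) ⁻¹' (W (m := m) A b M ∩ {q | p ⊔ Ideal.span {f₀} ≤ (below A q).asIdeal}) := by
      have hq : ∀ q : PrimeSpectrum (Pσ n m R),
          (p ⊔ Ideal.span {f₀} ≤ (below A (dn (Ideal.Quotient.mk p) q)).asIdeal) ↔ f ∈ (below R q).asIdeal := fun q => by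
        rw [below_dn, sup_le_iff, Ideal.span_singleton_le_iff_mem]
        exact ⟨fun h => h.2, fun h => ⟨fun a ha => by
          rw [PrimeSpectrum.comap_asIdeal, Ideal.mem_comap, Ideal.Quotient.eq_zero_iff_mem.mpr ha]
          exact zero_mem _, h⟩⟩
      rw [Set.preimage_inter,
        show dn (Ideal.Quotient.mk p) ⁻¹' W (m := m) A b M = W (m := m) R (fun l => MvPolynomial.map (algebraMap A R) (b l)) MR from hWR, Set.preimage_setOf_eq]
      ext q
      simp only [Set.mem_union, Set.mem_inter_iff, Set.mem_setOf_eq, hq]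
      exact ⟨fun h => (Classical.em (f ∈ (below R q).asIdeal)).elim (fun h' => Or.inr ⟨h, h'⟩) fun h' => Or.inl ⟨h, h'⟩,
        fun h => h.elim And.left And.left⟩
    rw [this]
    exact hfree'.union (Strata.isConstructible_comap _ (ih _ hlt))
  have : W (m := m) A b M ∩ {q | p ≤ (below A q).asIdeal} = dn (algebraMap A R) '' W (m := m) R (fun l => MvPolynomial.map (algebraMap A R) (b l)) MR := by
    rw [← hWR, Set.image_preimage_eq_inter_range]
    exact congrArg (W (m := m) A b M ∩ ·) (range_dn_mk p).symm
  rw [this]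
  exact PrimeSpectrum.isConstructible_comap_image fp_map hR

theorem isConstructible_inter (hb : Killed m b M) (I : Ideal A) : IsConstructible (W (m := m) A b M ∩ {q | I ≤ (below A q).asIdeal}) := by
  induction I using WellFoundedGT.induction with
  | _ I ih =>
  by_cases hI : I.IsPrime
  · exact stratum b M hb I ih
  by_cases hT : I = ⊤
  · convert IsConstructible.empty
    exact Set.eq_empty_of_forall_notMem fun q hq => (below A q).2.ne_top (top_le_iff.mp (hT ▸ hq.2))
  obtain ⟨a, ha, c, hc, hab⟩ := (Ideal.not_isPrime_iff.mp hI).resolve_left hT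
  have : W (m := m) A b M ∩ {q | I ≤ (below A q).asIdeal} = (W (m := m) A b M ∩ {q | I ⊔ Ideal.span {a} ≤ (below A q).asIdeal}) ∪
      (W (m := m) A b M ∩ {q | I ⊔ Ideal.span {c} ≤ (below A q).asIdeal}) := by
    ext q
    simp only [Set.mem_inter_iff, Set.mem_union, Set.mem_setOf_eq, sup_le_iff, Ideal.span_singleton_le_iff_mem]
    refine ⟨fun ⟨h, hI'⟩ => ((below A q).2.mem_or_mem (hI' hab)).imp (fun h' => ⟨h, hI', h'⟩) fun h' => ⟨h, hI', h'⟩, ?_⟩
    rintro (⟨h, h', -⟩ | ⟨h, h', -⟩) <;> exact ⟨h, h'⟩
  rw [this]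
  exact (ih _ (left_lt_sup.mpr fun h => ha (h (Ideal.mem_span_singleton_self a)))).union
    (ih _ (left_lt_sup.mpr fun h => hc (h (Ideal.mem_span_singleton_self c))))

theorem isConstructible_noeth (hb : Killed m b M) : IsConstructible (W (m := m) A b M) := by
  have := isConstructible_inter b M hb (⊥ : Ideal A)
  simpa using this

end noeth


open Flat.Descent Flat.OpenLocus in
theorem of_model {A₀ A : Type u} [CommRing A₀] [IsNoetherianRing A₀] [CommRing A] [Algebra A₀ A] {k N : ℕ}
    (g₀ : Fin k → Fin N → Pσ n m A₀) (g : Fin k → Fin N → Pσ n m A)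
    (hg : ∀ l, vmap (algebraMap A₀ A) (g₀ l) = g l) (b₀ : Fin r → Pτ n A₀) (hb : Killed m b₀ (Coker g₀))
    (M : Type u) [AddCommGroup M] [Module (Pσ n m A) M] (e : M ≃ₗ[Pσ n m A] Coker g) :
    IsConstructible (W (m := m) A (fun l => MvPolynomial.map (algebraMap A₀ A) (b₀ l)) M) := by
  have hbc : IsBC (σ := Fin n ⊕ Fin m) (algebraMap A₀ A) (Coker g₀) M := by
    obtain ⟨E⟩ := isBC_of_isBaseChange (σ := Fin n ⊕ Fin m) (cokerMap g₀ g hg) (isBaseChange_cokerMap g₀ g hg) (cokerMap_smul g₀ g hg)
    exact ⟨E.trans e.symm⟩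
  rw [← hinv _ b₀ _ M hb hbc]
  exact Strata.isConstructible_comap _ (isConstructible_noeth b₀ (Coker g₀) hb)

open Flat.Descent Flat.OpenLocus Flat.GlobalModel in
set_option maxHeartbeats 1000000 in
/-- the fibrewise flat locus in affine space is constructible -/
theorem isConstructible {A : Type u} [CommRing A] (b : Fin r → Pτ n A) (M : Type u) [AddCommGroup M]
    [Module (Pσ n m A) M] [Module.FinitePresentation (Pσ n m A) M] (hb : Killed m b M) :
    IsConstructible (W (m := m) A b M) := by
  classical
  obtain ⟨N, K, e, hK⟩ := Module.FinitePresentation.exists_fin (Pσ n m A) M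
  obtain ⟨k, g, rfl⟩ := Submodule.fg_iff_exists_fin_generating_family.mp hK
  have hmem : ∀ (l : Fin r) (i : Fin N), inl m (b l) • (Pi.single i 1 : Fin N → Pσ n m A) ∈
      Submodule.span (Pσ n m A) (Set.range g) := fun l i => by
    rw [← Submodule.Quotient.mk_eq_zero, Submodule.Quotient.mk_smul]
    refine e.symm.injective ?_
    rw [map_zero, map_smul]
    exact hb l _
  choose c hc using fun l i => (Submodule.mem_span_range_iff_exists_fun _).mp (hmem l i)
  obtain ⟨T₁, hT₁⟩ := exists_adjoin_vec (σ := Fin n ⊕ Fin m) (fun x : Fin k × Fin N => g x.1 x.2)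
  obtain ⟨T₂, hT₂⟩ := exists_adjoin_vec (σ := Fin n) b
  obtain ⟨T₃, hT₃⟩ := exists_adjoin_vec (σ := Fin n ⊕ Fin m) (fun x : (Fin r × Fin N) × Fin k => c x.1.1 x.1.2 x.2)
  let T := T₁ ∪ T₂ ∪ T₃
  obtain ⟨v, hv⟩ := hT₁ T (Finset.subset_union_left.trans Finset.subset_union_left)
  obtain ⟨b₀, hb₀⟩ := hT₂ T (Finset.subset_union_right.trans Finset.subset_union_left)
  obtain ⟨c₀, hc₀⟩ := hT₃ T Finset.subset_union_right
  let g₀ : Fin k → Fin N → Pσ n m (adj T) := fun l i => v (l, i)
  have hg : ∀ l, vmap (algebraMap (adj T) A) (g₀ l) = g l := fun l => funext fun i => congrFun hv (l, i)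
  haveI := adj_isNoetherianRing T
  have hinjP : Function.Injective (MvPolynomial.map (σ := Fin n ⊕ Fin m) (algebraMap (adj T) A)) :=
    MvPolynomial.map_injective _ Subtype.val_injective
  have hb' : Killed m b₀ (Coker g₀) := by
    intro l z
    obtain ⟨z, rfl⟩ := Submodule.mkQ_surjective _ z
    rw [← map_smul, Submodule.mkQ_apply, Submodule.Quotient.mk_eq_zero, pi_eq_sum_univ' z, Finset.smul_sum]
    refine Submodule.sum_mem _ fun i _ => ?_
    rw [smul_comm]
    refine Submodule.smul_mem _ _ ((Submodule.mem_span_range_iff_exists_fun _).mpr ⟨fun t => c₀ ((l, i), t), ?_⟩)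
    refine funext fun a => hinjP ?_
    have hbl : MvPolynomial.map (algebraMap (adj T) A) (b₀ l) = b l := congrFun hb₀ l
    have hca : ∀ t, MvPolynomial.map (algebraMap (adj T) A) (c₀ ((l, i), t)) = c l i t := fun t => congrFun hc₀ _
    have hga : ∀ t, MvPolynomial.map (algebraMap (adj T) A) (g₀ t a) = g t a := fun t => congrFun (hg t) a
    have h1 := congrFun (hc l i) a
    simp only [Finset.sum_apply, Pi.smul_apply, smul_eq_mul] at h1 ⊢
    rw [map_sum, map_mul, show MvPolynomial.map (algebraMap (adj T) A) (inl m (b₀ l)) =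
      inl m (b l) from (MvPolynomial.map_rename _ Sum.inl _).trans (congrArg _ hbl)]
    simp only [map_mul, hca, hga]
    rw [h1]
    rcases eq_or_ne a i with rfl | h
    · simp
    · simp [Pi.single_eq_of_ne h]
  rw [show b = fun l => MvPolynomial.map (algebraMap (adj T) A) (b₀ l) from funext fun l => (congrFun hb₀ l).symm]
  exact of_model g₀ g hg b₀ hb' M e

end Groth.Agent.FibreDepth.FlatFamily
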