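import Mathlib
import Groth.Agent.FibreDepth.Chart
import Groth.Agent.FibreDepth.Constr
import Groth.Agent.FibreDepth.FlatFamily
import Groth.Agent.FibreDepth.FibreFlatStalk
import Groth.Agent.FibreDepth.FibreMaps

/-! Local constructibility of the fibrewise flat locus of a module. -/

set_option autoImplicit false
set_option backward.isDefEq.respectTransparency false
set_option linter.style.haveILetI false
noncomputable section
universe u
open CategoryTheory CategoryTheory.Limits AlgebraicGeometry TopologicalSpace Topology IsLocalRing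
open scoped TensorProduct
open Groth.Agent.Flat.FlatAt Groth.Agent.Flat.FibreCriterion

namespace Groth.Agent.FibreDepth.FibreFlatLocus

/-- the condition passes to the local rings -/
theorem killed_local_iff {B C M Bl Cl L : Type u} [CommRing B] [CommRing C] [CommRing Bl] [CommRing Cl] [IsLocalRing Cl]
    [Algebra B C] [Algebra B Bl] [Algebra Bl Cl] [Algebra C Cl]
    [AddCommGroup M] [Module B M] [Module C M] [IsScalarTower B C M]
    [AddCommGroup L] [Module B L] [Module C L] [Module Bl L] [Module Cl L]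
    [IsScalarTower B C L] [IsScalarTower B Bl L] [IsScalarTower Bl Cl L] [IsScalarTower C Cl L]
    (T : Submonoid B) [IsLocalization T Bl] (q : Ideal C) [q.IsPrime] [IsLocalization.AtPrime Cl q]
    (ℓ : M →ₗ[C] L) [IsLocalizedModule q.primeCompl ℓ] (I : Ideal B) :
    FlatAtKilled B M I q ↔ FlatAtKilled Bl L (I.map (algebraMap B Bl)) (maximalIdeal Cl) := by
  constructor
  · intro h P Q _ _ _ _ f hf hP hQ x hx
    letI : Module B P := Module.compHom P (algebraMap B Bl)
    haveI : IsScalarTower B Bl P := IsScalarTower.of_algebraMap_smul fun _ _ => rfl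
    letI : Module B Q := Module.compHom Q (algebraMap B Bl)
    haveI : IsScalarTower B Bl Q := IsScalarTower.of_algebraMap_smul fun _ _ => rfl
    have hinj : Function.Injective ((f.restrictScalars B).lTensor L) :=
      Flat.Descent.lTensor_localized_injective q.primeCompl ℓ _ fun z hz => h (f.restrictScalars B) hf
        (fun i hi w => hP _ (Ideal.mem_map_of_mem _ hi) w) (fun i hi w => hQ _ (Ideal.mem_map_of_mem _ hi) w) z hz
    let j : L →ₗ[B] L := LinearMap.id
    have hj : IsBaseChange Bl j := by
      haveI : IsLocalizedModule T j := by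
        refine ⟨fun t => ?_, fun v => ⟨(v, 1), one_smul _ _⟩, fun {a b} hab => ⟨1, by rw [one_smul, one_smul]; exact hab⟩⟩
        rw [Module.End.isUnit_iff]
        obtain ⟨v, hv⟩ := IsLocalization.map_units Bl t
        refine ⟨fun a b hab => ?_, fun a => ⟨(↑v⁻¹ : Bl) • a, ?_⟩⟩
        · simp only [Module.algebraMap_end_apply] at hab
          rw [← algebraMap_smul Bl, ← algebraMap_smul Bl (t : B) b, ← hv] at hab
          exact v.isUnit.smul_left_cancel.mp hab
        · rw [Module.algebraMap_end_apply, ← algebraMap_smul Bl, ← hv, smul_smul, Units.mul_inv, one_smul]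
      exact IsLocalizedModule.isBaseChange T Bl j
    refine ⟨1, fun h1 => (maximalIdeal.isMaximal Cl).ne_top ((Ideal.eq_top_iff_one _).mpr h1), ?_⟩
    rw [one_smul]
    obtain ⟨x, rfl⟩ := (twist j hj).surjective x
    rw [← twist_lTensor, map_eq_zero_iff _ (twist j hj).injective] at hx
    rw [hinj (hx.trans (map_zero _).symm), map_zero]
  · intro h P Q _ _ _ _ f hf hP hQ x hx
    haveI : Module.Flat B Bl := IsLocalization.flat Bl T
    let f' : Bl ⊗[B] P →ₗ[Bl] Bl ⊗[B] Q := f.baseChange Bl
    have hf' : Function.Injective f' := Module.Flat.lTensor_preserves_injective_linearMap f hf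
    have hkill : ∀ {N : Type u} [AddCommGroup N] [Module B N], (∀ i ∈ I, ∀ w : N, i • w = 0) →
        ∀ i ∈ I.map (algebraMap B Bl), ∀ w : Bl ⊗[B] N, i • w = 0 := by
      intro N _ _ hN i hi w
      refine (show I.map (algebraMap B Bl) ≤ LinearMap.ker (LinearMap.toSpanSingleton Bl _ w) from
        Ideal.map_le_iff_le_comap.mpr fun a ha => ?_) hi
      show algebraMap B Bl a • w = 0
      rw [algebraMap_smul]
      induction w using TensorProduct.induction_on with
      | zero => simp
      | add a b ha hb => rw [smul_add, ha, hb, add_zero]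
      | tmul k n => rw [← TensorProduct.tmul_smul, hN a ha, TensorProduct.tmul_zero]
    let cP := TensorProduct.AlgebraTensorModule.cancelBaseChange B Bl Bl L P
    let cQ := TensorProduct.AlgebraTensorModule.cancelBaseChange B Bl Bl L Q
    have key : ∀ z, f.lTensor L (cP z) = cQ (f'.lTensor L z) := fun z => by
      induction z using TensorProduct.induction_on with
      | zero => simp
      | add a b ha hb => simp only [map_add, ha, hb]
      | tmul l w =>
        induction w using TensorProduct.induction_on with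
        | zero => simp
        | add a b ha hb => simp only [TensorProduct.tmul_add, map_add, ha, hb]
        | tmul k p => simp [cP, cQ, f']
    have hinj : Function.Injective (f.lTensor L) := by
      rw [injective_iff_map_eq_zero]
      intro z hz
      obtain ⟨z, rfl⟩ := cP.surjective z
      rw [key, LinearEquiv.map_eq_zero_iff] at hz
      obtain ⟨t, ht, ht0⟩ := h f' hf' (hkill hP) (hkill hQ) z hz
      have hu : IsUnit t := by
        by_contra hn
        exact ht ((mem_maximalIdeal t).mpr hn)
      rw [(hu.smul_eq_zero).mp ht0, map_zero]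
    exact Flat.Descent.exists_smul_eq_zero_of_injective q.primeCompl ℓ f hinj hx

variable {X Y S : Scheme.{u}} (f : X ⟶ Y) (h : Y ⟶ S) [LocallyOfFinitePresentation (f ≫ h)]
  [LocallyOfFinitePresentation h] (F : X.Modules) (hF : CohB1.IsFP F)

open FibreFlatStalk FlatFamily Groth.Agent.FibreDepth.Ring in
include hF in
set_option maxHeartbeats 2000000 in
theorem isLC : IsLocallyConstructible {x : X | K f h F x} := fun x => by
  classical
  haveI := Sections.isQuasicoherent_of_isFP F hF
  obtain ⟨U₀, hU₀, hsU, -⟩ := exists_isAffineOpen_mem_and_subset (X := S) (U := ⊤) (x := h (f x)) trivial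
  obtain ⟨V, hV, hyV, hVU⟩ := exists_isAffineOpen_mem_and_subset (X := Y) (U := h ⁻¹ᵁ U₀) (x := f x) hsU
  obtain ⟨O, hxO, hO⟩ := Sections.exists_affine F hF x
  obtain ⟨W₀, hW₀, hxW, hWsub⟩ := exists_isAffineOpen_mem_and_subset (X := X) (U := f ⁻¹ᵁ V ⊓ O) (x := x) ⟨hyV, hxO⟩
  have hWV : W₀ ≤ f ⁻¹ᵁ V := fun z hz => (hWsub hz).1
  have hWU : W₀ ≤ (f ≫ h) ⁻¹ᵁ U₀ := fun z hz => hVU (hWV hz)
  haveI := hO W₀ hW₀ fun z hz => (hWsub hz).2
  let A := Γ(S, U₀)
  let B := Γ(Y, V)
  let C := Γ(X, W₀)
  let M := Γ(F, W₀)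
  letI : Algebra A B := (h.appLE U₀ V hVU).hom.toAlgebra
  letI : Algebra B C := (f.appLE V W₀ hWV).hom.toAlgebra
  letI : Algebra A C := ((f ≫ h).appLE U₀ W₀ hWU).hom.toAlgebra
  haveI : IsScalarTower A B C := IsScalarTower.of_algebraMap_eq' (by
    show ((f ≫ h).appLE U₀ W₀ hWU).hom = (f.appLE V W₀ hWV).hom.comp (h.appLE U₀ V hVU).hom
    rw [← CommRingCat.hom_comp, Scheme.Hom.appLE_comp_appLE])
  haveI : Algebra.FinitePresentation A B := h.finitePresentation_appLE hU₀ hV hVU
  haveI : Algebra.FinitePresentation A C := (f ≫ h).finitePresentation_appLE hU₀ hW₀ hWU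
  obtain ⟨n, πB, hπB, hkB⟩ := (inferInstance : Algebra.FinitePresentation A B).out
  obtain ⟨r, b, hb⟩ := Submodule.fg_iff_exists_fin_generating_family.mp hkB
  obtain ⟨m, πy, hπy, -⟩ := (inferInstance : Algebra.FinitePresentation A C).out
  let πC : Pσ n m A →ₐ[A] C := MvPolynomial.aeval
    (Sum.elim (fun i => algebraMap B C (πB (MvPolynomial.X i))) fun i => πy (MvPolynomial.X i))
  have hπC : Function.Surjective πC := fun c => by
    obtain ⟨z, rfl⟩ := hπy c
    refine ⟨MvPolynomial.rename Sum.inr z, ?_⟩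
    rw [show πC (MvPolynomial.rename Sum.inr z) = (πC.comp (MvPolynomial.rename Sum.inr)) z from rfl]
    exact congrArg (fun g : MvPolynomial (Fin m) A →ₐ[A] C => g z) (MvPolynomial.algHom_ext fun i => by simp [πC])
  have hπr : ∀ z, πC (inl m z) = algebraMap B C (πB z) := fun z => by
    rw [show πC (inl m z) = (πC.comp (MvPolynomial.rename Sum.inl)) z from rfl,
      show algebraMap B C (πB z) = ((IsScalarTower.toAlgHom A B C).comp πB) z from rfl]
    exact congrArg (fun g : MvPolynomial (Fin n) A →ₐ[A] C => g z) (MvPolynomial.algHom_ext fun i => by simp [πC])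
  letI : Algebra (Pσ n m A) C := πC.toRingHom.toAlgebra
  letI : Algebra (Pτ n A) B := πB.toRingHom.toAlgebra
  letI : Algebra (Pτ n A) C := ((algebraMap B C).comp πB.toRingHom).toAlgebra
  haveI : IsScalarTower (Pτ n A) B C := IsScalarTower.of_algebraMap_eq fun _ => rfl
  letI : Algebra (Pτ n A) (Pσ n m A) := algInl
  haveI : IsScalarTower A (Pσ n m A) C := IsScalarTower.of_algebraMap_eq fun a => (πC.commutes a).symm
  haveI : IsScalarTower A (Pτ n A) B := IsScalarTower.of_algebraMap_eq fun a => (πB.commutes a).symm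
  letI : Module (Pσ n m A) M := Module.compHom M πC.toRingHom
  haveI : IsScalarTower (Pσ n m A) C M := IsScalarTower.of_algebraMap_smul fun _ _ => rfl
  letI : Module B M := Module.compHom M (algebraMap B C)
  haveI : IsScalarTower B C M := IsScalarTower.of_algebraMap_smul fun _ _ => rfl
  letI : Module (Pτ n A) M := Module.compHom M ((algebraMap B C).comp πB.toRingHom)
  haveI : IsScalarTower (Pτ n A) B M := IsScalarTower.of_algebraMap_smul fun _ _ => rfl
  haveI : IsScalarTower (Pτ n A) C M := IsScalarTower.of_algebraMap_smul fun _ _ => rfl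
  haveI : IsScalarTower (Pτ n A) (Pσ n m A) M := IsScalarTower.of_algebraMap_smul fun z v => by
    show πC (inl m z) • v = _
    rw [hπr]
    rfl
  haveI : Module.FinitePresentation (Pσ n m A) C :=
    Module.finitePresentation_of_surjective (Algebra.linearMap (Pσ n m A) C) hπC
      (Algebra.FinitePresentation.ker_fG_of_surjective πC hπC)
  haveI : Module.FinitePresentation (Pσ n m A) M := Module.FinitePresentation.trans (R := Pσ n m A) (M := M) C
  have hkill : Killed m b M := fun l v => by
    show πC (inl m (b l)) • v = 0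
    rw [hπr, show πB (b l) = 0 from (RingHom.mem_ker (f := πB.toRingHom)).mp (hb.le (Submodule.subset_span ⟨l, rfl⟩)),
      map_zero, zero_smul]
  have hW := FlatFamily.isConstructible b M hkill
  refine ⟨(W₀ : Set X), W₀.isOpen.mem_nhds hxW, W₀.isOpen, ?_⟩
  let c : PrimeSpectrum C → PrimeSpectrum (Pσ n m A) := PrimeSpectrum.comap πC.toRingHom
  let g : ↥(W₀ : Scheme.{u}) → PrimeSpectrum C := fun w => hW₀.isoSpec.hom w
  have hg : IsOpenEmbedding g := hW₀.isoSpec.hom.homeomorph.isOpenEmbedding
  have hgQ : ∀ w : ↥(W₀ : Scheme.{u}), g w = hW₀.primeIdealOf ⟨w.1, w.2⟩ := fun w => rfl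
  have key : ∀ w : ↥(W₀ : Scheme.{u}), K f h F w.1 ↔ c (g w) ∈ FlatFamily.W (m := m) A b M := fun w => by
    let Q := g w
    let y : Y := f w.1
    have hy : y ∈ V := hWV w.2
    have hQr : below A (c Q) = below A Q := PrimeSpectrum.ext (by
      show (Q.asIdeal.comap πC.toRingHom).comap (algebraMap A (Pσ n m A)) = Q.asIdeal.comap (algebraMap A C)
      rw [Ideal.comap_comap]
      exact congrArg (fun t => Q.asIdeal.comap t) πC.comp_algebraMap)
    have hp : below A Q = below A (hV.primeIdealOf ⟨y, hy⟩) := by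
      rw [show Q = hW₀.primeIdealOf ⟨w.1, w.2⟩ from hgQ w,
        Chart.below_primeIdealOf (f ≫ h) hU₀ hW₀ hWU rfl w.1 w.2, Chart.below_primeIdealOf h hU₀ hV hVU rfl y hy]
      rfl
    have hker : RingHom.ker (algebraMap (Pτ n A) B) ≤ fibJ b (c Q) := le_of_eq_of_le hb.symm le_sup_right
    rw [FlatFamily.mem_W, show (c Q).asIdeal = Q.asIdeal.comap πC.toRingHom from rfl]
    refine Iff.trans ?_ (KilledFlat.killed_quot_iff (B := B) hπB πC.toRingHom hπC (fun _ _ => rfl) _ hker Q.asIdeal)
    have hI : (fibJ b (c Q)).map (algebraMap (Pτ n A) B) = (below A Q).asIdeal.map (algebraMap A B) := by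
      rw [fibJ, Ideal.map_sup, Ideal.map_map, ← IsScalarTower.algebraMap_eq, hQr,
        show (Ideal.span (Set.range b)).map (algebraMap (Pτ n A) B) = ⊥ from
          (Ideal.map_eq_bot_iff_le_ker _).mpr hb.le, sup_bot_eq]
    rw [hI]
    let L := F.presheaf.stalk w.1
    letI := ModStalk.sectionModule F (⟨w.1, w.2⟩ : W₀)
    letI := TopCat.Presheaf.algebra_section_stalk X.presheaf (⟨w.1, w.2⟩ : W₀)
    haveI := ModStalk.sectionTower F (⟨w.1, w.2⟩ : W₀)
    haveI : IsLocalization.AtPrime (X.presheaf.stalk w.1) Q.asIdeal := hW₀.isLocalization_stalk ⟨w.1, w.2⟩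
    haveI : IsLocalizedModule Q.asIdeal.primeCompl (ModStalk.germₗ F (⟨w.1, w.2⟩ : W₀)) :=
      ModStalk.isLocalizedModule_germ hW₀ F (⟨w.1, w.2⟩ : W₀)
    letI := TopCat.Presheaf.algebra_section_stalk Y.presheaf (⟨y, hy⟩ : V)
    haveI := hV.isLocalization_stalk ⟨y, hy⟩
    letI := (f.stalkMap w.1).hom.toAlgebra
    letI := FlatMod.moduleStalkOver f F w.1
    haveI : IsScalarTower (Y.presheaf.stalk y) (X.presheaf.stalk w.1) L := IsScalarTower.of_algebraMap_smul fun _ _ => rfl
    letI : Module B L := Module.compHom L (algebraMap B C)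
    haveI : IsScalarTower B C L := IsScalarTower.of_algebraMap_smul fun _ _ => rfl
    haveI : IsScalarTower B (Y.presheaf.stalk y) L := IsScalarTower.of_algebraMap_smul fun a v => by
      show f.stalkMap w.1 (Y.presheaf.germ V y hy a) • v = X.presheaf.germ W₀ w.1 w.2 (algebraMap B C a) • v
      rw [Chart.stalkMap_germ f hWV rfl w.1 w.2 a]
    refine Iff.trans ?_ (killed_local_iff (Bl := Y.presheaf.stalk y) (Cl := X.presheaf.stalk w.1)
      (hV.primeIdealOf ⟨y, hy⟩).asIdeal.primeCompl Q.asIdeal (ModStalk.germₗ F (⟨w.1, w.2⟩ : W₀)) _).symm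
    have hJ : J f h w.1 = ((below A Q).asIdeal.map (algebraMap A B)).map (algebraMap B (Y.presheaf.stalk y)) := by
      rw [hp, Ideal.map_map]
      exact Chart.fibre_ideal_eq h hU₀ hV hVU rfl y hy
    rw [← hJ]
    exact Iff.rfl
  have hset : (fun w : ↥(W₀ : Scheme.{u}) => w.1) ⁻¹' {x : X | K f h F x} = g ⁻¹' (c ⁻¹' FlatFamily.W (m := m) A b M) :=
    Set.ext key
  exact (congrArg IsConstructible hset).mpr ((Strata.isConstructible_comap _ hW).preimage_of_isOpenEmbedding hg)

end Groth.Agent.FibreDepth.FibreFlatLocus
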