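import Mathlib
import Groth.Agent.FibreDepth.SchemeStrata
import Groth.Agent.FibreDepth.FibreMaps
import Groth.Agent.Locus.BaseChange

/-! The unramified locus is constructible; monomorphisms on the fibres. -/

set_option autoImplicit false
set_option backward.isDefEq.respectTransparency false
set_option linter.style.haveILetI false
universe u
open CategoryTheory CategoryTheory.Limits AlgebraicGeometry TopologicalSpace Topology

namespace Groth.Agent.FibreDepth.UnramifiedFibre
open DenseLocus FibreMaps

/-- `f` is unramified at `x` -/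
def Un {X S : Scheme.{u}} (f : X ⟶ S) (x : X) : Prop := (f.stalkMap x).hom.FormallyUnramified

theorem bc {X' X S' S : Scheme.{u}} {g' : X' ⟶ X} {f' : X' ⟶ S'} {f : X ⟶ S} {g : S' ⟶ S}
    [LocallyOfFinitePresentation f] (h : IsPullback g' f' f g) (x' : X') : Un f' x' ↔ Un f (g' x') := by
  haveI : LocallyOfFiniteType f' := MorphismProperty.of_isPullback h inferInstance
  refine ⟨fun hx => Locus.BaseChange.formallyUnramified_stalkMap_of_isPullback h hx, fun hx => ?_⟩
  exact (Locus.Basic.exists_formallyUnramified_nhd_iff f' x').mp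
    (Locus.BaseChange.exists_nhd_of_isPullback @FormallyUnramified h
      ((Locus.Basic.exists_formallyUnramified_nhd_iff f _).mpr hx))

theorem openImm {U X S : Scheme.{u}} (j : U ⟶ X) [IsOpenImmersion j] (f : X ⟶ S) [LocallyOfFinitePresentation f]
    (w : U) : Un (j ≫ f) w ↔ Un f (j w) := by
  rw [Un, Scheme.Hom.stalkMap_comp, CommRingCat.hom_comp]
  exact RingHom.FormallyUnramified.respectsIso.cancel_right_isIso _ (j.stalkMap w)

theorem isOpen_un {X S : Scheme.{u}} (f : X ⟶ S) [LocallyOfFiniteType f] : IsOpen {x : X | Un f x} :=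
  isOpen_iff_forall_mem_open.mpr fun x hx => by
    obtain ⟨U, hxU, hU⟩ := (Locus.Basic.exists_formallyUnramified_nhd_iff f x).mpr hx
    exact ⟨(U : Set X), fun y hy => (Locus.Basic.exists_formallyUnramified_nhd_iff f y).mp ⟨U, hy, hU⟩,
      U.isOpen, hxU⟩

theorem flat_case (R A : Type u) [CommRing R] [IsNoetherianRing R] [CommRing A] [Algebra R A]
    [Algebra.FinitePresentation R A] [Module.Flat R A] :
    IsConstructible {q : PrimeSpectrum A | Un (Spec.map (CommRingCat.ofHom (algebraMap R A))) q} := by
  haveI : LocallyOfFinitePresentation (Spec.map (CommRingCat.ofHom (algebraMap R A))) := SchemeStrata.lfp_SpecMap R A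
  haveI : IsNoetherianRing A := Algebra.FiniteType.isNoetherianRing R A
  exact (NoetherianSpace.isCompact _).isConstructible (isOpen_un (Spec.map (CommRingCat.ofHom (algebraMap R A))))

theorem isLC {X S : Scheme.{u}} (f : X ⟶ S) [LocallyOfFinitePresentation f] :
    IsLocallyConstructible {x : X | Un f x} :=
  SchemeStrata.isLC (Q := fun f x => Un f x) (fun h x => bc h x) (fun j _ f _ w => openImm j f w) flat_case f

theorem formallyUnramified_iff {X S : Scheme.{u}} (f : X ⟶ S) [LocallyOfFiniteType f] :
    FormallyUnramified f ↔ ∀ x, Un f x :=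
  ⟨fun _ x => FormallyUnramified.stalkMap f x,
    fun h => HasRingHomProperty.of_stalkMap RingHom.FormallyUnramified.ofLocalizationPrime h⟩

theorem mono_iff {X S : Scheme.{u}} (f : X ⟶ S) [LocallyOfFiniteType f] :
    Mono f ↔ FormallyUnramified f ∧ UniversallyInjective f := by
  rw [← pullback.isIso_diagonal_iff]
  constructor
  · intro hd
    refine ⟨inferInstance, (UniversallyInjective.iff_diagonal f).mpr inferInstance⟩
  · rintro ⟨_, hu⟩
    haveI := (UniversallyInjective.iff_diagonal f).mp hu
    exact (isIso_iff_isOpenImmersion_and_surjective _).mpr ⟨inferInstance, inferInstance⟩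

variable {X Y S : Scheme.{u}} (h : X ⟶ Y) (g : Y ⟶ S)

theorem formallyUnramified_fs_iff [LocallyOfFinitePresentation h] (s : S) :
    FormallyUnramified (fs h g s) ↔ s ∉ (h ≫ g).base '' {x | ¬ Un h x} := by
  have sq := isPullback_fs h g s
  haveI : LocallyOfFiniteType (fs h g s) := MorphismProperty.of_isPullback sq inferInstance
  rw [formallyUnramified_iff]
  constructor
  · rintro hall ⟨x, hx, hxs⟩
    obtain ⟨v, rfl⟩ : x ∈ Set.range ((h ≫ g).fiberι s) := by rw [(h ≫ g).range_fiberι]; exact hxs
    exact hx ((bc sq v).mp (hall v))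
  · intro hn v
    exact (bc sq v).mpr (by_contra fun hv => hn ⟨_, hv, ((h ≫ g).range_fiberι s).subset ⟨v, rfl⟩⟩)

variable [LocallyOfFinitePresentation g] [QuasiSeparated g]
  [LocallyOfFinitePresentation (h ≫ g)] [QuasiCompact (h ≫ g)]

theorem lc_formallyUnramified : IsLocallyConstructible {s : S | FormallyUnramified (fs h g s)} := by
  haveI : LocallyOfFinitePresentation h := Mor.Cancel.locallyOfFinitePresentation_of_comp h g
  exact (congrArg IsLocallyConstructible (Set.ext fun s => formallyUnramified_fs_iff h g s)).mpr
    (ConstrStatements.lc_compl ((h ≫ g).isLocallyConstructible_image (ConstrStatements.lc_compl (isLC h))))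

theorem lc_mono [QuasiSeparated (h ≫ g)] : IsLocallyConstructible {s : S | Mono (fs h g s)} := by
  haveI : LocallyOfFinitePresentation h := Mor.Cancel.locallyOfFinitePresentation_of_comp h g
  refine (congrArg IsLocallyConstructible (Set.ext fun s => ?_)).mpr
    ((lc_formallyUnramified h g).inter (lc_universallyInjective h g))
  haveI : LocallyOfFiniteType (fs h g s) := MorphismProperty.of_isPullback (isPullback_fs h g s) inferInstance
  exact mono_iff (fs h g s)

end Groth.Agent.FibreDepth.UnramifiedFibre
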