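import Mathlib
import Groth.Agent.FibreDepth.FibreFlatLocus
import Groth.Agent.FibreDepth.SmoothFibre
import Groth.Agent.FibreDepth.UnramifiedFibre
import Groth.Agent.FibreDepth.Unit

/-! The loci where the maps of fibres are flat, smooth, etale, open immersions, isomorphisms. -/

set_option autoImplicit false
set_option backward.isDefEq.respectTransparency false
set_option linter.style.haveILetI false
noncomputable section
universe u
open CategoryTheory CategoryTheory.Limits AlgebraicGeometry TopologicalSpace Topology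
open scoped TensorProduct

namespace Groth.Agent.FibreDepth.FibreFlatMaps
open FibreFlatStalk

section unit

variable {X X' Y' : Scheme.{u}} (g' : X' ⟶ X) (f' : X' ⟶ Y') (x' : X')

theorem isFlatOverAt_unit_iff :
    FlatMod.IsFlatOverAt f' ((Scheme.Modules.pullback g').obj (Coh.structureModule X)) x' ↔
      (f'.stalkMap x').hom.Flat := by
  letI := (g'.stalkMap x').hom.toAlgebra
  obtain ⟨e, -⟩ := ModStalk.exists_pullStalk_equiv g' (Coh.structureModule X) x'
  let E := e.trans ((TensorProduct.AlgebraTensorModule.congr (LinearEquiv.refl _ _)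
    (ModStalk.unitStalkEquiv (g' x')).symm).trans (TensorProduct.AlgebraTensorModule.rid _ _ _))
  letI := (f'.stalkMap x').hom.toAlgebra
  letI := FlatMod.moduleStalkOver f' ((Scheme.Modules.pullback g').obj (Coh.structureModule X)) x'
  haveI : IsScalarTower (Y'.presheaf.stalk (f'.base x')) (X'.presheaf.stalk x')
      (((Scheme.Modules.pullback g').obj (Coh.structureModule X)).presheaf.stalk x') :=
    IsScalarTower.of_algebraMap_smul fun _ _ => rfl
  exact Module.Flat.equiv_iff (E.restrictScalars (Y'.presheaf.stalk (f'.base x')))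

end unit

variable {X Y S : Scheme.{u}} (f : X ⟶ Y) (h : Y ⟶ S)

theorem flat_iff {Xs Ys : Scheme.{u}} (s : S) (ιX : Xs ⟶ X) (ιY : Ys ⟶ Y) (f' : Xs ⟶ Ys)
    (pY : Ys ⟶ Spec (S.residueField s)) (hY : IsPullback ιY pY h (S.fromSpecResidueField s))
    (hX : IsPullback ιX f' f ιY) :
    AlgebraicGeometry.Flat f' ↔ ∀ v, K f h (Coh.structureModule X) (ιX v) := by
  simp only [← isFlatOverAt_iff f h (Coh.structureModule X) s ιX ιY f' pY hY hX, isFlatOverAt_unit_iff]
  exact ⟨fun _ v => AlgebraicGeometry.Flat.stalkMap f' v, fun hv => AlgebraicGeometry.Flat.of_stalkMap _ hv⟩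

theorem smooth_iff {X Y : Scheme.{u}} (f : X ⟶ Y) [LocallyOfFinitePresentation f] :
    Smooth f ↔ AlgebraicGeometry.Flat f ∧ ∀ x, SmoothFibre.Sm f x := by
  constructor
  · intro _
    exact ⟨inferInstance, fun x => (SmoothFibre.iff_of_flat f x).mpr (by rw [f.smoothLocus_eq_top]; trivial)⟩
  · rintro ⟨_, h⟩
    exact Scheme.Hom.smoothLocus_eq_top_iff.mp (TopologicalSpace.Opens.ext (Set.eq_univ_of_forall fun x =>
      (SmoothFibre.iff_of_flat f x).mp (h x)))

section pb

variable (s : S)

theorem range_fst : Set.range (pullback.fst f (h.fiberι s)).base = (f ≫ h).base ⁻¹' {s} := by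
  rw [Scheme.Pullback.range_fst, h.range_fiberι]
  rfl

theorem flat_snd_iff :
    AlgebraicGeometry.Flat (pullback.snd f (h.fiberι s)) ↔
      s ∉ (f ≫ h).base '' {x | ¬ K f h (Coh.structureModule X) x} := by
  rw [flat_iff f h s _ (h.fiberι s) _ _ (IsPullback.of_hasPullback h (S.fromSpecResidueField s)) (IsPullback.of_hasPullback f (h.fiberι s))]
  constructor
  · rintro hall ⟨x, hx, hxs⟩
    obtain ⟨v, rfl⟩ := (range_fst f h s).ge hxs
    exact hx (hall v)
  · intro hn v
    exact by_contra fun hv => hn ⟨_, hv, (range_fst f h s).le ⟨v, rfl⟩⟩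

theorem smooth_snd_iff [LocallyOfFinitePresentation f] :
    Smooth (pullback.snd f (h.fiberι s)) ↔ AlgebraicGeometry.Flat (pullback.snd f (h.fiberι s)) ∧
      s ∉ (f ≫ h).base '' {x | ¬ SmoothFibre.Sm f x} := by
  haveI : LocallyOfFinitePresentation (pullback.snd f (h.fiberι s)) :=
    MorphismProperty.pullback_snd (P := @LocallyOfFinitePresentation) _ _ inferInstance
  rw [smooth_iff]
  refine and_congr_right fun _ => ?_
  have hbc := fun v => SmoothFibre.bc (IsPullback.of_hasPullback f (h.fiberι s)) v
  simp only [hbc]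
  constructor
  · rintro hall ⟨x, hx, hxs⟩
    obtain ⟨v, rfl⟩ := (range_fst f h s).ge hxs
    exact hx (hall v)
  · intro hn v
    exact by_contra fun hv => hn ⟨_, hv, (range_fst f h s).le ⟨v, rfl⟩⟩

theorem fs_eq :
    ∃ e : pullback (f ≫ h) (S.fromSpecResidueField s) ≅ pullback f (h.fiberι s),
      DenseLocus.fs f h s = e.hom ≫ pullback.snd f (h.fiberι s) :=
  ⟨(FibreMaps.isPullback_fs f h s).isoPullback, ((FibreMaps.isPullback_fs f h s).isoPullback_hom_snd).symm⟩

end pb

variable [LocallyOfFinitePresentation h] [QuasiCompact h] [QuasiSeparated h]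
  [LocallyOfFinitePresentation (f ≫ h)] [QuasiCompact (f ≫ h)] [QuasiSeparated (f ≫ h)]

theorem lc_flat : IsLocallyConstructible {s : S | AlgebraicGeometry.Flat (pullback.snd f (h.fiberι s))} :=
  (congrArg IsLocallyConstructible (Set.ext fun s => flat_snd_iff f h s)).mpr
    (ConstrStatements.lc_compl ((f ≫ h).isLocallyConstructible_image
      (ConstrStatements.lc_compl (FibreFlatLocus.isLC f h (Coh.structureModule X) (Unit.isFP_unit X)))))

theorem lc_smooth : IsLocallyConstructible {s : S | Smooth (pullback.snd f (h.fiberι s))} := by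
  haveI : LocallyOfFinitePresentation f := Mor.Cancel.locallyOfFinitePresentation_of_comp f h
  exact (congrArg IsLocallyConstructible (Set.ext fun s => smooth_snd_iff f h s)).mpr
    ((lc_flat f h).inter (ConstrStatements.lc_compl ((f ≫ h).isLocallyConstructible_image
      (ConstrStatements.lc_compl (SmoothFibre.isLC f)))))

theorem lc_formallyUnramified :
    IsLocallyConstructible {s : S | FormallyUnramified (pullback.snd f (h.fiberι s))} :=
  (congrArg IsLocallyConstructible (Set.ext fun s => by
    obtain ⟨e, he⟩ := fs_eq f h s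
    show FormallyUnramified (pullback.snd f (h.fiberι s)) ↔ FormallyUnramified (DenseLocus.fs f h s)
    rw [he]
    exact (MorphismProperty.cancel_left_of_respectsIso @FormallyUnramified e.hom _).symm)).mpr
    (UnramifiedFibre.lc_formallyUnramified f h)

theorem lc_etale : IsLocallyConstructible {s : S | Etale (pullback.snd f (h.fiberι s))} := by
  haveI : LocallyOfFinitePresentation f := Mor.Cancel.locallyOfFinitePresentation_of_comp f h
  refine (congrArg IsLocallyConstructible (Set.ext fun s => ?_)).mpr ((lc_flat f h).inter (lc_formallyUnramified f h))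
  haveI : LocallyOfFinitePresentation (pullback.snd f (h.fiberι s)) :=
    MorphismProperty.pullback_snd (P := @LocallyOfFinitePresentation) _ _ inferInstance
  exact Etale.iff_flat_and_formallyUnramified.trans ⟨fun hh => ⟨hh.1, hh.2.1⟩, fun hh => ⟨hh.1, hh.2, inferInstance⟩⟩

theorem lc_openImm : IsLocallyConstructible {s : S | IsOpenImmersion (DenseLocus.fs f h s)} := by
  haveI : LocallyOfFinitePresentation f := Mor.Cancel.locallyOfFinitePresentation_of_comp f h
  refine (congrArg IsLocallyConstructible (Set.ext fun s => ?_)).mpr ((lc_flat f h).inter (UnramifiedFibre.lc_mono f h))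
  obtain ⟨e, he⟩ := fs_eq f h s
  show IsOpenImmersion (DenseLocus.fs f h s) ↔ AlgebraicGeometry.Flat (pullback.snd f (h.fiberι s)) ∧ Mono (DenseLocus.fs f h s)
  rw [← MorphismProperty.cancel_left_of_respectsIso @AlgebraicGeometry.Flat e.hom (pullback.snd f (h.fiberι s)), ← he]
  constructor
  · intro _
    exact ⟨inferInstance, inferInstance⟩
  · rintro ⟨_, _⟩
    haveI : LocallyOfFinitePresentation (DenseLocus.fs f h s) :=
      MorphismProperty.of_isPullback (FibreMaps.isPullback_fs f h s) inferInstance
    exact IsOpenImmersion.of_flat_of_mono _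

theorem lc_isIso : IsLocallyConstructible {s : S | IsIso (DenseLocus.fs f h s)} := by
  refine (congrArg IsLocallyConstructible (Set.ext fun s => ?_)).mpr ((lc_openImm f h).inter (DenseLocus.lc_surjective f h))
  exact (isIso_iff_isOpenImmersion_and_surjective _).trans
    ⟨fun hh => ⟨hh.1, hh.2.surj⟩, fun hh => ⟨hh.1, ⟨hh.2⟩⟩⟩

end Groth.Agent.FibreDepth.FibreFlatMaps
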