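import Mathlib
import Groth.Agent.FibreDepth.FibreFlatMaps
import Groth.Agent.ModStalk.SectionsFree
import Groth.Agent.ModStalk.LocFreeDescent
import Groth.Agent.ModStalk.PullbackQCoh
import Groth.Agent.Fitting.Generation
import Groth.Agent.Fitting.Fiber

/-! The loci where the restriction of a module to the fibre is finite locally free. -/

set_option autoImplicit false
set_option backward.isDefEq.respectTransparency false
set_option linter.style.haveILetI false
noncomputable section
universe u
open CategoryTheory CategoryTheory.Limits AlgebraicGeometry TopologicalSpace Topology IsLocalRing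
open scoped TensorProduct

namespace Groth.Agent.FibreDepth.FibreFinLocFree
open FibreFlatStalk

section abs

variable {Z : Scheme.{u}} (G : Z.Modules) (hG : CohB1.IsFP G)

include hG in
theorem isFinLocFree_iff :
    FlatMod.IsFinLocFree G ↔ FlatMod.IsFlatOver (𝟙 Z) G := by
  haveI := Sections.isQuasicoherent_of_isFP G hG
  haveI : SheafOfModules.IsFinitePresentation (R := Z.ringCatSheaf) G := hG
  haveI : SheafOfModules.IsFiniteType (R := Z.ringCatSheaf) G := inferInstance
  constructor
  · intro hl z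
    haveI := (ModStalk.free_stalk_of_isFinLocFree G hl).1 z
    haveI : Module.Flat (Z.presheaf.stalk z) (G.presheaf.stalk z) := Module.Flat.of_free
    letI := FlatMod.moduleStalkOver (𝟙 Z) G z
    letI := ((𝟙 Z : Z ⟶ Z).stalkMap z).hom.toAlgebra
    haveI : IsScalarTower (Z.presheaf.stalk ((𝟙 Z : Z ⟶ Z).base z)) (Z.presheaf.stalk z) (G.presheaf.stalk z) :=
      IsScalarTower.of_algebraMap_smul fun _ _ => rfl
    haveI : Module.Flat (Z.presheaf.stalk ((𝟙 Z : Z ⟶ Z).base z)) (Z.presheaf.stalk z) :=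
      RingHom.Flat.of_bijective (ConcreteCategory.bijective_of_isIso ((𝟙 Z : Z ⟶ Z).stalkMap z))
    exact Module.Flat.trans (Z.presheaf.stalk ((𝟙 Z : Z ⟶ Z).base z)) (Z.presheaf.stalk z) (G.presheaf.stalk z)
  · intro hfl
    refine ModStalk.isFinLocFree_of_flat_sections G fun z => ?_
    obtain ⟨O, hzO, hO⟩ := Sections.exists_affine G hG z
    obtain ⟨V, hV, hzV, hVO⟩ := exists_isAffineOpen_mem_and_subset (X := Z) (U := O) (x := z) hzO
    refine ⟨V, hzV, hV, ?_, hO V hV hVO⟩
    exact Chart.flat_sections (𝟙 Z) G hV hV le_rfl (by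
      show RingHom.id _ = ((𝟙 Z : Z ⟶ Z).appLE V V le_rfl).hom
      simp [Scheme.Hom.appLE]
      exact congrArg CommRingCat.Hom.hom (Z.presheaf.map_id (Opposite.op V)).symm) hfl

theorem rank_iff [SheafOfModules.IsFiniteType (R := Z.ringCatSheaf) G] (n : ℕ) :
    FlatMod.IsFinLocFreeOfRank n G ↔ FlatMod.IsFinLocFree G ∧
      ∀ z : Z, Module.finrank (Z.presheaf.stalk z) (G.presheaf.stalk z) = n := by
  have hr : ∀ (U : Z.Opens) (k : ℕ), Nonempty (G.restrict U.ι ≅ FlatMod.freeMod (↑U) k) → ∀ z ∈ U,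
      Module.finrank (Z.presheaf.stalk z) (G.presheaf.stalk z) = k := by
    rintro U k ⟨e⟩ z hz
    exact (ModStalk.free_stalk_of_pullback U.ι G (((Scheme.Modules.restrictFunctorIsoPullback U.ι).app _).symm ≪≫ e) ⟨z, hz⟩).2
  constructor
  · intro hl
    exact ⟨fun z => (hl z).imp fun U hU => ⟨n, hU⟩, fun z => let ⟨U, hU, e⟩ := hl z; hr U n e z hU⟩
  · rintro ⟨hl, hn⟩ z
    obtain ⟨U, k, hU, e⟩ := hl z
    obtain rfl : k = n := (hr U k e z hU).symm.trans (hn z)
    exact ⟨U, hU, e⟩

end abs

theorem finrank_le_iff {R N : Type u} [CommRing R] [IsLocalRing R] [AddCommGroup N] [Module R N]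
    [Module.Finite R N] [Module.Free R N] (k : ℕ) : Module.finrank R N ≤ k ↔ Fitt.ideal R N k = ⊤ := by
  have h := Fitting.not_le_iff_finrank_le (M := N) k (maximalIdeal R)
  rw [Module.finrank_baseChange] at h
  rw [← h]
  exact ⟨fun hn => by_contra fun hne => hn (le_maximalIdeal hne),
    fun he hle => (maximalIdeal.isMaximal R).ne_top (top_le_iff.mp (he ▸ hle))⟩

theorem rank_le_iff_of_equiv {A O M N : Type u} [CommRing A] [IsLocalRing A] [CommRing O] [IsLocalRing O] [Algebra A O]
    [IsLocalHom (algebraMap A O)] [AddCommGroup M] [Module A M] [Module.Finite A M] [AddCommGroup N] [Module O N]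
    (e : N ≃ₗ[O] O ⊗[A] M) (hN : Module.Free O N) (k : ℕ) :
    Module.finrank O N ≤ k ↔ Fitt.ideal A M k = ⊤ := by
  haveI : Module.Free O (O ⊗[A] M) := Module.Free.of_equiv e
  rw [e.finrank_eq, finrank_le_iff, Fitting.ideal_of_isBaseChange (TensorProduct.isBaseChange A M O) k]
  constructor
  · intro he
    by_contra hne
    have h1 := Ideal.map_mono (f := algebraMap A O) (le_maximalIdeal hne)
    rw [he] at h1
    exact (maximalIdeal.isMaximal O).ne_top (top_le_iff.mp (h1.trans (IsLocalRing.map_maximalIdeal_le (algebraMap A O))))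
  · intro he
    rw [he, Ideal.map_top]

variable {X S : Scheme.{u}} (f : X ⟶ S) (F : X.Modules) (hF : CohB1.IsFP F)

/-- the points where `F` is generated by `k` elements -/
def G (k : ℕ) : Set X := {x | Fitt.ideal (X.presheaf.stalk x) (F.presheaf.stalk x) k = ⊤}

include hF in
theorem lc_G (k : ℕ) : IsLocallyConstructible (G F k) := fun x => by
  haveI := Sections.isQuasicoherent_of_isFP F hF
  haveI : SheafOfModules.IsFinitePresentation (R := X.ringCatSheaf) F := hF
  haveI : SheafOfModules.IsFiniteType (R := X.ringCatSheaf) F := inferInstance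
  obtain ⟨O, hxO, hO⟩ := Sections.exists_affine F hF x
  obtain ⟨V, hV, hxV, hVO⟩ := exists_isAffineOpen_mem_and_subset (X := X) (U := O) (x := x) hxO
  haveI := hO V hV hVO
  refine ⟨(V : Set X), V.isOpen.mem_nhds hxV, V.isOpen, ?_⟩
  obtain ⟨N, y, hy⟩ := Module.Finite.exists_fin (R := Γ(X, V)) (M := Γ(F, V))
  have hK : (LinearMap.ker (Fintype.linearCombination Γ(X, V) y)).FG :=
    Module.FinitePresentation.fg_ker _ (by
      rw [← LinearMap.range_eq_top, Fintype.range_linearCombination]; exact hy)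
  have hfg := Fitting.F_fg y k hK
  rw [← Fitting.ideal_eq_F y hy] at hfg
  let J := Fitt.ideal Γ(X, V) Γ(F, V) k
  let g : ↥(V : Scheme.{u}) → PrimeSpectrum Γ(X, V) := fun w => hV.isoSpec.hom w
  have hg : IsOpenEmbedding g := hV.isoSpec.hom.homeomorph.isOpenEmbedding
  have hset : (fun w : ↥(V : Scheme.{u}) => w.1) ⁻¹' G F k = g ⁻¹' (PrimeSpectrum.zeroLocus (J : Set Γ(X, V)))ᶜ := by
    ext w
    show Fitt.ideal (X.presheaf.stalk w.1) (F.presheaf.stalk w.1) k = ⊤ ↔ ¬ (J : Set Γ(X, V)) ⊆ (g w).asIdeal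
    rw [Fitting.map_ideal_germ F k hV w.1 w.2]
    letI := TopCat.Presheaf.algebra_section_stalk X.presheaf (⟨w.1, w.2⟩ : V)
    haveI : IsLocalization.AtPrime (X.presheaf.stalk w.1) (g w).asIdeal := hV.isLocalization_stalk ⟨w.1, w.2⟩
    constructor
    · intro he hle
      exact (IsLocalization.map_algebraMap_ne_top_iff_disjoint (g w).asIdeal.primeCompl (X.presheaf.stalk w.1) J).mpr
        (Set.disjoint_left.mpr fun a ha haJ => ha (hle haJ)) he
    · intro hn
      by_contra hne
      exact hn fun a ha => by_contra fun haq => Set.disjoint_left.mp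
        ((IsLocalization.map_algebraMap_ne_top_iff_disjoint (g w).asIdeal.primeCompl (X.presheaf.stalk w.1) J).mp hne) haq ha
  have ho := (PrimeSpectrum.isClosed_zeroLocus (J : Set Γ(X, V))).isOpen_compl
  have hcpt : IsCompact (PrimeSpectrum.zeroLocus (J : Set Γ(X, V)))ᶜ := by
    obtain ⟨t, ht⟩ := hfg
    have : (PrimeSpectrum.zeroLocus (J : Set Γ(X, V)))ᶜ = ⋃ a ∈ t, (PrimeSpectrum.basicOpen a : Set (PrimeSpectrum Γ(X, V))) := by
      ext q
      rw [show J = Ideal.span (t : Set Γ(X, V)) from ht.symm, PrimeSpectrum.zeroLocus_span]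
      simp [PrimeSpectrum.mem_zeroLocus, Set.not_subset]
    rw [this]
    exact t.isCompact_biUnion fun a _ => PrimeSpectrum.isCompact_basicOpen a
  have hc : IsConstructible (PrimeSpectrum.zeroLocus (J : Set Γ(X, V)))ᶜ := hcpt.isConstructible ho
  exact (congrArg IsConstructible hset).mpr (hc.preimage_of_isOpenEmbedding hg)

include hF in
theorem fibre_finLocFree_iff (s : S) :
    FlatMod.IsFinLocFree ((Scheme.Modules.pullback (f.fiberι s)).obj F) ↔ s ∉ f.base '' {x | ¬ K (𝟙 X) f F x} := by
  haveI : SheafOfModules.IsFinitePresentation (R := X.ringCatSheaf) F := hF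
  rw [isFinLocFree_iff _ (ModStalk.isFinitePresentation_pullback (f.fiberι s) F)]
  have hY := IsPullback.of_hasPullback f (S.fromSpecResidueField s)
  have hX : IsPullback (f.fiberι s) (𝟙 (f.fiber s)) (𝟙 X) (f.fiberι s) := IsPullback.id_vert _
  have key := fun v => isFlatOverAt_iff (𝟙 X) f F s _ _ _ _ hY hX v
  constructor
  · rintro hall ⟨x, hx, hxs⟩
    obtain ⟨v, rfl⟩ : x ∈ Set.range (f.fiberι s) := by rw [f.range_fiberι]; exact hxs
    exact hx ((key v).mp (hall v))
  · intro hn v
    exact (key v).mpr (by_contra fun hv => hn ⟨_, hv, (f.range_fiberι s).subset ⟨v, rfl⟩⟩)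

include hF in
set_option maxHeartbeats 800000 in
theorem fibre_rank_le_iff (s : S) (v : ↥(f.fiber s))
    (hl : FlatMod.IsFinLocFree ((Scheme.Modules.pullback (f.fiberι s)).obj F)) (k : ℕ) :
    Module.finrank ((f.fiber s).presheaf.stalk v) (((Scheme.Modules.pullback (f.fiberι s)).obj F).presheaf.stalk v) ≤ k ↔
      f.fiberι s v ∈ G F k := by
  haveI := Sections.isQuasicoherent_of_isFP F hF
  haveI : SheafOfModules.IsFinitePresentation (R := X.ringCatSheaf) F := hF
  haveI : SheafOfModules.IsFiniteType (R := X.ringCatSheaf) F := inferInstance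
  haveI := ModStalk.finite_stalk F (f.fiberι s v)
  letI := ((f.fiberι s).stalkMap v).hom.toAlgebra
  haveI : IsLocalHom (algebraMap (X.presheaf.stalk (f.fiberι s v)) ((f.fiber s).presheaf.stalk v)) :=
    inferInstanceAs (IsLocalHom ((f.fiberι s).stalkMap v).hom)
  obtain ⟨e, -⟩ := ModStalk.exists_pullStalk_equiv (f.fiberι s) F v
  exact rank_le_iff_of_equiv (A := X.presheaf.stalk (f.fiberι s v)) (O := (f.fiber s).presheaf.stalk v)
    (M := F.presheaf.stalk (f.fiberι s v)) e ((ModStalk.free_stalk_of_isFinLocFree _ hl).1 v) k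

variable [LocallyOfFinitePresentation f] [QuasiCompact f] [QuasiSeparated f]

include hF in
theorem lc_finLocFree :
    IsLocallyConstructible {s : S | FlatMod.IsFinLocFree ((Scheme.Modules.pullback (f.fiberι s)).obj F)} := by
  haveI : LocallyOfFinitePresentation (𝟙 X ≫ f) := by rw [Category.id_comp]; infer_instance
  exact (congrArg IsLocallyConstructible (Set.ext fun s => fibre_finLocFree_iff f F hF s)).mpr
    (ConstrStatements.lc_compl (f.isLocallyConstructible_image
      (ConstrStatements.lc_compl (FibreFlatLocus.isLC (𝟙 X) f F hF))))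

include hF in
theorem lc_finLocFreeOfRank (n : ℕ) :
    IsLocallyConstructible {s : S | FlatMod.IsFinLocFreeOfRank n ((Scheme.Modules.pullback (f.fiberι s)).obj F)} := by
  let R : Set X := {x | x ∈ G F n ∧ ∀ k, k + 1 = n → x ∉ G F k}
  have hR : IsLocallyConstructible R := by
    cases n with
    | zero =>
      have : R = G F 0 := Set.ext fun x => ⟨fun h => h.1, fun h => ⟨h, fun k hk => (Nat.succ_ne_zero k hk).elim⟩⟩
      exact this ▸ lc_G F hF 0
    | succ m =>
      have : R = G F (m + 1) ∩ (G F m)ᶜ := Set.ext fun x =>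
        ⟨fun h => ⟨h.1, h.2 m rfl⟩, fun h => ⟨h.1, fun k hk => by obtain rfl := Nat.succ_injective hk; exact h.2⟩⟩
      exact this ▸ (lc_G F hF (m + 1)).inter (ConstrStatements.lc_compl (lc_G F hF m))
  refine (congrArg IsLocallyConstructible (Set.ext fun s => ?_)).mpr ((lc_finLocFree f F hF).inter
    (ConstrStatements.lc_compl (f.isLocallyConstructible_image (ConstrStatements.lc_compl hR))))
  haveI : SheafOfModules.IsFinitePresentation (R := X.ringCatSheaf) F := hF
  haveI := ModStalk.isFinitePresentation_pullback (f.fiberι s) F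
  haveI : SheafOfModules.IsFiniteType (R := (f.fiber s).ringCatSheaf) ((Scheme.Modules.pullback (f.fiberι s)).obj F) :=
    inferInstance
  show FlatMod.IsFinLocFreeOfRank n _ ↔ FlatMod.IsFinLocFree _ ∧ s ∉ f.base '' Rᶜ
  rw [rank_iff]
  refine and_congr_right fun hl => ?_
  constructor
  · rintro hn ⟨x, hx, hxs⟩
    obtain ⟨v, rfl⟩ : x ∈ Set.range (f.fiberι s) := by rw [f.range_fiberι]; exact hxs
    refine hx ⟨(fibre_rank_le_iff f F hF s v hl n).mp (hn v).le, fun k hk hG => ?_⟩
    have h1 := (fibre_rank_le_iff f F hF s v hl k).mpr hG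
    have h2 := hn v
    omega
  · intro hnot v
    obtain ⟨h1, h2⟩ : f.fiberι s v ∈ R := by_contra fun hv => hnot ⟨_, hv, (f.range_fiberι s).subset ⟨v, rfl⟩⟩
    have hle := (fibre_rank_le_iff f F hF s v hl n).mpr h1
    rcases Nat.lt_or_ge (Module.finrank ((f.fiber s).presheaf.stalk v)
      (((Scheme.Modules.pullback (f.fiberι s)).obj F).presheaf.stalk v)) n with hlt | hge
    · exact absurd ((fibre_rank_le_iff f F hF s v hl (n - 1)).mp (by omega)) (h2 (n - 1) (by omega))
    · omega

end Groth.Agent.FibreDepth.FibreFinLocFree
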