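import Mathlib
import Groth.Prelude.Def_CInt
import Groth.Agent.FibreDepth.DepthFlat
import Groth.Agent.FibreDepth.Transport
import Groth.Agent.FibreDepth.FibreStalk

/-! Depth of a local ring and of the fibre through it, for flat morphisms. -/

set_option autoImplicit false
set_option backward.isDefEq.respectTransparency false
set_option linter.style.haveILetI false
universe u
open CategoryTheory AlgebraicGeometry IsLocalRing

namespace Groth.Agent.FibreDepth.FlatFibreDepth

theorem depth_eq_of_surjective {A B : Type u} [CommRing A] [CommRing B] [IsLocalRing A] [IsLocalRing B]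
    [IsNoetherianRing A] (ψ : A →+* B) (hψ : Function.Surjective ψ) (J : Ideal A) (hJ : RingHom.ker ψ = J) :
    LocCoh.depth A (A ⧸ J • (⊤ : Submodule A A)) = LocCoh.depth B B := by
  letI : Algebra A B := ψ.toAlgebra
  haveI : Module.Finite A B := Module.Finite.of_surjective (Algebra.linearMap A B) hψ
  have hJ' : J • (⊤ : Submodule A A) = LinearMap.ker (Algebra.linearMap A B) := by
    rw [Ideal.smul_eq_mul, Ideal.mul_top, ← hJ]
    rfl
  let e : (A ⧸ J • (⊤ : Submodule A A)) ≃ₗ[A] B :=
    (Submodule.quotEquivOfEq _ _ hJ').trans ((Algebra.linearMap A B).quotKerEquivOfSurjective hψ)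
  exact (IdealDepth.congr _ e).trans (Transport.depth_supportDim_eq (R := A) (S := B) hψ B).1

variable {X S : Scheme.{u}} [IsLocallyNoetherian X] [IsLocallyNoetherian S] (f : X ⟶ S) [AlgebraicGeometry.Flat f]

theorem depth_stalk_eq (y : X) :
    LocCoh.depth (X.presheaf.stalk y) (X.presheaf.stalk y) =
      LocCoh.depth (S.presheaf.stalk (f y)) (S.presheaf.stalk (f y)) +
        LocCoh.depth (CInt.fiberStalk f y) (CInt.fiberStalk f y) := by
  suffices h : ∀ (x : X) (t : S) (z : ↥(f.fiber t)), f.fiberι t z = x →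
      LocCoh.depth (X.presheaf.stalk x) (X.presheaf.stalk x) =
        LocCoh.depth (S.presheaf.stalk (f x)) (S.presheaf.stalk (f x)) +
          LocCoh.depth ((f.fiber t).presheaf.stalk z) ((f.fiber t).presheaf.stalk z) from
    h y _ _ (f.fiberι_asFiber y)
  rintro _ t z rfl
  let x := f.fiberι t z
  letI : Algebra (S.presheaf.stalk (f x)) (X.presheaf.stalk x) := (f.stalkMap x).hom.toAlgebra
  haveI : Module.Flat (S.presheaf.stalk (f x)) (X.presheaf.stalk x) := AlgebraicGeometry.Flat.stalkMap f x
  haveI : IsLocalHom (algebraMap (S.presheaf.stalk (f x)) (X.presheaf.stalk x)) :=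
    inferInstanceAs (IsLocalHom (f.stalkMap x).hom)
  rw [DepthFlat.depth_self (R := S.presheaf.stalk (f x)) (S := X.presheaf.stalk x)]
  exact congrArg (LocCoh.depth (S.presheaf.stalk (f x)) (S.presheaf.stalk (f x)) + ·)
    (depth_eq_of_surjective _ (FibreStalk.surjective f t z) _ (FibreStalk.ker_eq f t z))

theorem fibre_depth_le (y : X) : LocCoh.depth (CInt.fiberStalk f y) (CInt.fiberStalk f y) ≤
    LocCoh.depth (X.presheaf.stalk y) (X.presheaf.stalk y) :=
  (depth_stalk_eq f y).symm ▸ le_add_self

theorem fibre_dim_le_depth (y : X) (h : LocCoh.IsCohenMacaulayLocalRing (CInt.fiberStalk f y)) :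
    ringKrullDim (CInt.fiberStalk f y) ≤ ((LocCoh.depth (X.presheaf.stalk y) (X.presheaf.stalk y) : ℕ∞) : WithBot ℕ∞) := by
  rw [← Module.supportDim_self_eq_ringKrullDim, h.supportDim_eq_depth]
  exact WithBot.coe_le_coe.mpr (fibre_depth_le f y)

end Groth.Agent.FibreDepth.FlatFibreDepth
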