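import Mathlib
import Groth.Agent.CMFlat.Main
import Groth.Agent.IdealDepth.Serre
import Groth.Agent.IdealDepth.Kernel
import Groth.Agent.FibreDepth.Statements
import Groth.Agent.FibreDepth.Unit

/-! Openness of the locus of flat points with `(S_k)` fibre. -/

set_option autoImplicit false
set_option backward.isDefEq.respectTransparency false
set_option linter.style.haveILetI false
universe u
open CategoryTheory AlgebraicGeometry TopologicalSpace Topology Limits

namespace Groth.Agent.FibreDepth.FlatLocus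
open Fibre

theorem depth_le_of_ringEquiv {R S : Type u} [CommRing R] [CommRing S] [IsLocalRing R] [IsLocalRing S]
    [IsNoetherianRing R] [IsNoetherianRing S] (σ : R ≃+* S) : LocCoh.depth R R ≤ LocCoh.depth S S := by
  refine ENat.forall_natCast_le_iff_le.mp fun n hn => ?_
  obtain ⟨rs, ⟨hreg, hm⟩, hl⟩ := IdealDepth.natCast_le_iff_exists.mp
    (show (n : ℕ∞) ≤ LocCoh.idealDepth (IsLocalRing.maximalIdeal R) R from hn)
  refine IdealDepth.natCast_le_iff_exists.mpr ⟨rs.map σ, ⟨?_, fun r hr => ?_⟩, by rw [List.length_map, hl]⟩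
  · exact (AddEquiv.isWeaklyRegular_congr (e := σ.toAddEquiv) <| List.forall₂_map_right_iff.mpr <|
      List.forall₂_same.mpr fun r _ x => map_mul σ r x).mp hreg
  · obtain ⟨r', hr', rfl⟩ := List.mem_map.mp hr
    have := hm r' hr'
    rwa [IsLocalRing.mem_maximalIdeal, mem_nonunits_iff, MulEquiv.isUnit_map]

theorem hasSk_of_ringEquiv {R S : Type u} [CommRing R] [CommRing S] [IsNoetherianRing R] [IsNoetherianRing S]
    (e : R ≃+* S) (k : ℕ) (h : LocCoh.HasSk k R R) : LocCoh.HasSk k S S := by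
  rw [IdealDepth.Serre.hasSk_self_iff] at h ⊢
  intro p hp
  let q : Ideal R := p.comap e
  let σ : Localization.AtPrime q ≃+* Localization.AtPrime p :=
    IsLocalization.ringEquivOfRingEquiv (M := q.primeCompl) (T := p.primeCompl) _ _ e
      (Submonoid.ext fun s => by
        show s ∈ e '' (q.primeCompl : Set R) ↔ s ∉ p
        rw [Set.mem_image]
        exact ⟨fun ⟨r, hr, hrs⟩ => hrs ▸ hr, fun hs => ⟨e.symm s, by
          show e (e.symm s) ∉ p
          rwa [e.apply_symm_apply], e.apply_symm_apply s⟩⟩)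
  refine le_trans (le_of_eq ?_) ((h q).trans (depth_le_of_ringEquiv σ))
  rw [show q.height = p.height from RingEquiv.height_comap e p]

variable {X Y : Scheme.{u}} (f : X ⟶ Y) [LocallyOfFinitePresentation f]

theorem fibre_hasSk_iff {U : Scheme.{u}} (j : U ⟶ X) [IsOpenImmersion j] (w : U) (k : ℕ) :
    LocCoh.HasSk k (((j ≫ f).fiber ((j ≫ f) w)).presheaf.stalk ((j ≫ f).asFiber w))
        (((j ≫ f).fiber ((j ≫ f) w)).presheaf.stalk ((j ≫ f).asFiber w)) ↔
      LocCoh.HasSk k ((f.fiber (f (j w))).presheaf.stalk (f.asFiber (j w)))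
        ((f.fiber (f (j w))).presheaf.stalk (f.asFiber (j w))) := by
  let t := f (j w)
  let jt := MoreMor.fiberMap j f t
  haveI : IsOpenImmersion jt := MorphismProperty.of_isPullback (Flat.FibreAt.isPullback_fiberMap j f t) inferInstance
  let a : (j ≫ f).fiber t := (j ≫ f).asFiber w
  have ha : jt a = f.asFiber (j w) := by
    refine (f.fiberι t).isEmbedding.injective ?_
    rw [Scheme.Hom.fiberι_asFiber]
    show (jt ≫ f.fiberι t) a = _
    rw [show jt ≫ f.fiberι t = (j ≫ f).fiberι t ≫ j from pullback.lift_fst _ _ _]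
    exact congrArg j ((j ≫ f).fiberι_asFiber w)
  haveI := noeth f t (jt a)
  haveI : IsNoetherianRing (((j ≫ f).fiber t).presheaf.stalk a) := noeth (j ≫ f) t a
  rw [← ha]
  exact ⟨hasSk_of_ringEquiv (asIso (jt.stalkMap a)).commRingCatIsoToRingEquiv.symm k,
    hasSk_of_ringEquiv (asIso (jt.stalkMap a)).commRingCatIsoToRingEquiv k⟩

theorem isOpen_flat_hasSk (k : ℕ) :
    IsOpen {x : X | (f.stalkMap x).hom.Flat ∧
      LocCoh.HasSk k ((f.fiber (f.base x)).presheaf.stalk (f.asFiber x)) ((f.fiber (f.base x)).presheaf.stalk (f.asFiber x))} := by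
  let O : X.Opens := ⟨_, Flat.FibreAt.isOpen_flat_stalkMap f⟩
  let g := O.ι ≫ f
  have hfl : FlatMod.IsFlatOver g (Coh.structureModule (O : Scheme.{u})) := fun w =>
    Unit.flatAt_unit g w ((Flat.FibreAt.flat_stalkMap_comp_iff O.ι f w).mpr w.2)
  have h := Statements.isOpen_hasSk g (Coh.structureModule _) (Unit.isFP_unit _) hfl k
  refine (congrArg IsOpen ?_).mpr (O.ι.isOpenEmbedding.isOpenMap _ h)
  ext x
  constructor
  · rintro ⟨hx, hs⟩
    exact ⟨⟨x, hx⟩, (Unit.hasSk_iff g k _ _).mp ((fibre_hasSk_iff f O.ι ⟨x, hx⟩ k).mpr hs), rfl⟩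
  · rintro ⟨w, hw, rfl⟩
    exact ⟨w.2, (fibre_hasSk_iff f O.ι w k).mp ((Unit.hasSk_iff g k _ _).mpr hw)⟩

end Groth.Agent.FibreDepth.FlatLocus
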