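import Mathlib
import Groth.Agent.FibreDepth.Chart
import Groth.Agent.FibreDepth.Constr
import Groth.Agent.FibreDepth.ConstrStatements
import Groth.Agent.Flat.FlatAtImage

/-! Openness of the flat locus of a finitely presented module. -/

set_option autoImplicit false
set_option backward.isDefEq.respectTransparency false
set_option linter.style.haveILetI false
universe u
open CategoryTheory CategoryTheory.Limits AlgebraicGeometry TopologicalSpace Topology IsLocalRing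

namespace Groth.Agent.FibreDepth.FlatLocusModule

variable {X Y : Scheme.{u}} (f : X ⟶ Y) (F : X.Modules)
variable {U₀ : Y.Opens} (hU₀ : IsAffineOpen U₀) {V : X.Opens} (hV : IsAffineOpen V) (hVU : V ≤ f ⁻¹ᵁ U₀)
  [Algebra Γ(Y, U₀) Γ(X, V)]
  (halg : algebraMap Γ(Y, U₀) Γ(X, V) = (f.appLE U₀ V hVU).hom)

include hU₀ hV halg in
theorem flatAt_iff [F.IsQuasicoherent] [Module Γ(Y, U₀) Γ(F, V)]
    [IsScalarTower Γ(Y, U₀) Γ(X, V) Γ(F, V)] (w : X) (hw : w ∈ V) :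
    FlatMod.IsFlatOverAt f F w ↔
      Flat.FlatAt.FlatAt Γ(Y, U₀) Γ(F, V) (hV.primeIdealOf ⟨w, hw⟩).asIdeal := by
  letI := ModStalk.sectionModule F (⟨w, hw⟩ : V)
  haveI := ModStalk.isLocalizedModule_germ hV F (⟨w, hw⟩ : V)
  letI := TopCat.Presheaf.algebra_section_stalk Y.presheaf (⟨f w, hVU hw⟩ : U₀)
  haveI := hU₀.isLocalization_stalk ⟨f w, hVU hw⟩
  letI := FlatMod.moduleStalkOver f F w
  letI : Module Γ(Y, U₀) (F.presheaf.stalk w) := Module.compHom _ (algebraMap Γ(Y, U₀) Γ(X, V))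
  haveI : IsScalarTower Γ(Y, U₀) Γ(X, V) (F.presheaf.stalk w) :=
    IsScalarTower.of_algebraMap_smul fun _ _ => rfl
  haveI : IsScalarTower Γ(Y, U₀) (Y.presheaf.stalk (f w)) (F.presheaf.stalk w) :=
    IsScalarTower.of_algebraMap_smul fun a v => by
      show f.stalkMap w (Y.presheaf.germ U₀ (f w) (hVU hw) a) • v =
        X.presheaf.germ V w hw (algebraMap Γ(Y, U₀) Γ(X, V) a) • v
      rw [Chart.stalkMap_germ f hVU halg w hw a]
  rw [Flat.FlatAt.flatAt_iff _ (ModStalk.germₗ F (⟨w, hw⟩ : V))]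
  exact Module.flat_iff_of_isLocalization (Y.presheaf.stalk (f w))
    (hU₀.primeIdealOf ⟨f w, hVU hw⟩).asIdeal.primeCompl (F.presheaf.stalk w)

omit [Algebra Γ(Y, U₀) Γ(X, V)] in
theorem isOpen_flatOverAt [LocallyOfFinitePresentation f] (hF : CohB1.IsFP F) :
    IsOpen {x : X | FlatMod.IsFlatOverAt f F x} := by
  haveI := Sections.isQuasicoherent_of_isFP F hF
  refine isOpen_iff_forall_mem_open.mpr fun x hx => ?_
  obtain ⟨O, hxO, hO⟩ := Sections.exists_affine F hF x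
  obtain ⟨U₀, hU₀, hyU₀, -⟩ := exists_isAffineOpen_mem_and_subset (X := Y) (U := ⊤) (x := f x) trivial
  obtain ⟨V, hV, hxV, hVsub⟩ :=
    exists_isAffineOpen_mem_and_subset (X := X) (U := O ⊓ f ⁻¹ᵁ U₀) (x := x) ⟨hxO, hyU₀⟩
  have hVU : V ≤ f ⁻¹ᵁ U₀ := fun v hv => (hVsub hv).2
  haveI hMfp : Module.FinitePresentation Γ(X, V) Γ(F, V) := hO V hV fun v hv => (hVsub hv).1
  letI : Algebra Γ(Y, U₀) Γ(X, V) := (f.appLE U₀ V hVU).hom.toAlgebra
  haveI : Algebra.FinitePresentation Γ(Y, U₀) Γ(X, V) := f.finitePresentation_appLE hU₀ hV hVU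
  letI : Module Γ(Y, U₀) Γ(F, V) := Module.compHom _ (algebraMap Γ(Y, U₀) Γ(X, V))
  haveI : IsScalarTower Γ(Y, U₀) Γ(X, V) Γ(F, V) := IsScalarTower.of_algebraMap_smul fun _ _ => rfl
  have hS : IsOpen {q : PrimeSpectrum Γ(X, V) | Flat.FlatAt.FlatAt Γ(Y, U₀) Γ(F, V) q.asIdeal} :=
    Flat.FlatAtImage.isOpen_flatAt_image (A := Γ(Y, U₀)) (B := Γ(X, V)) (C := Γ(X, V))
  refine ⟨hV.fromSpec '' {q | Flat.FlatAt.FlatAt Γ(Y, U₀) Γ(F, V) q.asIdeal}, ?_,
    hV.fromSpec.isOpenEmbedding.isOpenMap _ hS,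
    ⟨hV.primeIdealOf ⟨x, hxV⟩, (flatAt_iff f F hU₀ hV hVU rfl x hxV).mp hx, hV.fromSpec_primeIdealOf _⟩⟩
  rintro _ ⟨q, hq, rfl⟩
  have hw : hV.fromSpec q ∈ V := hV.range_fromSpec.subset ⟨q, rfl⟩
  refine (flatAt_iff f F hU₀ hV hVU rfl _ hw).mpr ?_
  rwa [show hV.primeIdealOf ⟨hV.fromSpec q, hw⟩ = q from
    hV.fromSpec.isOpenEmbedding.injective (hV.fromSpec_primeIdealOf ⟨_, hw⟩)]

omit [Algebra Γ(Y, U₀) Γ(X, V)] in
theorem isOpen_of_lc_of_generization {Z : Scheme.{u}} {S : Set Z} (hlc : IsLocallyConstructible S)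
    (hgen : StableUnderGeneralization S) : IsOpen S := by
  refine isOpen_iff_forall_mem_open.mpr fun z hz => ?_
  obtain ⟨W, hW, hzW, -⟩ := exists_isAffineOpen_mem_and_subset (X := Z) (U := ⊤) (x := z) trivial
  let T : Set (PrimeSpectrum Γ(Z, W)) := hW.fromSpec ⁻¹' S
  have h1 : IsConstructible T :=
    (hlc.preimage_of_isOpenEmbedding hW.fromSpec.isOpenEmbedding).isConstructible
  have h2 : StableUnderGeneralization T := fun a b hab ha => hgen (hab.map hW.fromSpec.continuous) ha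
  have h3 : IsOpen T := PrimeSpectrum.isOpen_of_stableUnderGeneralization_of_isConstructible h2 h1
  refine ⟨hW.fromSpec '' T, Set.image_preimage_subset _ _, hW.fromSpec.isOpenEmbedding.isOpenMap _ h3,
    ⟨hW.primeIdealOf ⟨z, hzW⟩, ?_, hW.fromSpec_primeIdealOf _⟩⟩
  show hW.fromSpec (hW.primeIdealOf ⟨z, hzW⟩) ∈ S
  rw [hW.fromSpec_primeIdealOf]
  exact hz

end Groth.Agent.FibreDepth.FlatLocusModule

namespace Groth.Agent.FibreDepth.FlatLocusModule

/-- For a quasi-compact morphism, points in the closure of the image of a closed set specialize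
from points of the image. -/
theorem exists_specializes_image {X Y : Scheme.{u}} (f : X ⟶ Y) [QuasiCompact f] {Z : Set X} (hZ : IsClosed Z)
    {y : Y} (hy : y ∈ closure (f '' Z)) : ∃ x ∈ Z, f x ⤳ y := by
  obtain ⟨W, hW, hyW, -⟩ := exists_isAffineOpen_mem_and_subset (X := Y) (U := ⊤) (x := y) trivial
  let ι := {V : X.Opens // IsAffineOpen V ∧ V ≤ f ⁻¹ᵁ W}
  obtain ⟨t, ht⟩ := (f.isCompact_preimage hW.isCompact).elim_finite_subcover
    (fun V : ι => (V.1 : Set X)) (fun V => V.1.isOpen) (fun x hx => by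
      obtain ⟨V, hV, hxV, hVW⟩ := exists_isAffineOpen_mem_and_subset (X := X) (U := f ⁻¹ᵁ W) (x := x) hx
      exact Set.mem_iUnion.mpr ⟨⟨V, hV, hVW⟩, hxV⟩)
  let c : (V : ι) → PrimeSpectrum Γ(X, V.1) → PrimeSpectrum Γ(Y, W) := fun V =>
    PrimeSpectrum.comap (f.appLE W V.1 V.2.2).hom
  have hcomp : ∀ (V : ι) (r : PrimeSpectrum Γ(X, V.1)), f (V.2.1.fromSpec r) = hW.fromSpec (c V r) := by
    intro V r
    rw [← Scheme.Hom.comp_apply, ← IsAffineOpen.SpecMap_appLE_fromSpec f hW V.2.1 V.2.2, Scheme.Hom.comp_apply]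
    rfl
  let q := hW.primeIdealOf ⟨y, hyW⟩
  have hq : q ∈ closure (⋃ V ∈ t, c V '' (V.2.1.fromSpec ⁻¹' Z)) := by
    have h1 : q ∈ closure (hW.fromSpec ⁻¹' (f '' Z)) := by
      rw [← hW.fromSpec.isOpenEmbedding.isOpenMap.preimage_closure_eq_closure_preimage hW.fromSpec.continuous]
      show hW.fromSpec q ∈ closure (f '' Z)
      rw [hW.fromSpec_primeIdealOf]
      exact hy
    refine closure_mono ?_ h1
    rintro p ⟨x, hxZ, hx⟩
    have hxW : x ∈ f ⁻¹' (W : Set Y) := by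
      show f x ∈ W
      rw [hx]
      exact hW.range_fromSpec.subset ⟨p, rfl⟩
    obtain ⟨V, hVt, hxV⟩ := Set.mem_iUnion₂.mp (ht hxW)
    obtain ⟨r, rfl⟩ : x ∈ Set.range V.2.1.fromSpec := V.2.1.range_fromSpec.symm.subset hxV
    refine Set.mem_iUnion₂.mpr ⟨V, hVt, r, hxZ, hW.fromSpec.isOpenEmbedding.injective ?_⟩
    rw [← hcomp, hx]
  rw [Finset.closure_biUnion t] at hq
  obtain ⟨V, -, hV⟩ := Set.mem_iUnion₂.mp hq
  obtain ⟨I, hI⟩ := (PrimeSpectrum.isClosed_iff_zeroLocus_ideal _).mp (hZ.preimage V.2.1.fromSpec.continuous)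
  rw [hI, PrimeSpectrum.closure_image_comap_zeroLocus] at hV
  obtain ⟨m, hm, hmq⟩ := Ideal.exists_minimalPrimes_le (J := q.asIdeal) hV
  obtain ⟨r, hr, hIr, hrm⟩ := Ideal.exists_comap_eq_of_mem_minimalPrimes _ m hm
  refine ⟨V.2.1.fromSpec ⟨r, hr⟩, hI.symm.subset hIr, ?_⟩
  have h2 : hW.fromSpec (c V ⟨r, hr⟩) ⤳ hW.fromSpec q :=
    ((PrimeSpectrum.le_iff_specializes _ _).mp (show c V ⟨r, hr⟩ ≤ q from hrm.le.trans hmq)).map
      hW.fromSpec.continuous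
  rw [hW.fromSpec_primeIdealOf] at h2
  rw [hcomp]
  exact h2

end Groth.Agent.FibreDepth.FlatLocusModule
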