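import Mathlib
import Groth.Agent.FibreDepth.DepthFlat
import Groth.Agent.FibreDepth.FlatFibreDepth
import Groth.Agent.IdealDepth.Serre
import Groth.Agent.Segre.CM
import Groth.Agent.RegularLocal.Basic

/-! Depth and height at a prime along a flat map of Noetherian rings. -/

set_option autoImplicit false
set_option backward.isDefEq.respectTransparency false
set_option linter.style.haveILetI false
universe u
open IsLocalRing

namespace Groth.Agent.FibreDepth.FlatSk

variable {R S : Type u} [CommRing R] [CommRing S] [Algebra R S] [IsNoetherianRing R] [IsNoetherianRing S]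
  [Module.Flat R S]

/-- The local ring of the fibre through `P`. -/
abbrev Fib (R : Type u) {S : Type u} [CommRing R] [CommRing S] [Algebra R S] (P : Ideal S) [P.IsPrime] : Type u :=
  Localization.AtPrime P ⧸ ((P.comap (algebraMap R S)).map (algebraMap R S)).map (algebraMap S (Localization.AtPrime P))

theorem isLocalRing_fib (P : Ideal S) [P.IsPrime] : IsLocalRing (Fib R P) := by
  refine RegularLocal.Basic.isLocalRing_quotient (ne_top_of_le_ne_top (maximalIdeal.isMaximal _).ne_top ?_)
  rw [← Localization.AtPrime.map_eq_maximalIdeal]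
  exact Ideal.map_mono Ideal.map_comap_le

/-- The two additivity formulas along the flat local map `R_p → S_P`. -/
theorem facts (P : Ideal S) [P.IsPrime] [IsLocalRing (Fib R P)] :
    ∃ c : ℕ∞, ringKrullDim (Fib R P) = c ∧ P.height = (P.comap (algebraMap R S)).height + c ∧
      LocCoh.depth (Localization.AtPrime P) (Localization.AtPrime P) =
        LocCoh.depth (Localization.AtPrime (P.comap (algebraMap R S))) (Localization.AtPrime (P.comap (algebraMap R S))) +
          LocCoh.depth (Fib R P) (Fib R P) ∧
      LocCoh.depth (Fib R P) (Fib R P) ≤ c := by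
  let p := P.comap (algebraMap R S)
  let Rp := Localization.AtPrime p
  let SP := Localization.AtPrime P
  let g : Rp →+* SP := Localization.localRingHom p P (algebraMap R S) rfl
  letI := g.toAlgebra
  haveI : Module.Flat Rp SP :=
    RingHom.Flat.localRingHom (RingHom.flat_algebraMap_iff.mpr inferInstance) P p rfl
  haveI : IsLocalHom (algebraMap Rp SP) := Localization.isLocalHom_localRingHom p P (algebraMap R S) rfl
  haveI : IsNoetherianRing Rp := inferInstance
  haveI : IsNoetherianRing SP := inferInstance
  let J : Ideal SP := (p.map (algebraMap R S)).map (algebraMap S SP)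
  have hJ : (maximalIdeal Rp).map (algebraMap Rp SP) = J := by
    rw [← Localization.AtPrime.map_eq_maximalIdeal, Ideal.map_map]
    show p.map _ = (p.map (algebraMap R S)).map (algebraMap S SP)
    rw [Ideal.map_map]
    congr 1
    exact RingHom.ext fun r => Localization.localRingHom_to_map p P (algebraMap R S) rfl r
  haveI : IsLocalRing (SP ⧸ J) := ‹IsLocalRing (Fib R P)›
  have hd : LocCoh.depth SP SP = LocCoh.depth Rp Rp + LocCoh.depth (SP ⧸ J) (SP ⧸ J) := by
    rw [DepthFlat.depth_self (R := Rp) (S := SP)]
    refine congrArg (LocCoh.depth Rp Rp + ·) ?_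
    exact FlatFibreDepth.depth_eq_of_surjective (Ideal.Quotient.mk J) Ideal.Quotient.mk_surjective _
      (by rw [Ideal.mk_ker, hJ])
  haveI : (maximalIdeal SP).LiesOver (maximalIdeal Rp) :=
    ⟨(IsLocalRing.maximalIdeal_comap (algebraMap Rp SP)).symm⟩
  have hh := Ideal.height_eq_height_add_of_liesOver_of_hasGoingDown (maximalIdeal Rp) (maximalIdeal SP)
  rw [hJ] at hh
  refine ⟨((maximalIdeal SP).map (Ideal.Quotient.mk J)).height, ?_, ?_, hd, ?_⟩
  · rw [RegularLocal.Basic.map_maximalIdeal_quotient, maximalIdeal_height_eq_ringKrullDim]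
  · refine WithBot.coe_injective ?_
    rw [WithBot.coe_add, ← IsLocalization.AtPrime.ringKrullDim_eq_height P SP,
      ← IsLocalization.AtPrime.ringKrullDim_eq_height p Rp, ← maximalIdeal_height_eq_ringKrullDim,
      ← maximalIdeal_height_eq_ringKrullDim, ← WithBot.coe_add, hh]
  · refine WithBot.coe_le_coe.mp ?_
    refine IdealDepth.depth_le_supportDim.trans_eq ?_
    rw [Module.supportDim_self_eq_ringKrullDim, RegularLocal.Basic.map_maximalIdeal_quotient,
      maximalIdeal_height_eq_ringKrullDim]

end Groth.Agent.FibreDepth.FlatSk
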