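import Mathlib

/-! A locally constructible set containing the generic point is a neighbourhood of it. -/

set_option autoImplicit false
universe u
open Topology TopologicalSpace

namespace Groth.Agent.FibreDepth.GenericNhd

theorem exists_open_subset {S : Type u} [TopologicalSpace S] {η : S}
    (hη : ∀ U : Set S, IsOpen U → U.Nonempty → η ∈ U) {E : Set S} (hE : IsLocallyConstructible E) (hmem : η ∈ E) :
    ∃ W : Opens S, η ∈ W ∧ ∀ s ∈ W, s ∈ E := by
  obtain ⟨U, hU, hUo, hUc⟩ := hE η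
  have hηU : η ∈ U := mem_of_mem_nhds hU
  have key : ∀ {T : Set U}, IsConstructible T →
      ∃ W : Set U, IsOpen W ∧ (⟨η, hηU⟩ : U) ∈ W ∧ (W ⊆ T ∨ W ⊆ Tᶜ) := by
    intro T hT
    induction hT using IsConstructible.empty_union_induction with
    | open_retrocompact O hO _ =>
      by_cases hO' : O.Nonempty
      · refine ⟨O, hO, ?_, Or.inl subset_rfl⟩
        obtain ⟨⟨y, hy⟩, hyO⟩ := hO'
        obtain ⟨O', hO'o, rfl⟩ := isOpen_induced_iff.mp hO
        exact hη O' hO'o ⟨y, hyO⟩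
      · exact ⟨Set.univ, isOpen_univ, trivial, Or.inr fun y _ hy => hO' ⟨y, hy⟩⟩
    | union s _ t _ ihs iht =>
      obtain ⟨W₁, h₁, hη₁, hs⟩ := ihs
      obtain ⟨W₂, h₂, hη₂, ht⟩ := iht
      rcases hs with hs | hs
      · exact ⟨W₁, h₁, hη₁, Or.inl (hs.trans Set.subset_union_left)⟩
      rcases ht with ht | ht
      · exact ⟨W₂, h₂, hη₂, Or.inl (ht.trans Set.subset_union_right)⟩
      exact ⟨W₁ ∩ W₂, h₁.inter h₂, ⟨hη₁, hη₂⟩, Or.inr fun y hy hst =>
        hst.elim (hs hy.1) (ht hy.2)⟩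
    | compl s _ ih =>
      obtain ⟨W, h₁, hη₁, hs⟩ := ih
      exact ⟨W, h₁, hη₁, hs.symm.imp id fun h => by rwa [compl_compl]⟩
  obtain ⟨W, hW, hηW, hW'⟩ := key hUc
  replace hW' : W ⊆ (Subtype.val ⁻¹' E : Set U) :=
    hW'.resolve_right fun h => h hηW hmem
  exact ⟨⟨Subtype.val '' W, hUo.isOpenMap_subtype_val W hW⟩, ⟨_, hηW, rfl⟩,
    fun s ⟨w, hw, hws⟩ => hws ▸ hW' hw⟩

end Groth.Agent.FibreDepth.GenericNhd
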