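import Mathlib
import Groth.Agent.FibreDepth.GeomLocus
import Groth.Agent.FibreDepth.DepthFlat
import Groth.Agent.FibreDepth.Local
import Groth.Agent.IdealDepth.Serre
import Groth.Agent.Segre.CM
import Groth.Agent.S0601

/-! Geometric normality on the fibres. -/

set_option autoImplicit false
set_option backward.isDefEq.respectTransparency false
set_option linter.style.haveILetI false
universe u
open CategoryTheory AlgebraicGeometry IsLocalRing

namespace Groth.Agent.FibreDepth.GeomNormal
open Gen GeomPointwise

theorem normal_iff (R : Type u) [CommRing R] [IsLocalRing R] [IsNoetherianRing R] :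
    (IsDomain R ∧ IsIntegrallyClosed R) ↔ (LocCoh.HasRk 1 R ∧ LocCoh.HasSk 2 R R) := by
  refine Iff.trans ?_ (Groth.Agent.S0601.result R)
  constructor
  · rintro ⟨_, _⟩ p _
    have hle : p.primeCompl ≤ nonZeroDivisors R := p.primeCompl_le_nonZeroDivisors
    exact ⟨IsLocalization.isDomain_localization hle, isIntegrallyClosed_of_isLocalization _ _ hle⟩
  · intro h
    obtain ⟨h1, h2⟩ := h (maximalIdeal R)
    let e : R ≃ₐ[R] Localization.AtPrime (maximalIdeal R) :=
      IsLocalization.atUnits R (maximalIdeal R).primeCompl fun x hx => by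
        simpa [IsUnit.mem_submonoid_iff, mem_maximalIdeal, mem_nonunits_iff] using hx
    haveI : IsDomain R := e.toMulEquiv.isDomain _
    exact ⟨inferInstance, IsIntegrallyClosed.of_equiv e.symm.toRingEquiv⟩

theorem hasSk_two_iff {Z : Scheme.{u}} (x : Z) :
    LocCoh.HasSk 2 (Z.presheaf.stalk x) (Z.presheaf.stalk x) ↔
      ∀ p : PrimeSpectrum (Z.presheaf.stalk x), min (2 : ℕ∞) p.asIdeal.height ≤
        LocCoh.depth (Z.presheaf.stalk (gen x p)) (Z.presheaf.stalk (gen x p)) := by
  rw [IdealDepth.Serre.hasSk_self_iff]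
  refine ⟨fun h p => ?_, fun h p hp => ?_⟩
  · obtain ⟨e⟩ := exists_locEquiv x p
    rw [← Segre.CM.depth_congr e]
    exact_mod_cast h p.asIdeal
  · obtain ⟨e⟩ := exists_locEquiv x ⟨p, hp⟩
    rw [Segre.CM.depth_congr e]
    exact_mod_cast h ⟨p, hp⟩

theorem depth_eq_height_of_regular {Z : Scheme.{u}} (x : Z) (p : PrimeSpectrum (Z.presheaf.stalk x))
    [IsRegularLocalRing (Z.presheaf.stalk (gen x p))] :
    p.asIdeal.height ≤ LocCoh.depth (Z.presheaf.stalk (gen x p)) (Z.presheaf.stalk (gen x p)) := by
  obtain ⟨d, hd⟩ := RegularLocal.Basic.exists_natCast_eq_ringKrullDim (R := Z.presheaf.stalk (gen x p))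
  refine WithBot.coe_le_coe.mp ?_
  rw [height_eq_dim_stalk, hd]
  exact WithBot.coe_le_coe.mpr (Local.le_depth_of_flat hd)

section field

variable {k : Type u} [Field k] {Z : Scheme.{u}} (g : Z ⟶ Spec (CommRingCat.of k)) [LocallyOfFinitePresentation g]

theorem geomNormal_iff (x : Z) :
    (∀ (K : Type u) [Field K] [Algebra k K] (x' : ↥(FBase.bc g K)), (FBase.bcπ g K).base x' = x →
        IsDomain ((FBase.bc g K).presheaf.stalk x') ∧ IsIntegrallyClosed ((FBase.bc g K).presheaf.stalk x')) ↔
      (∀ (K : Type u) [Field K] [Algebra k K] (x' : ↥(FBase.bc g K)), (FBase.bcπ g K).base x' = x →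
          LocCoh.HasRk 1 ((FBase.bc g K).presheaf.stalk x')) ∧
        LocCoh.HasSk 2 (Z.presheaf.stalk x) (Z.presheaf.stalk x) := by
  have hnoeth : ∀ (K : Type u) [Field K] [Algebra k K] (x' : ↥(FBase.bc g K)),
      IsNoetherianRing ((FBase.bc g K).presheaf.stalk x') :=
    fun K _ _ x' => isNoetherianRing_stalk (FBase.bcStr g K) x'
  have hflat : ∀ (K : Type u) [Field K] [Algebra k K] (z' : ↥(FBase.bc g K)),
      ((FBase.bcπ g K).stalkMap z').hom.Flat := fun K _ _ z' => AlgebraicGeometry.Flat.stalkMap _ z'
  constructor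
  · intro h
    refine ⟨fun K _ _ x' hx => ?_, (hasSk_two_iff x).mpr fun p => ?_⟩
    · haveI := hnoeth K x'
      exact ((normal_iff _).mp (h K x' hx)).1
    · let K := AlgebraicClosure k
      obtain ⟨x', hx'⟩ := (FBase.bcπ g K).surjective x
      subst hx'
      haveI := hnoeth K x'
      haveI := isNoetherianRing_stalk g (FBase.bcπ g K x')
      obtain ⟨p', hp', hh⟩ := Sets.lift_aux _ (inferInstance : IsLocalHom ((FBase.bcπ g K).stalkMap x').hom)
        (hflat K x') p
      have hS := (hasSk_two_iff x').mp ((normal_iff _).mp (h K x' rfl)).2 p'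
      rw [hh] at hS
      refine hS.trans ?_
      have hz : FBase.bcπ g K (gen x' p') = gen (FBase.bcπ g K x') p := by rw [gen_map, hp']
      suffices h2 : ∀ (z' : ↥(FBase.bc g K)) (z : Z), FBase.bcπ g K z' = z →
          ringKrullDim ((FBase.bc g K).presheaf.stalk z') = ringKrullDim (Z.presheaf.stalk z) →
          LocCoh.depth ((FBase.bc g K).presheaf.stalk z') ((FBase.bc g K).presheaf.stalk z') ≤
            LocCoh.depth (Z.presheaf.stalk z) (Z.presheaf.stalk z) from
        h2 _ _ hz (by rw [← height_eq_dim_stalk, ← height_eq_dim_stalk, hh])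
      rintro z' _ rfl hdim
      haveI := hnoeth K z'
      haveI := isNoetherianRing_stalk g (FBase.bcπ g K z')
      letI : Algebra (Z.presheaf.stalk (FBase.bcπ g K z')) ((FBase.bc g K).presheaf.stalk z') :=
        ((FBase.bcπ g K).stalkMap z').hom.toAlgebra
      haveI : Module.Flat (Z.presheaf.stalk (FBase.bcπ g K z')) ((FBase.bc g K).presheaf.stalk z') := hflat K z'
      haveI : IsLocalHom (algebraMap (Z.presheaf.stalk (FBase.bcπ g K z')) ((FBase.bc g K).presheaf.stalk z')) :=
        inferInstanceAs (IsLocalHom ((FBase.bcπ g K).stalkMap z').hom)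
      let R := Z.presheaf.stalk (FBase.bcπ g K z')
      let S := (FBase.bc g K).presheaf.stalk z'
      let J := (maximalIdeal R).map (algebraMap R S)
      have hJ : J ≠ ⊤ := ne_top_of_le_ne_top (maximalIdeal.isMaximal S).ne_top
        (((local_hom_TFAE (algebraMap R S)).out 0 2).mp ‹IsLocalHom (algebraMap R S)›)
      rw [DepthFlat.depth_self (R := R) (S := S)]
      have h0 : LocCoh.depth S (S ⧸ J • (⊤ : Submodule S S)) ≤ 0 := by
        haveI : Nontrivial (S ⧸ J • (⊤ : Submodule S S)) :=
          Submodule.Quotient.nontrivial_iff.mpr (IdealDepth.smul_top_ne_top hJ)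
        refine WithBot.coe_le_coe.mp (IdealDepth.depth_le_supportDim.trans ?_)
        rw [Ideal.smul_eq_mul, Ideal.mul_top, Module.supportDim_quotient_eq_ringKrullDim]
        haveI : (maximalIdeal S).LiesOver (maximalIdeal R) :=
          ⟨Eq.symm (((local_hom_TFAE (algebraMap R S)).out 0 4).mp ‹IsLocalHom (algebraMap R S)›)⟩
        have hadd := Ideal.height_eq_height_add_of_liesOver_of_hasGoingDown (maximalIdeal R) (maximalIdeal S)
        haveI := DepthFlat.finite_tensor (R := R) (S := S) S (M := R)
        haveI : IsLocalRing (S ⧸ J) := RegularLocal.Basic.isLocalRing_quotient hJ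
        rw [← maximalIdeal_height_eq_ringKrullDim, ← maximalIdeal_height_eq_ringKrullDim, WithBot.coe_inj] at hdim
        obtain ⟨d, hd⟩ := RegularLocal.Basic.exists_natCast_eq_ringKrullDim (R := R)
        rw [← maximalIdeal_height_eq_ringKrullDim] at hd
        have hd' : (maximalIdeal R).height = (d : ℕ∞) := WithBot.coe_inj.mp hd
        rw [hdim, hd'] at hadd
        have h3 : ((maximalIdeal S).map (Ideal.Quotient.mk J)).height = 0 :=
          ((ENat.addLECancellable_natCast d).inj.mp ((add_zero _).trans hadd)).symm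
        rw [← maximalIdeal_height_eq_ringKrullDim,
          ← RegularLocal.Basic.map_maximalIdeal_quotient, h3]
      exact (add_le_add le_rfl h0).trans (add_zero _).le
  · rintro ⟨hR, hS⟩ K _ _ x' hx'
    subst hx'
    haveI := hnoeth K x'
    refine (normal_iff _).mpr ⟨hR K x' rfl, (hasSk_two_iff x').mpr fun p' => ?_⟩
    have hsm := (GeomPointwise.geomRk_iff g 1 (FBase.bcπ g K x')).mp hR
    let p := PrimeSpectrum.comap ((FBase.bcπ g K).stalkMap x').hom p'
    by_cases hp : p.asIdeal.height ≤ 1
    · have hs : gen x' p' ∈ (FBase.bcStr g K).smoothLocus := by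
        rw [GeomPointwise.smooth_iff, gen_map]
        exact hsm p hp
      haveI := RegSmoothScheme.isRegular_of_mem_smoothLocus (FBase.bcStr g K) hs
      exact (min_le_right _ _).trans (depth_eq_height_of_regular x' p')
    · have h2 : (2 : ℕ∞) ≤ LocCoh.depth (Z.presheaf.stalk (gen (FBase.bcπ g K x') p)) (Z.presheaf.stalk (gen (FBase.bcπ g K x') p)) := by
        refine le_trans (le_min le_rfl ?_) ((hasSk_two_iff _).mp hS p)
        exact Order.add_one_le_of_lt (not_le.mp hp)
      refine (min_le_left _ _).trans (h2.trans ?_)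
      suffices h3 : ∀ (z' : ↥(FBase.bc g K)) (z : Z), FBase.bcπ g K z' = z →
          LocCoh.depth (Z.presheaf.stalk z) (Z.presheaf.stalk z) ≤
            LocCoh.depth ((FBase.bc g K).presheaf.stalk z') ((FBase.bc g K).presheaf.stalk z') from
        h3 _ _ (gen_map _ x' p')
      rintro z' _ rfl
      haveI := hnoeth K z'
      haveI := isNoetherianRing_stalk g (FBase.bcπ g K z')
      letI : Algebra (Z.presheaf.stalk (FBase.bcπ g K z')) ((FBase.bc g K).presheaf.stalk z') :=
        ((FBase.bcπ g K).stalkMap z').hom.toAlgebra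
      haveI : Module.Flat (Z.presheaf.stalk (FBase.bcπ g K z')) ((FBase.bc g K).presheaf.stalk z') := hflat K z'
      haveI : IsLocalHom (algebraMap (Z.presheaf.stalk (FBase.bcπ g K z')) ((FBase.bc g K).presheaf.stalk z')) :=
        inferInstanceAs (IsLocalHom ((FBase.bcπ g K).stalkMap z').hom)
      rw [DepthFlat.depth_self (R := Z.presheaf.stalk (FBase.bcπ g K z')) (S := (FBase.bc g K).presheaf.stalk z')]
      exact le_self_add

end field

section family

open Topology GeomLocus

variable {X Y : Scheme.{u}} (f : X ⟶ Y) [LocallyOfFinitePresentation f]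

theorem geomNormal_fibre_iff (x : X) :
    (∀ (K : Type u) [Field K] [Algebra (IsLocalRing.ResidueField (Y.presheaf.stalk (f.base x))) K]
        (x' : ↥(FBase.bc (f.fiberToSpecResidueField (f.base x)) K)),
        (FBase.bcπ (f.fiberToSpecResidueField (f.base x)) K).base x' = f.asFiber x →
          IsDomain ((FBase.bc (f.fiberToSpecResidueField (f.base x)) K).presheaf.stalk x') ∧
            IsIntegrallyClosed ((FBase.bc (f.fiberToSpecResidueField (f.base x)) K).presheaf.stalk x')) ↔
      (¬ Bad f 1 x ∧ LocCoh.HasSk 2 ((f.fiber (f.base x)).presheaf.stalk (f.asFiber x))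
        ((f.fiber (f.base x)).presheaf.stalk (f.asFiber x))) := by
  haveI : LocallyOfFinitePresentation (f.fiberToSpecResidueField (f.base x)) :=
    MorphismProperty.pullback_snd (P := @LocallyOfFinitePresentation) _ _ inferInstance
  rw [← GeomLocus.geomRk_iff]
  exact geomNormal_iff (k := IsLocalRing.ResidueField (Y.presheaf.stalk (f.base x))) (f.fiberToSpecResidueField (f.base x)) _

theorem lc_good : IsLocallyConstructible {x : X | ¬ Bad f 1 x ∧
    LocCoh.HasSk 2 ((f.fiber (f.base x)).presheaf.stalk (f.asFiber x))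
      ((f.fiber (f.base x)).presheaf.stalk (f.asFiber x))} := by
  refine (ConstrStatements.lc_compl (lc_bad f 1)).inter ?_
  refine (congrArg IsLocallyConstructible (Set.ext fun x => ?_)).mpr
    (ConstrStatements.lc_hasSk f (Unit.isFP_unit X) 2)
  exact Unit.hasSk_iff f 2 _ _

theorem lc_geomNormal : IsLocallyConstructible {x : X |
      ∀ (K : Type u) [Field K] [Algebra (IsLocalRing.ResidueField (Y.presheaf.stalk (f.base x))) K]
        (x' : ↥(FBase.bc (f.fiberToSpecResidueField (f.base x)) K)),
        (FBase.bcπ (f.fiberToSpecResidueField (f.base x)) K).base x' = f.asFiber x →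
          (IsDomain ((FBase.bc (f.fiberToSpecResidueField (f.base x)) K).presheaf.stalk x') ∧
            IsIntegrallyClosed ((FBase.bc (f.fiberToSpecResidueField (f.base x)) K).presheaf.stalk x'))} :=
  (congrArg IsLocallyConstructible (Set.ext fun x => geomNormal_fibre_iff f x)).mpr (lc_good f)

theorem lc_geomNormal_image [QuasiCompact f] : IsLocallyConstructible {s : Y |
      ∀ (K : Type u) [Field K] [Algebra (IsLocalRing.ResidueField (Y.presheaf.stalk s)) K]
        (x' : ↥(FBase.bc (f.fiberToSpecResidueField s) K)),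
        IsDomain ((FBase.bc (f.fiberToSpecResidueField s) K).presheaf.stalk x') ∧
          IsIntegrallyClosed ((FBase.bc (f.fiberToSpecResidueField s) K).presheaf.stalk x')} := by
  refine (congrArg IsLocallyConstructible (Set.ext fun s => ?_)).mpr
    (ConstrStatements.lc_compl (f.isLocallyConstructible_image (ConstrStatements.lc_compl (lc_good f))))
  rw [Set.mem_compl_iff, Set.mem_setOf_eq]
  let P : ∀ y, ↥(f.fiber y) → Prop := fun y w =>
    ∀ (K : Type u) [Field K] [Algebra (IsLocalRing.ResidueField (Y.presheaf.stalk y)) K]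
        (x' : ↥(FBase.bc (f.fiberToSpecResidueField y) K)),
        (FBase.bcπ (f.fiberToSpecResidueField y) K).base x' = w →
          IsDomain ((FBase.bc (f.fiberToSpecResidueField y) K).presheaf.stalk x') ∧
            IsIntegrallyClosed ((FBase.bc (f.fiberToSpecResidueField y) K).presheaf.stalk x')
  have h0 := Fibre.fiber_forall f (P := P) s
  constructor
  · rintro h ⟨x, hx, hxs⟩
    exact hx ((geomNormal_fibre_iff f x).mp (h0.mp (fun w K _ _ x' _ => h K x') x hxs))
  · intro h K _ _ x'
    exact h0.mpr (fun x hx => (geomNormal_fibre_iff f x).mpr (by_contra fun hb => h ⟨x, hb, hx⟩)) _ K x' rfl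

end family

end Groth.Agent.FibreDepth.GeomNormal
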