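import Mathlib
import Groth.Agent.FibreDepth.GeomPointwise
import Groth.Agent.FibreDepth.GeomNormal
import Groth.Agent.FibreDepth.FlatLocus
import Groth.Agent.GeomReg.Scheme

/-! The geometric condition (R_n) needs only finite extensions. -/

set_option autoImplicit false
set_option backward.isDefEq.respectTransparency false
set_option linter.style.haveILetI false
universe u

open CategoryTheory CategoryTheory.Limits AlgebraicGeometry IsLocalRing

namespace Groth.Agent.FibreDepth.GeomFinite
open Gen GeomPointwise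

variable {k : Type u} [Field k] {Z : Scheme.{u}} (g : Z ⟶ Spec (CommRingCat.of k)) [LocallyOfFinitePresentation g]

theorem geomRk_finite_iff (n : ℕ) (x : Z) :
    (∀ (K : Type u) [Field K] [Algebra k K], Module.Finite k K → ∀ (x' : ↥(FBase.bc g K)),
        (FBase.bcπ g K).base x' = x → LocCoh.HasRk n ((FBase.bc g K).presheaf.stalk x')) ↔
      ∀ p : PrimeSpectrum (Z.presheaf.stalk x), p.asIdeal.height ≤ n → gen x p ∈ g.smoothLocus := by
  refine ⟨fun h p hp => ?_, fun h K _ _ _ x' hx' => (GeomPointwise.geomRk_iff g n x).mpr h K x' hx'⟩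
  refine GeomReg.Scheme.mem_smoothLocus_of_regular g (gen x p) fun K _ _ hK z' hz' => ?_
  haveI : IsFinite (Spec.map (CommRingCat.ofHom (algebraMap k K))) :=
    (IsFinite.SpecMap_iff _).mpr (RingHom.finite_algebraMap.mpr hK)
  haveI : IsFinite (FBase.bcπ g K) := MorphismProperty.pullback_fst (P := @IsFinite) _ _ inferInstance
  let π := FBase.bcπ g K
  let y : ↥(FBase.bc g K) := z'
  have hy : π y = gen x p := hz'
  obtain ⟨x', hzx, hx'⟩ := π.isClosedMap.specializingMap
    (show π y ⤳ x from hy ▸ gen_specializes x p)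
  obtain ⟨p', hp'⟩ := (range_gen x' y).mpr hzx
  subst hp'
  haveI := isNoetherianRing_stalk g (π (gen x' p'))
  haveI := isNoetherianRing_stalk (FBase.bcStr g K) (gen x' p')
  let R := Z.presheaf.stalk (π (gen x' p'))
  let S := (FBase.bc g K).presheaf.stalk (gen x' p')
  letI : Algebra R S := (π.stalkMap (gen x' p')).hom.toAlgebra
  haveI : Module.Flat R S := AlgebraicGeometry.Flat.stalkMap π (gen x' p')
  haveI : IsLocalHom (algebraMap R S) := inferInstanceAs (IsLocalHom (π.stalkMap (gen x' p')).hom)
  haveI : (maximalIdeal S).LiesOver (maximalIdeal R) :=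
    ⟨(IsLocalRing.maximalIdeal_comap (algebraMap R S)).symm⟩
  let J := (maximalIdeal R).map (algebraMap R S)
  have hJ : J ≤ maximalIdeal S := ((local_hom_TFAE (algebraMap R S)).out 0 2).mp ‹IsLocalHom (algebraMap R S)›
  have hmin : ((maximalIdeal S).map (Ideal.Quotient.mk J)).height = 0 := by
    haveI : ((maximalIdeal S).map (Ideal.Quotient.mk J)).IsPrime :=
      Ideal.map_isPrime_of_surjective Ideal.Quotient.mk_surjective (by rw [Ideal.mk_ker]; exact hJ)
    rw [Ideal.height_eq_zero_iff, minimalPrimes_eq_minimals]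
    refine ⟨inferInstance, fun I hI _ => ?_⟩
    haveI : I.IsPrime := hI
    let q : PrimeSpectrum S := ⟨I.comap (Ideal.Quotient.mk J), inferInstance⟩
    have hq : PrimeSpectrum.comap (π.stalkMap (gen x' p')).hom q = IsLocalRing.closedPoint R :=
      PrimeSpectrum.ext (le_antisymm (IsLocalRing.le_maximalIdeal (Ideal.IsPrime.ne_top inferInstance))
        (Ideal.map_le_iff_le_comap.mp (show J ≤ q.asIdeal from
          Ideal.mk_ker.symm.le.trans (Ideal.comap_mono bot_le))))
    have h1 : π (gen (gen x' p') q) = π (gen x' p') := by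
      rw [gen_map, hq]
      exact Scheme.fromSpecStalk_closedPoint
    have h2 : gen (gen x' p') q = gen x' p' :=
      (π.isDiscrete_preimage_singleton (π (gen x' p'))).eq_of_specializes (gen_specializes _ q) h1 rfl
    have h3 : q = IsLocalRing.closedPoint S :=
      gen_injective _ (h2.trans Scheme.fromSpecStalk_closedPoint.symm)
    have h4 : I.comap (Ideal.Quotient.mk J) = maximalIdeal S := congrArg PrimeSpectrum.asIdeal h3
    rw [← h4, Ideal.map_comap_of_surjective _ Ideal.Quotient.mk_surjective]
  have hh := Ideal.height_eq_height_add_of_liesOver_of_hasGoingDown (maximalIdeal R) (maximalIdeal S)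
  rw [hmin, add_zero] at hh
  have hd : p'.asIdeal.height ≤ n := by
    rw [← WithBot.coe_le_coe, height_eq_dim_stalk, ← maximalIdeal_height_eq_ringKrullDim (R := S), hh,
      maximalIdeal_height_eq_ringKrullDim,
      show ringKrullDim R = ringKrullDim (Z.presheaf.stalk (gen x p)) from
        congrArg (fun z => ringKrullDim (Z.presheaf.stalk z)) hy, ← height_eq_dim_stalk, WithBot.coe_le_coe]
    exact hp
  exact (hasRk_iff n x').mp (h K hK x' hx') p' hd

theorem hasSk_two_of_normal (x : Z)
    (h : ∀ (K : Type u) [Field K] [Algebra k K], Module.Finite k K → ∀ (x' : ↥(FBase.bc g K)),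
      (FBase.bcπ g K).base x' = x →
        IsDomain ((FBase.bc g K).presheaf.stalk x') ∧ IsIntegrallyClosed ((FBase.bc g K).presheaf.stalk x')) :
    LocCoh.HasSk 2 (Z.presheaf.stalk x) (Z.presheaf.stalk x) ∧ IsDomain (Z.presheaf.stalk x) := by
  haveI : IsIso (Spec.map (CommRingCat.ofHom (algebraMap k k))) := by
    rw [show CommRingCat.ofHom (algebraMap k k) = 𝟙 _ from rfl, Spec.map_id]; infer_instance
  haveI : IsIso (FBase.bcπ g k) :=
    inferInstanceAs (IsIso (pullback.fst g (Spec.map (CommRingCat.ofHom (algebraMap k k)))))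
  obtain ⟨x', rfl⟩ := (FBase.bcπ g k).surjective x
  obtain ⟨h1, h2⟩ := h k inferInstance x' rfl
  let e : (Z.presheaf.stalk (FBase.bcπ g k x')) ≃+* (FBase.bc g k).presheaf.stalk x' :=
    (asIso ((FBase.bcπ g k).stalkMap x')).commRingCatIsoToRingEquiv
  haveI := isNoetherianRing_stalk g (FBase.bcπ g k x')
  haveI := isNoetherianRing_stalk (FBase.bcStr g k) x'
  exact ⟨FlatLocus.hasSk_of_ringEquiv e.symm 2 ((GeomNormal.normal_iff _).mp ⟨h1, h2⟩).2,
    e.toMulEquiv.isDomain _⟩

end Groth.Agent.FibreDepth.GeomFinite
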