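import Mathlib
import Groth.Agent.FibreDepth.Statements
import Groth.Agent.FibreDepth.GeomLocus
import Groth.Agent.FibreDepth.SmoothFibre
import Groth.Agent.FibreDepth.Unit

/-! Openness of the geometric condition (R_k) on the fibres of a flat morphism. -/

set_option autoImplicit false
set_option backward.isDefEq.respectTransparency false
set_option linter.style.haveILetI false
universe u
open CategoryTheory AlgebraicGeometry TopologicalSpace Topology IsLocalRing

namespace Groth.Agent.FibreDepth.GeomOpen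
open Gen Fibre GeomLocus

variable {X Y : Scheme.{u}} (f : X ⟶ Y) [LocallyOfFinitePresentation f]

local notation "𝒪" => Coh.structureModule X

omit [LocallyOfFinitePresentation f] in
theorem nz_unit (y : Y) (w : ↥(f.fiber y)) : Nontrivial ((fib f 𝒪 y).presheaf.stalk w) := by
  obtain ⟨e⟩ := Unit.exists_stalk_equiv f y w
  exact e.toEquiv.nontrivial_congr.mpr inferInstance

omit [LocallyOfFinitePresentation f] in
theorem cd_mono (z v : X) (h : f.base v = f.base z) (hvz : v ⤳ z) : cd f z ≤ cd f v := by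
  obtain ⟨w, hw⟩ : v ∈ Set.range (f.fiberι (f.base z)) := by rw [f.range_fiberι]; exact h
  have hwz : w ⤳ f.asFiber z := (f.fiberι (f.base z)).isEmbedding.isInducing.specializes_iff.mp (by
    rw [hw, Scheme.Hom.fiberι_asFiber]; exact hvz)
  have h2 := (fiber_iff f (P := fun y w => topologicalKrullDim ↥(closure ({w} : Set ↥(f.fiber y))) = cd f v)
    (f.base z) w).mpr (by rw [hw])
  rw [← h2]
  exact Topology.IsInducing.topologicalKrullDim_le
    (Topology.IsEmbedding.inclusion (specializes_iff_closure_subset.mp hwz)).isInducing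

/-- there is an associated point of the fibre above every point -/
theorem exists_ass (z : X) : ∃ v, f.base v = f.base z ∧ v ⤳ z ∧ dp f 𝒪 v = 0 := by
  obtain ⟨w, hwz, hw⟩ := Loci.exists_minSupp (Unit.isFP_unit X) (f.base z) (f.asFiber z) (nz_unit f _ _)
  refine ⟨f.fiberι (f.base z) w, (f.range_fiberι _).subset ⟨w, rfl⟩, ?_, ?_⟩
  · have := hwz.map (f.fiberι (f.base z)).continuous
    rwa [Scheme.Hom.fiberι_asFiber] at this
  · exact (fiber_iff f (P := fun y w => dpS (fib f 𝒪 y) w = 0) (f.base z) w).mp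
      (Loci.dp_eq_zero_of_minSupp (Unit.isFP_unit X) _ w hw)

/-- (S_1) at `x`: associated points above `x` are minimal in the fibre. -/
theorem minimal_of_S1 (x : X)
    (hS : LocCoh.HasSk 1 ((f.fiber (f.base x)).presheaf.stalk (f.asFiber x))
      ((fib f 𝒪 (f.base x)).presheaf.stalk (f.asFiber x)))
    (z : X) (hzx : f.base z = f.base x) (hsp : z ⤳ x) (h0 : dp f 𝒪 z = 0) :
    ∀ v, f.base v = f.base z → v ⤳ z → v = z := by
  intro v hv hvz
  let P : ∀ y, ↥(f.fiber y) → Prop := fun y w =>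
    dpS (fib f 𝒪 y) w = 0 → ∀ u, u ⤳ w → u = w
  have hP : ∀ w, w ⤳ f.asFiber x → P (f.base x) w := fun w hw hw0 u hu => by
    have h1 := (Loci.hasSk_iff (Unit.isFP_unit X) 1 _ (f.asFiber x)).mp hS w hw
    rw [hw0, WithBot.coe_zero] at h1
    have hsd := (min_le_iff.mp h1).resolve_left (fun h => by
      have : (1 : ℕ) ≤ 0 := by exact_mod_cast h
      omega)
    exact (Loci.minSupp_of_sd (Unit.isFP_unit X) _ w (nz_unit f _ _) hsd).2 u hu (nz_unit f _ _)
  have hz := (gen_forall f x (P := P)).mp hP z hzx hsp h0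
  obtain ⟨w, hw⟩ : v ∈ Set.range (f.fiberι (f.base z)) := by rw [f.range_fiberι]; exact hv
  have hwz : w ⤳ f.asFiber z := (f.fiberι (f.base z)).isEmbedding.isInducing.specializes_iff.mp (by
    rw [hw, Scheme.Hom.fiberι_asFiber]; exact hvz)
  rw [← hw, hz w hwz, Scheme.Hom.fiberι_asFiber]

/-- all associated points above `x` have the same dimension -/
def Equi (x : X) : Prop :=
  ∀ z z', f.base z = f.base x → z ⤳ x → f.base z' = f.base x → z' ⤳ x →
    dp f 𝒪 z = 0 → dp f 𝒪 z' = 0 → cd f z = cd f z'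

theorem equi_of_equidim (x : X)
    (hE : EGA4.IsEquidimModule ((f.fiber (f.base x)).presheaf.stalk (f.asFiber x))
      ((fib f 𝒪 (f.base x)).presheaf.stalk (f.asFiber x)))
    (hS : LocCoh.HasSk 1 ((f.fiber (f.base x)).presheaf.stalk (f.asFiber x))
      ((fib f 𝒪 (f.base x)).presheaf.stalk (f.asFiber x))) : Equi f x := by
  intro z z' h1 h2 h1' h2' h0 h0'
  have key : ∀ v, f.base v = f.base x → v ⤳ x → dp f 𝒪 v = 0 →
      ∃ w, w ⤳ f.asFiber x ∧ Loci.MinSupp f 𝒪 (f.base x) w ∧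
        topologicalKrullDim ↥(closure ({w} : Set ↥(f.fiber (f.base x)))) = cd f v := by
    intro v hv hvx hv0
    obtain ⟨w, hw⟩ : v ∈ Set.range (f.fiberι (f.base x)) := by rw [f.range_fiberι]; exact hv
    have hwx : w ⤳ f.asFiber x := (f.fiberι (f.base x)).isEmbedding.isInducing.specializes_iff.mp (by
      rw [hw, Scheme.Hom.fiberι_asFiber]; exact hvx)
    refine ⟨w, hwx, ⟨nz_unit f _ _, fun u hu _ => ?_⟩,
      (fiber_iff f (P := fun y w => topologicalKrullDim ↥(closure ({w} : Set ↥(f.fiber y))) = cd f v)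
        (f.base x) w).mpr (by rw [hw])⟩
    refine (f.fiberι (f.base x)).isEmbedding.injective ?_
    rw [hw]
    refine minimal_of_S1 f x hS v hv hvx hv0 _ (((f.range_fiberι _).subset ⟨u, rfl⟩).trans hv.symm) ?_
    rw [← hw]
    exact hu.map (f.fiberι (f.base x)).continuous
  obtain ⟨w, a1, a2, a3⟩ := key z h1 h2 h0
  obtain ⟨w', b1, b2, b3⟩ := key z' h1' h2' h0'
  rw [← a3, ← b3]
  exact (Loci.isEquidimModule_iff (Unit.isFP_unit X) _ _).mp hE w w' a1 b1 a2 b2

variable [AlgebraicGeometry.Flat f]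

theorem flatOver : FlatMod.IsFlatOver f 𝒪 := fun x => Unit.flatAt_unit f x (AlgebraicGeometry.Flat.stalkMap f x)

/-- nonsmooth points all of whose associated generizations have dimension exceeding `k + e` removed -/
def W (k e : ℕ) : Set X := {w | ∀ z, f.base z = f.base w → z ⤳ w → dp f 𝒪 z = 0 →
  ∃ n ∈ {n : ℕ | k + e < n}, cd f z = (n : ℕ)}

def C (k e : ℕ) : Set X := E f ((f.smoothLocus : Set X)ᶜ ∩ (W f k e)ᶜ) e

/-- An open set contained in the locus of geometric (R_k). -/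
def O (k : ℕ) : Set X := {x | ∀ e, True → x ∉ C f k e}

theorem isOpen_O (k : ℕ) : IsOpen (O f k) := by
  refine Loci.isOpen_avoid (f := f) (C f k) (fun e => isClosed_E f ?_ e) (fun _ => True) id fun e n x hx hz => ?_
  · exact f.smoothLocus.isOpen.isClosed_compl.inter
      (Loci.isOpen_assDims (Unit.isFP_unit X) (flatOver f) _).isClosed_compl
  · obtain ⟨z, -, -, hzx, he⟩ := hx
    obtain ⟨i, hin, hi⟩ := hz z hzx
    rw [hi] at he
    exact le_trans (by exact_mod_cast he) hin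

theorem not_bad_of_mem_O (k : ℕ) (x : X) (hx : x ∈ O f k) : ¬ Bad f k x := by
  rintro ⟨z, hzf, hzx, hns, hk⟩
  obtain ⟨e, he⟩ := exists_cd f z
  refine hx e trivial ⟨z, ⟨fun h => hns ((SmoothFibre.iff_of_flat f z).mpr h), fun hW => ?_⟩, hzf, hzx, he.ge⟩
  obtain ⟨v, hv, hvz, hv0⟩ := exists_ass f z
  obtain ⟨n, hn, hcd⟩ := hW v hv hvz hv0
  have h1 := hk v hv hvz
  rw [he, hcd] at h1
  have h2 : n ≤ k + e := by exact_mod_cast h1
  exact absurd h2 (not_le.mpr hn)

theorem mem_O (k : ℕ) (x : X) (hk : k = 0 ∨ Equi f x)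
    (hS : LocCoh.HasSk 1 ((f.fiber (f.base x)).presheaf.stalk (f.asFiber x))
      ((fib f 𝒪 (f.base x)).presheaf.stalk (f.asFiber x)))
    (h : ¬ Bad f k x) : x ∈ O f k := by
  rintro e - ⟨z, ⟨hns, hW⟩, hzf, hzx, hez⟩
  refine h ⟨z, hzf, hzx, fun hsm => hns ((SmoothFibre.iff_of_flat f z).mp hsm), ?_⟩
  obtain ⟨v, hv, hvz, hv0, hve⟩ : ∃ v, f.base v = f.base z ∧ v ⤳ z ∧ dp f 𝒪 v = 0 ∧
      cd f v ≤ (k : WithBot ℕ∞) + (e : ℕ) := by
    by_contra hne
    push Not at hne
    refine hW fun v hv hvz hv0 => ?_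
    obtain ⟨n, hn⟩ := exists_cd f v
    refine ⟨n, ?_, hn⟩
    have := hne v hv hvz hv0
    rw [hn] at this
    show k + e < n
    exact_mod_cast this
  intro u hu huz
  obtain ⟨v₀, h₀, h₀u, h₀0⟩ := exists_ass f u
  rcases hk with rfl | hk
  · have hzv : z = v := by
      refine (Loci.eq_of_cd_eq' (Unit.isFP_unit X) z v hv hvz (le_antisymm ?_ (cd_mono f z v hv hvz))).symm
      rw [Nat.cast_zero, zero_add] at hve
      exact hve.trans hez
    subst hzv
    rw [minimal_of_S1 f x hS z hzf hzx hv0 u hu huz]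
    exact le_add_of_nonneg_left (Nat.cast_nonneg' 0)
  · refine (cd_mono f u v₀ h₀ h₀u).trans ?_
    rw [hk v₀ v ((h₀.trans hu).trans hzf) ((h₀u.trans huz).trans hzx) (hv.trans hzf) (hvz.trans hzx) h₀0 hv0]
    exact hve.trans (add_le_add le_rfl hez)

theorem isOpen_good0 : IsOpen {x : X | ¬ Bad f 0 x ∧
    LocCoh.HasSk 1 ((f.fiber (f.base x)).presheaf.stalk (f.asFiber x))
      ((f.fiber (f.base x)).presheaf.stalk (f.asFiber x))} := by
  refine (congrArg IsOpen (Set.ext fun x => ?_)).mpr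
    ((isOpen_O f 0).inter (Statements.isOpen_hasSk f 𝒪 (Unit.isFP_unit X) (flatOver f) 1))
  refine ⟨fun h => ?_, fun h => ⟨not_bad_of_mem_O f 0 x h.1, (Unit.hasSk_iff f 1 _ _).mpr h.2⟩⟩
  have hS := (Unit.hasSk_iff f 1 _ _).mp h.2
  exact ⟨mem_O f 0 x (Or.inl rfl) hS h.1, hS⟩

theorem isOpen_good (k j : ℕ) (hj : 1 ≤ j) : IsOpen {x : X | ¬ Bad f k x ∧
    EGA4.IsEquidimModule ((f.fiber (f.base x)).presheaf.stalk (f.asFiber x))
        ((fib f 𝒪 (f.base x)).presheaf.stalk (f.asFiber x)) ∧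
    LocCoh.HasSk j ((f.fiber (f.base x)).presheaf.stalk (f.asFiber x))
      ((fib f 𝒪 (f.base x)).presheaf.stalk (f.asFiber x))} := by
  refine (congrArg IsOpen (Set.ext fun x => ?_)).mpr
    ((isOpen_O f k).inter (Statements.isOpen_equidim_hasSk f 𝒪 (Unit.isFP_unit X) (flatOver f) j hj))
  refine ⟨fun h => ⟨?_, h.2⟩, fun h => ⟨not_bad_of_mem_O f k x h.1, h.2⟩⟩
  have hS : LocCoh.HasSk 1 ((f.fiber (f.base x)).presheaf.stalk (f.asFiber x))
      ((fib f 𝒪 (f.base x)).presheaf.stalk (f.asFiber x)) := fun p _ =>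
    le_trans (min_le_min (show ((1 : ℕ) : WithBot ℕ∞) ≤ (j : ℕ) by exact_mod_cast hj) le_rfl) (h.2.2 p)
  exact mem_O f k x (Or.inr (equi_of_equidim f x h.2.1 hS)) hS h.1

end Groth.Agent.FibreDepth.GeomOpen
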