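import Mathlib
import Groth.Agent.FibreDepth.GeomNormal

/-! The locus of geometrically reduced fibres. -/

set_option autoImplicit false
set_option backward.isDefEq.respectTransparency false
set_option linter.style.haveILetI false
universe u
open CategoryTheory CategoryTheory.Limits AlgebraicGeometry IsLocalRing

namespace Groth.Agent.FibreDepth.GeomReducedLocus
open Gen GeomPointwise

theorem hasSk_one_iff {Z : Scheme.{u}} (x : Z) :
    LocCoh.HasSk 1 (Z.presheaf.stalk x) (Z.presheaf.stalk x) ↔
      ∀ p : PrimeSpectrum (Z.presheaf.stalk x), min (1 : ℕ∞) p.asIdeal.height ≤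
        LocCoh.depth (Z.presheaf.stalk (gen x p)) (Z.presheaf.stalk (gen x p)) := by
  rw [IdealDepth.Serre.hasSk_self_iff]
  refine ⟨fun h p => ?_, fun h p hp => ?_⟩
  · obtain ⟨e⟩ := exists_locEquiv x p
    rw [← Segre.CM.depth_congr e]
    exact_mod_cast h p.asIdeal
  · obtain ⟨e⟩ := exists_locEquiv x ⟨p, hp⟩
    rw [Segre.CM.depth_congr e]
    exact_mod_cast h ⟨p, hp⟩

section field

variable {k : Type u} [Field k] {Z : Scheme.{u}} (g : Z ⟶ Spec (CommRingCat.of k))

theorem geometricallyReduced_iff : GeometricallyReduced g ↔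
    ∀ (K : Type u) [Field K] [Algebra k K] (x' : ↥(FBase.bc g K)),
      _root_.IsReduced ((FBase.bc g K).presheaf.stalk x') := by
  constructor
  · intro h K _ _ x'
    haveI : IsReduced (FBase.bc g K) := h.geometrically_isReduced _ _ _ (IsPullback.of_hasPullback _ _)
    infer_instance
  · intro h
    refine ⟨fun K _ y W fst snd hsq => ?_⟩
    obtain ⟨φ, rfl⟩ := Spec.map_surjective y
    letI : Algebra k K := φ.hom.toAlgebra
    haveI : ∀ x', _root_.IsReduced ((FBase.bc g K).presheaf.stalk x') := h K
    haveI : IsReduced (FBase.bc g K) := isReduced_of_isReduced_stalk _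
    haveI : IsReduced (pullback g (Spec.map φ)) := ‹IsReduced (FBase.bc g K)›
    exact isReduced_of_isOpenImmersion hsq.isoPullback.hom

variable [LocallyOfFinitePresentation g]

theorem geomReduced_iff (x : Z) :
    (∀ (K : Type u) [Field K] [Algebra k K] (x' : ↥(FBase.bc g K)), (FBase.bcπ g K).base x' = x →
        _root_.IsReduced ((FBase.bc g K).presheaf.stalk x')) ↔
      (∀ (K : Type u) [Field K] [Algebra k K] (x' : ↥(FBase.bc g K)), (FBase.bcπ g K).base x' = x →
          LocCoh.HasRk 0 ((FBase.bc g K).presheaf.stalk x')) ∧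
        LocCoh.HasSk 1 (Z.presheaf.stalk x) (Z.presheaf.stalk x) := by
  have hnoeth : ∀ (K : Type u) [Field K] [Algebra k K] (x' : ↥(FBase.bc g K)),
      IsNoetherianRing ((FBase.bc g K).presheaf.stalk x') :=
    fun K _ _ x' => isNoetherianRing_stalk (FBase.bcStr g K) x'
  have hflat : ∀ (K : Type u) [Field K] [Algebra k K] (z' : ↥(FBase.bc g K)),
      ((FBase.bcπ g K).stalkMap z').hom.Flat := fun K _ _ z' => AlgebraicGeometry.Flat.stalkMap _ z'
  constructor
  · intro h
    refine ⟨fun K _ _ x' hx => ?_, ?_⟩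
    · haveI := hnoeth K x'
      exact ((IdealDepth.Serre.reduced_iff _).mp (h K x' hx)).1
    · let K := AlgebraicClosure k
      obtain ⟨x', hx'⟩ := (FBase.bcπ g K).surjective x
      subst hx'
      haveI := hnoeth K x'
      haveI := isNoetherianRing_stalk g (FBase.bcπ g K x')
      haveI := h K x' rfl
      letI : Algebra (Z.presheaf.stalk (FBase.bcπ g K x')) ((FBase.bc g K).presheaf.stalk x') :=
        ((FBase.bcπ g K).stalkMap x').hom.toAlgebra
      haveI : Module.Flat (Z.presheaf.stalk (FBase.bcπ g K x')) ((FBase.bc g K).presheaf.stalk x') := hflat K x'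
      haveI : IsLocalHom (algebraMap (Z.presheaf.stalk (FBase.bcπ g K x')) ((FBase.bc g K).presheaf.stalk x')) :=
        inferInstanceAs (IsLocalHom ((FBase.bcπ g K).stalkMap x').hom)
      haveI : Module.FaithfullyFlat (Z.presheaf.stalk (FBase.bcπ g K x')) ((FBase.bc g K).presheaf.stalk x') :=
        Module.FaithfullyFlat.of_flat_of_isLocalHom
      haveI : _root_.IsReduced (Z.presheaf.stalk (FBase.bcπ g K x')) :=
        isReduced_of_injective (algebraMap _ ((FBase.bc g K).presheaf.stalk x'))
          (FaithfulSMul.algebraMap_injective _ _)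
      exact ((IdealDepth.Serre.reduced_iff _).mp inferInstance).2
  · rintro ⟨hR, hS⟩ K _ _ x' hx'
    subst hx'
    haveI := hnoeth K x'
    refine (IdealDepth.Serre.reduced_iff _).mpr ⟨hR K x' rfl, (hasSk_one_iff x').mpr fun p' => ?_⟩
    have hsm := (GeomPointwise.geomRk_iff g 0 (FBase.bcπ g K x')).mp hR
    let p := PrimeSpectrum.comap ((FBase.bcπ g K).stalkMap x').hom p'
    by_cases hp : p.asIdeal.height ≤ 0
    · have hs : gen x' p' ∈ (FBase.bcStr g K).smoothLocus := by
        rw [GeomPointwise.smooth_iff, gen_map]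
        exact hsm p hp
      haveI := RegSmoothScheme.isRegular_of_mem_smoothLocus (FBase.bcStr g K) hs
      exact (min_le_right _ _).trans (GeomNormal.depth_eq_height_of_regular x' p')
    · have h2 : (1 : ℕ∞) ≤ LocCoh.depth (Z.presheaf.stalk (gen (FBase.bcπ g K x') p)) (Z.presheaf.stalk (gen (FBase.bcπ g K x') p)) := by
        refine le_trans (le_min le_rfl ?_) ((hasSk_one_iff _).mp hS p)
        exact Order.one_le_iff_pos.mpr (not_le.mp hp)
      refine (min_le_left _ _).trans (h2.trans ?_)
      suffices h3 : ∀ (z' : ↥(FBase.bc g K)) (z : Z), FBase.bcπ g K z' = z →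
          LocCoh.depth (Z.presheaf.stalk z) (Z.presheaf.stalk z) ≤
            LocCoh.depth ((FBase.bc g K).presheaf.stalk z') ((FBase.bc g K).presheaf.stalk z') from
        h3 _ _ (gen_map _ x' p')
      rintro z' _ rfl
      haveI := hnoeth K z'
      haveI := isNoetherianRing_stalk g (FBase.bcπ g K z')
      letI : Algebra (Z.presheaf.stalk (FBase.bcπ g K z')) ((FBase.bc g K).presheaf.stalk z') :=
        ((FBase.bcπ g K).stalkMap z').hom.toAlgebra
      haveI : Module.Flat (Z.presheaf.stalk (FBase.bcπ g K z')) ((FBase.bc g K).presheaf.stalk z') := hflat K z'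
      haveI : IsLocalHom (algebraMap (Z.presheaf.stalk (FBase.bcπ g K z')) ((FBase.bc g K).presheaf.stalk z')) :=
        inferInstanceAs (IsLocalHom ((FBase.bcπ g K).stalkMap z').hom)
      rw [DepthFlat.depth_self (R := Z.presheaf.stalk (FBase.bcπ g K z')) (S := (FBase.bc g K).presheaf.stalk z')]
      exact le_self_add

end field

section family

open Topology GeomLocus

variable {X Y : Scheme.{u}} (f : X ⟶ Y) [LocallyOfFinitePresentation f]

theorem lc_good : IsLocallyConstructible {x : X | ¬ Bad f 0 x ∧
    LocCoh.HasSk 1 ((f.fiber (f.base x)).presheaf.stalk (f.asFiber x))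
      ((f.fiber (f.base x)).presheaf.stalk (f.asFiber x))} := by
  refine (ConstrStatements.lc_compl (lc_bad f 0)).inter ?_
  refine (congrArg IsLocallyConstructible (Set.ext fun x => ?_)).mpr
    (ConstrStatements.lc_hasSk f (Unit.isFP_unit X) 1)
  exact Unit.hasSk_iff f 1 _ _

theorem lc_geometricallyReduced [QuasiCompact f] :
    IsLocallyConstructible {y : Y | GeometricallyReduced (f.fiberToSpecResidueField y)} := by
  haveI : ∀ y, LocallyOfFinitePresentation (f.fiberToSpecResidueField y) := fun y =>
    MorphismProperty.pullback_snd (P := @LocallyOfFinitePresentation) _ _ inferInstance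
  let P : ∀ y, ↥(f.fiber y) → Prop := fun y w =>
    (∀ (K : Type u) [Field K] [Algebra (IsLocalRing.ResidueField (Y.presheaf.stalk y)) K]
        (x' : ↥(FBase.bc (f.fiberToSpecResidueField y) K)),
        (FBase.bcπ (f.fiberToSpecResidueField y) K).base x' = w →
          _root_.IsReduced ((FBase.bc (f.fiberToSpecResidueField y) K).presheaf.stalk x'))
  have hP : ∀ x, P (f.base x) (f.asFiber x) ↔ (¬ Bad f 0 x ∧
      LocCoh.HasSk 1 ((f.fiber (f.base x)).presheaf.stalk (f.asFiber x))
        ((f.fiber (f.base x)).presheaf.stalk (f.asFiber x))) := fun x => by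
    rw [← GeomLocus.geomRk_iff]
    exact geomReduced_iff (k := IsLocalRing.ResidueField (Y.presheaf.stalk (f.base x))) (f.fiberToSpecResidueField (f.base x)) _
  refine (congrArg IsLocallyConstructible (Set.ext fun y => ?_)).mpr
    (ConstrStatements.lc_compl (f.isLocallyConstructible_image (ConstrStatements.lc_compl (lc_good f))))
  rw [Set.mem_compl_iff, Set.mem_setOf_eq,
    geometricallyReduced_iff (k := IsLocalRing.ResidueField (Y.presheaf.stalk y)) (f.fiberToSpecResidueField y)]
  have h0 := Fibre.fiber_forall f (P := P) y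
  constructor
  · rintro h ⟨x, hx, hxs⟩
    exact hx ((hP x).mp (h0.mp (fun w K _ _ x' _ => h K x') x hxs))
  · intro h K _ _ x'
    exact h0.mpr (fun x hx => (hP x).mpr (by_contra fun hb => h ⟨x, hb, hx⟩)) _ K x' rfl

end family

end Groth.Agent.FibreDepth.GeomReducedLocus
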