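import Mathlib
import Groth.Agent.FibreDepth.GeomOpen
import Groth.Agent.FibreDepth.GeomFinite
import Groth.Agent.FibreDepth.GeomReducedLocus
import Groth.Agent.S2085

/-! Statements on openness of geometric properties of the fibres. -/

set_option autoImplicit false
set_option backward.isDefEq.respectTransparency false
set_option linter.style.haveILetI false
universe u
open CategoryTheory AlgebraicGeometry TopologicalSpace Topology IsLocalRing

namespace Groth.Agent.FibreDepth.GeomOpenStatements
open Gen Fibre GeomLocus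

theorem ass_subset_iff_S1 (R : Type u) [CommRing R] [IsNoetherianRing R] :
    (∀ p ∈ associatedPrimes R R, p ∈ minimalPrimes R) ↔ LocCoh.HasSk 1 R R := by
  rw [← Groth.Agent.S2085.result (R := R) (M := R)]
  have h : Module.annihilator R R = ⊥ :=
    eq_bot_iff.mpr fun r hr => by simpa using Module.mem_annihilator.mp hr 1
  rw [h]

theorem isEquidim_iff (R M : Type u) [CommRing R] [AddCommGroup M] [Module R M] (e : M ≃ₗ[R] R) :
    EGA4.IsEquidim R ↔ EGA4.IsEquidimModule R M := by
  have h : Module.annihilator R M = ⊥ :=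
    e.annihilator_eq.trans (eq_bot_iff.mpr fun r hr => by simpa using Module.mem_annihilator.mp hr 1)
  have hd : Module.supportDim R M = ringKrullDim R :=
    (Module.supportDim_eq_of_equiv e).trans (Module.supportDim_self_eq_ringKrullDim R)
  show (∀ p ∈ minimalPrimes R, _) ↔ ∀ p ∈ (Module.annihilator R M).minimalPrimes, _
  rw [h, hd]


theorem isEquidim_of_isDomain (R : Type u) [CommRing R] [IsDomain R] : EGA4.IsEquidim R := by
  intro p hp
  rw [IsDomain.minimalPrimes_eq_singleton_bot, Set.mem_singleton_iff] at hp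
  rw [hp]
  exact ringKrullDim_eq_of_ringEquiv (RingEquiv.quotientBot R)

section field

variable {k : Type u} [Field k]

/-- all generizations of codimension at most `n` are smooth -/
def SmUp {Z : Scheme.{u}} (g : Z ⟶ Spec (CommRingCat.of k)) [LocallyOfFinitePresentation g] (n : ℕ) (x : Z) : Prop :=
  ∀ p : PrimeSpectrum (Z.presheaf.stalk x), p.asIdeal.height ≤ n → gen x p ∈ g.smoothLocus

theorem smUp_openImm {Z' Z : Scheme.{u}} (j : Z' ⟶ Z) [IsOpenImmersion j] (g : Z ⟶ Spec (CommRingCat.of k))
    [LocallyOfFinitePresentation g] (g' : Z' ⟶ Spec (CommRingCat.of k)) [LocallyOfFinitePresentation g']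
    (hg : j ≫ g = g') (n : ℕ) (a : Z') : SmUp g' n a ↔ SmUp g n (j a) := by
  subst hg
  let e := (asIso (j.stalkMap a)).commRingCatIsoToRingEquiv
  have key : ∀ p' : PrimeSpectrum (Z'.presheaf.stalk a), gen a p' ∈ (j ≫ g).smoothLocus ↔
      gen (j a) (PrimeSpectrum.comap (j.stalkMap a).hom p') ∈ g.smoothLocus := fun p' => by
    rw [← GeomPointwise.gen_map j a p', ← Scheme.Hom.preimage_smoothLocus_eq]
    rfl
  have hht : ∀ p' : PrimeSpectrum (Z'.presheaf.stalk a),
      (PrimeSpectrum.comap (j.stalkMap a).hom p').asIdeal.height = p'.asIdeal.height := fun p' =>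
    RingEquiv.height_comap e p'.asIdeal
  constructor
  · intro h p hp
    let p' := PrimeSpectrum.comap e.symm.toRingHom p
    have h1 : PrimeSpectrum.comap (j.stalkMap a).hom p' = p := PrimeSpectrum.ext (by
      ext r
      show e.symm (e r) ∈ p.asIdeal ↔ _
      rw [e.symm_apply_apply])
    have h2 := h p' (by rw [← hht, h1]; exact hp)
    rwa [key, h1] at h2
  · intro h p' hp'
    rw [key]
    exact h _ (by rw [hht]; exact hp')

end field

variable {X Y : Scheme.{u}} (f : X ⟶ Y) [LocallyOfFinitePresentation f]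

instance lfp_fib (y : Y) : LocallyOfFinitePresentation (f.fiberToSpecResidueField y) :=
  MorphismProperty.pullback_snd (P := @LocallyOfFinitePresentation) _ _ inferInstance

/-- geometric (R_k), tested on finite extensions -/
abbrev GRkFin (n : ℕ) (y : Y) (w : ↥(f.fiber y)) : Prop :=
  ∀ (K : Type u) [Field K] [Algebra (IsLocalRing.ResidueField (Y.presheaf.stalk y)) K],
    Module.Finite (IsLocalRing.ResidueField (Y.presheaf.stalk y)) K →
    ∀ x' : ↥(FBase.bc (f.fiberToSpecResidueField y) K),
      (FBase.bcπ (f.fiberToSpecResidueField y) K).base x' = w →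
      LocCoh.HasRk n ((FBase.bc (f.fiberToSpecResidueField y) K).presheaf.stalk x')

/-- geometrically normal, tested on finite extensions -/
abbrev GNorFin (y : Y) (w : ↥(f.fiber y)) : Prop :=
  ∀ (K : Type u) [Field K] [Algebra (IsLocalRing.ResidueField (Y.presheaf.stalk y)) K],
    Module.Finite (IsLocalRing.ResidueField (Y.presheaf.stalk y)) K →
    ∀ x' : ↥(FBase.bc (f.fiberToSpecResidueField y) K),
      (FBase.bcπ (f.fiberToSpecResidueField y) K).base x' = w →
      IsDomain ((FBase.bc (f.fiberToSpecResidueField y) K).presheaf.stalk x') ∧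
        IsIntegrallyClosed ((FBase.bc (f.fiberToSpecResidueField y) K).presheaf.stalk x')

/-- the conditions of the fibre at one of its points -/
abbrev REN (n : ℕ) (y : Y) (w : ↥(f.fiber y)) : Prop :=
  GRkFin f n y w ∧ EGA4.IsEquidim ↑((f.fiber y).presheaf.stalk w) ∧
    (∀ p ∈ associatedPrimes ↑((f.fiber y).presheaf.stalk w) ↑((f.fiber y).presheaf.stalk w),
      p ∈ minimalPrimes ↑((f.fiber y).presheaf.stalk w))

theorem grkFin_iff (n : ℕ) (x : X) : GRkFin f n (f.base x) (f.asFiber x) ↔ ¬ Bad f n x :=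
  (GeomFinite.geomRk_finite_iff (k := IsLocalRing.ResidueField (Y.presheaf.stalk (f.base x)))
    (f.fiberToSpecResidueField (f.base x)) n (f.asFiber x)).trans
    ((GeomPointwise.geomRk_iff (k := IsLocalRing.ResidueField (Y.presheaf.stalk (f.base x)))
      (f.fiberToSpecResidueField (f.base x)) n (f.asFiber x)).symm.trans (GeomLocus.geomRk_iff f n x))

theorem smUp_iff (n : ℕ) (x : X) :
    SmUp (k := IsLocalRing.ResidueField (Y.presheaf.stalk (f.base x))) (f.fiberToSpecResidueField (f.base x)) n (f.asFiber x) ↔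
      ¬ Bad f n x :=
  (GeomPointwise.geomRk_iff (k := IsLocalRing.ResidueField (Y.presheaf.stalk (f.base x)))
      (f.fiberToSpecResidueField (f.base x)) n (f.asFiber x)).symm.trans (GeomLocus.geomRk_iff f n x)

theorem gnorFin_iff (x : X) : GNorFin f (f.base x) (f.asFiber x) ↔
    (¬ Bad f 1 x ∧ LocCoh.HasSk 2 ((f.fiber (f.base x)).presheaf.stalk (f.asFiber x))
      ((f.fiber (f.base x)).presheaf.stalk (f.asFiber x))) := by
  refine ⟨fun h => ⟨(grkFin_iff f 1 x).mp fun K _ _ hK x' hx' => ?_, ?_⟩,
    fun h K _ _ _ x' hx' => (GeomNormal.geomNormal_fibre_iff f x).mpr h K x' hx'⟩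
  · haveI := GeomPointwise.isNoetherianRing_stalk
      (FBase.bcStr (k := IsLocalRing.ResidueField (Y.presheaf.stalk (f.base x))) (f.fiberToSpecResidueField (f.base x)) K) x'
    exact ((GeomNormal.normal_iff _).mp (h K hK x' hx')).1
  · exact (GeomFinite.hasSk_two_of_normal (k := IsLocalRing.ResidueField (Y.presheaf.stalk (f.base x)))
      (f.fiberToSpecResidueField (f.base x)) (f.asFiber x) h).1

theorem geomReducedAt_iff (x : X) :
    FBase.IsGeomReducedAt (k := IsLocalRing.ResidueField (Y.presheaf.stalk (f.base x)))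
      (f.fiberToSpecResidueField (f.base x)) (f.asFiber x) ↔
    (¬ Bad f 0 x ∧ LocCoh.HasSk 1 ((f.fiber (f.base x)).presheaf.stalk (f.asFiber x))
      ((f.fiber (f.base x)).presheaf.stalk (f.asFiber x))) := by
  rw [← GeomLocus.geomRk_iff]
  exact GeomReducedLocus.geomReduced_iff (k := IsLocalRing.ResidueField (Y.presheaf.stalk (f.base x)))
    (f.fiberToSpecResidueField (f.base x)) _

theorem ren_iff (n : ℕ) (x : X) : REN f n (f.base x) (f.asFiber x) ↔
    (¬ Bad f n x ∧
      EGA4.IsEquidimModule ((f.fiber (f.base x)).presheaf.stalk (f.asFiber x))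
        ((fib f (Coh.structureModule X) (f.base x)).presheaf.stalk (f.asFiber x)) ∧
      LocCoh.HasSk 1 ((f.fiber (f.base x)).presheaf.stalk (f.asFiber x))
        ((fib f (Coh.structureModule X) (f.base x)).presheaf.stalk (f.asFiber x))) := by
  haveI := noeth f (f.base x) (f.asFiber x)
  obtain ⟨e⟩ := Unit.exists_stalk_equiv f (f.base x) (f.asFiber x)
  rw [← Unit.hasSk_iff f 1, ← isEquidim_iff _ _ e, ← ass_subset_iff_S1, ← grkFin_iff]

section flat

variable [AlgebraicGeometry.Flat f]

theorem isOpen_geomReduced : IsOpen {x : X | FBase.IsGeomReducedAt (k := IsLocalRing.ResidueField (Y.presheaf.stalk (f.base x)))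
    (f.fiberToSpecResidueField (f.base x)) (f.asFiber x)} :=
  (congrArg IsOpen (Set.ext fun x => geomReducedAt_iff f x)).mpr (GeomOpen.isOpen_good0 f)

theorem isOpen_geomNormal : IsOpen {x : X | GNorFin f (f.base x) (f.asFiber x)} := by
  refine (congrArg IsOpen (Set.ext fun x => ?_)).mpr (GeomOpen.isOpen_good f 1 2 one_le_two)
  refine ⟨fun h => ?_, fun h => (gnorFin_iff f x).mpr ⟨h.1, (Unit.hasSk_iff f 2 _ _).mpr h.2.2⟩⟩
  obtain ⟨e⟩ := Unit.exists_stalk_equiv f (f.base x) (f.asFiber x)
  haveI := (GeomFinite.hasSk_two_of_normal (k := IsLocalRing.ResidueField (Y.presheaf.stalk (f.base x)))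
      (f.fiberToSpecResidueField (f.base x)) (f.asFiber x) h).2
  exact ⟨((gnorFin_iff f x).mp h).1, (isEquidim_iff _ _ e).mp (isEquidim_of_isDomain _),
    (Unit.hasSk_iff f 2 _ _).mp ((gnorFin_iff f x).mp h).2⟩

theorem isOpen_ren (n : ℕ) : IsOpen {x : X | REN f n (f.base x) (f.asFiber x)} :=
  (congrArg IsOpen (Set.ext fun x => ren_iff f n x)).mpr (GeomOpen.isOpen_good f n 1 le_rfl)

theorem isOpen_smooth_fibre (hf : IsClosedMap f.base) :
    IsOpen {y : Y | Smooth (f.fiberToSpecResidueField y)} := by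
  refine (congrArg IsOpen (Set.ext fun y => ?_)).mpr (Proper.isOpen_forall hf f.smoothLocus.isOpen)
  have h0 := Fibre.fiber_forall f
    (P := fun y w => ((f.fiberToSpecResidueField y).stalkMap w).hom.FormallySmooth) y
  rw [Set.mem_setOf_eq, ← Scheme.Hom.smoothLocus_eq_top_iff, TopologicalSpace.Opens.ext_iff]
  constructor
  · intro h x hx
    exact (SmoothFibre.iff_of_flat f x).mp (h0.mp (fun w => h.ge trivial) x hx)
  · intro h
    exact Set.eq_univ_of_forall (h0.mpr fun x hx => (SmoothFibre.iff_of_flat f x).mpr (h x hx))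

end flat

end Groth.Agent.FibreDepth.GeomOpenStatements
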