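import Mathlib
import Groth.Agent.FibreDepth.GeomOpenStatements

/-! Openness of geometric fibre conditions on the flat locus. -/

set_option autoImplicit false
set_option backward.isDefEq.respectTransparency false
set_option linter.style.haveILetI false
universe u
open CategoryTheory CategoryTheory.Limits AlgebraicGeometry TopologicalSpace Topology IsLocalRing

namespace Groth.Agent.FibreDepth.GeomOpenFlatLocus
open Gen Fibre GeomLocus GeomOpenStatements

variable {X Y : Scheme.{u}} (f : X ⟶ Y) [LocallyOfFinitePresentation f]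

theorem exists_fibreMap {U : Scheme.{u}} (j : U ⟶ X) [IsOpenImmersion j] (w : U) :
    ∃ jt : (j ≫ f).fiber (f (j w)) ⟶ f.fiber (f (j w)), IsOpenImmersion jt ∧
      jt ((j ≫ f).asFiber w) = f.asFiber (j w) ∧
      jt ≫ f.fiberToSpecResidueField (f (j w)) = (j ≫ f).fiberToSpecResidueField (f (j w)) := by
  let t := f (j w)
  let jt := MoreMor.fiberMap j f t
  haveI : IsOpenImmersion jt := MorphismProperty.of_isPullback (Flat.FibreAt.isPullback_fiberMap j f t) inferInstance
  refine ⟨jt, inferInstance, ?_, pullback.lift_snd _ _ _⟩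
  refine (f.fiberι t).isEmbedding.injective ?_
  rw [Scheme.Hom.fiberι_asFiber]
  show (jt ≫ f.fiberι t) ((j ≫ f).asFiber w) = _
  rw [show jt ≫ f.fiberι t = (j ≫ f).fiberι t ≫ j from pullback.lift_fst _ _ _]
  exact congrArg j ((j ≫ f).fiberι_asFiber w)

theorem bad_comp_iff {U : Scheme.{u}} (j : U ⟶ X) [IsOpenImmersion j] (n : ℕ) (w : U) :
    ¬ Bad (j ≫ f) n w ↔ ¬ Bad f n (j w) := by
  obtain ⟨jt, _, ha, hg⟩ := exists_fibreMap f j w
  refine ((smUp_iff (j ≫ f) n w).symm.trans ?_).trans (smUp_iff f n (j w))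
  rw [← ha]
  haveI : LocallyOfFinitePresentation ((j ≫ f).fiberToSpecResidueField (f (j w))) := lfp_fib (j ≫ f) _
  exact smUp_openImm (k := IsLocalRing.ResidueField (Y.presheaf.stalk (f (j w)))) jt
    (f.fiberToSpecResidueField (f (j w))) ((j ≫ f).fiberToSpecResidueField (f (j w))) hg n ((j ≫ f).asFiber w)

variable (P : ∀ {U : Scheme.{u}} (g : U ⟶ Y), U → Prop)

theorem isOpen_of_flat
    (hopen : ∀ {U : Scheme.{u}} (g : U ⟶ Y) [LocallyOfFinitePresentation g] [AlgebraicGeometry.Flat g],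
      IsOpen {w : U | P g w})
    (hloc : ∀ {U : Scheme.{u}} (j : U ⟶ X) [IsOpenImmersion j] (w : U), P (j ≫ f) w ↔ P f (j w)) :
    IsOpen {x : X | (f.stalkMap x).hom.Flat ∧ P f x} := by
  let O : X.Opens := ⟨_, Flat.FibreAt.isOpen_flat_stalkMap f⟩
  let g := O.ι ≫ f
  haveI : AlgebraicGeometry.Flat g := AlgebraicGeometry.Flat.of_stalkMap _ fun z =>
    (Flat.FibreAt.flat_stalkMap_comp_iff O.ι f z).mpr z.2
  refine (congrArg IsOpen ?_).mpr (O.ι.isOpenEmbedding.isOpenMap _ (hopen g))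
  ext x
  constructor
  · rintro ⟨hx, hs⟩
    exact ⟨⟨x, hx⟩, (hloc O.ι ⟨x, hx⟩).mpr hs, rfl⟩
  · rintro ⟨w, hw, rfl⟩
    exact ⟨w.2, (hloc O.ι w).mp hw⟩

omit P in
theorem isOpen_flat_geomReduced :
    IsOpen {x : X | (f.stalkMap x).hom.Flat ∧
      FBase.IsGeomReducedAt (k := IsLocalRing.ResidueField (Y.presheaf.stalk (f.base x)))
        (f.fiberToSpecResidueField (f.base x)) (f.asFiber x)} :=
  isOpen_of_flat f (fun {U} g w => FBase.IsGeomReducedAt (k := IsLocalRing.ResidueField (Y.presheaf.stalk (g.base w)))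
      (g.fiberToSpecResidueField (g.base w)) (g.asFiber w))
    (fun g _ _ => GeomOpenStatements.isOpen_geomReduced g) fun j _ w =>
    (geomReducedAt_iff (j ≫ f) w).trans ((and_congr (bad_comp_iff f j 0 w)
      (FlatLocus.fibre_hasSk_iff f j w 1)).trans (geomReducedAt_iff f (j w)).symm)

omit P in
theorem isOpen_flat_geomNormal :
    IsOpen {x : X | (f.stalkMap x).hom.Flat ∧ GNorFin f (f.base x) (f.asFiber x)} :=
  isOpen_of_flat f (fun {U} g w => GNorFin g (g.base w) (g.asFiber w))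
    (fun g _ _ => GeomOpenStatements.isOpen_geomNormal g) fun j _ w =>
    (gnorFin_iff (j ≫ f) w).trans ((and_congr (bad_comp_iff f j 1 w)
      (FlatLocus.fibre_hasSk_iff f j w 2)).trans (gnorFin_iff f (j w)).symm)

omit P in
theorem isOpen_flat_codepth (n : ℕ) :
    IsOpen {x : X | (f.stalkMap x).hom.Flat ∧
      ringKrullDim ((f.fiber (f.base x)).presheaf.stalk (f.asFiber x)) ≤
        ((LocCoh.depth ((f.fiber (f.base x)).presheaf.stalk (f.asFiber x)) ((f.fiber (f.base x)).presheaf.stalk (f.asFiber x)) : ℕ∞) : WithBot ℕ∞) + n} :=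
  isOpen_of_flat f (fun {U} g w => ringKrullDim ((g.fiber (g.base w)).presheaf.stalk (g.asFiber w)) ≤
      ((LocCoh.depth ((g.fiber (g.base w)).presheaf.stalk (g.asFiber w)) ((g.fiber (g.base w)).presheaf.stalk (g.asFiber w)) : ℕ∞) : WithBot ℕ∞) + n)
    (fun {U} g _ _ => (congrArg IsOpen (Set.ext fun w => by
        obtain ⟨e⟩ := Unit.exists_stalk_equiv g (g.base w) (g.asFiber w)
        rw [Set.mem_setOf_eq, ← Module.supportDim_self_eq_ringKrullDim, ← Module.supportDim_eq_of_equiv e,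
          show LocCoh.depth _ _ = LocCoh.depth _ _ from (IdealDepth.congr _ e).symm]
        rfl)).mpr (Main.isOpen_codepth g (Coh.structureModule U) (Unit.isFP_unit U)
          (fun z => Unit.flatAt_unit g z (AlgebraicGeometry.Flat.stalkMap g z)) n))
    fun j _ w => by
      obtain ⟨jt, _, ha, -⟩ := exists_fibreMap f j w
      simp only
      rw [← ha]
      let e := (asIso (jt.stalkMap ((j ≫ f).asFiber w))).commRingCatIsoToRingEquiv
      exact iff_of_eq (congrArg₂ (fun (a : WithBot ℕ∞) (b : ℕ∞) => a ≤ (b : WithBot ℕ∞) + n)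
        (ringKrullDim_eq_of_ringEquiv e).symm (Segre.CM.depth_congr e).symm)

end Groth.Agent.FibreDepth.GeomOpenFlatLocus
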