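import Mathlib
import Groth.Agent.FibreDepth.DepthFlat
import Groth.Agent.FibreDepth.FlatFibreDepth
import Groth.Agent.IdealDepth.CM

/-! Regular sequences on the closed fibre lift along flat local maps. -/

set_option autoImplicit false
set_option backward.isDefEq.respectTransparency false
set_option linter.style.haveILetI false
universe u
open IsLocalRing RingTheory.Sequence
open scoped TensorProduct

namespace Groth.Agent.FibreDepth.LiftSeq

variable {R S : Type u} [CommRing R] [CommRing S] [Algebra R S] [IsLocalRing R] [IsLocalRing S]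
  [IsNoetherianRing R] [IsNoetherianRing S] [IsLocalHom (algebraMap R S)]

theorem weaklyRegular : ∀ (rs : List S) (N : Type u) [AddCommGroup N] [Module S N] [Module R N]
    [IsScalarTower R S N] [Module.Finite S N] [Module.Flat R N],
    IsWeaklyRegular (N ⊗[R] (R ⧸ maximalIdeal R)) rs → IsWeaklyRegular N rs
  | [], N, _, _, _, _, _, _, _ => IsWeaklyRegular.nil S N
  | y :: rs, N, _, _, _, _, _, _, h => by
    rw [isWeaklyRegular_cons_iff] at h ⊢
    let e : N ⊗[R] R ≃ₗ[S] N := TensorProduct.AlgebraTensorModule.rid R S N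
    have hy : IsSMulRegular N y := (e.isSMulRegular_congr y).mp (DepthFlat.regular h.1 R)
    haveI : Module.Flat R (QuotSMulTop y N) := DepthFlat.flat_quotient h.1
    obtain ⟨e'⟩ := DepthFlat.quotient_tensor_left (R := R) (M := R ⧸ maximalIdeal R) N y
    exact ⟨hy, weaklyRegular rs (QuotSMulTop y N) ((e'.isWeaklyRegular_congr rs).mp h.2)⟩

theorem idealDepth_ge [Module.Flat R S]
    (hCM : LocCoh.IsCohenMacaulayLocalRing (S ⧸ (maximalIdeal R).map (algebraMap R S))) (I : Ideal S) (hI : I ≠ ⊤) :
    ringKrullDim (S ⧸ (maximalIdeal R).map (algebraMap R S)) ≤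
      ringKrullDim (S ⧸ ((maximalIdeal R).map (algebraMap R S) ⊔ I)) + ((LocCoh.idealDepth I S : ℕ∞) : WithBot ℕ∞) := by
  let J := (maximalIdeal R).map (algebraMap R S)
  let F := S ⧸ J
  haveI := hCM
  let Ib : Ideal F := I.map (Ideal.Quotient.mk J)
  have hJ : J ≤ maximalIdeal S := ((local_hom_TFAE (algebraMap R S)).out 0 2).mp ‹IsLocalHom (algebraMap R S)›
  have hIb : Ib ≠ ⊤ := fun h => by
    have h1 := congrArg (Ideal.comap (Ideal.Quotient.mk J)) h
    rw [Ideal.comap_map_of_surjective' _ Ideal.Quotient.mk_surjective, Ideal.comap_top, Ideal.mk_ker] at h1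
    exact (maximalIdeal.isMaximal S).ne_top
      (top_le_iff.mp (h1.ge.trans (sup_le (IsLocalRing.le_maximalIdeal hI) hJ)))
  have hF : LocCoh.IsCohenMacaulayModule F F := hCM.supportDim_eq_depth
  have h1 := IdealDepth.supportDim_eq_add Ib hIb hF
  rw [Module.supportDim_self_eq_ringKrullDim] at h1
  rw [h1]
  refine add_le_add (le_of_eq ?_) (WithBot.coe_le_coe.mpr ?_)
  · rw [Ideal.smul_eq_mul, Ideal.mul_top, Module.supportDim_quotient_eq_ringKrullDim]
    exact ringKrullDim_eq_of_ringEquiv (DoubleQuot.quotQuotEquivQuotSup J I)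
  · refine ENat.forall_natCast_le_iff_le.1 fun n hn => ?_
    obtain ⟨rs, ⟨hrs, hmem⟩, rfl⟩ := IdealDepth.natCast_le_iff_exists.mp hn
    have hlift : ∀ r ∈ rs, ∃ s ∈ I, Ideal.Quotient.mk J s = r := fun r hr => by
      obtain ⟨s, hs, h⟩ := (Ideal.mem_map_iff_of_surjective _ Ideal.Quotient.mk_surjective).mp (hmem r hr)
      exact ⟨s, hs, h⟩
    choose s hsI hs using hlift
    let ss : List S := rs.attach.map fun r => s r.1 r.2
    have hss : ss.map (algebraMap S F) = rs := by
      rw [List.map_map]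
      exact (List.map_congr_left fun r _ => hs r.1 r.2).trans rs.attach_map_subtype_val
    have hreg : IsWeaklyRegular F ss := by
      rw [← isWeaklyRegular_map_algebraMap_iff F F ss, hss]; exact hrs
    obtain ⟨e⟩ := DepthFlat.exists_fibreEquiv (R := R) (S := S) S
    let e₂ : (S ⧸ J • (⊤ : Submodule S S)) ≃ₗ[S] F :=
      Submodule.quotEquivOfEq _ _ (by rw [Ideal.smul_eq_mul, Ideal.mul_top])
    have hS : IsWeaklyRegular S ss := weaklyRegular ss S (((e.trans e₂).isWeaklyRegular_congr ss).mpr hreg)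
    have := IdealDepth.len_le (I := I) (M := S) ⟨hS, fun r hr => by
      obtain ⟨a, -, rfl⟩ := List.mem_map.mp hr
      exact hsI a.1 a.2⟩
    simpa [ss] using this

end Groth.Agent.FibreDepth.LiftSeq
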