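import Mathlib
import Groth.Agent.FibreDepth.ConstrStatements
import Groth.Agent.FibreDepth.FibreStalk
import Groth.Agent.CMFlat.Locus

/-! The Cohen-Macaulay locus of an algebra of finite type over a field. -/

set_option autoImplicit false
set_option backward.isDefEq.respectTransparency false
universe u
open CategoryTheory AlgebraicGeometry TopologicalSpace Topology

namespace Groth.Agent.FibreDepth.OverField

variable {K : Type u} [Field K]

theorem exists_fibre_ringEquiv {X : Scheme.{u}} (f : X ⟶ Spec (CommRingCat.of K)) (x : X) :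
    Nonempty (X.presheaf.stalk x ≃+* (f.fiber (f.base x)).presheaf.stalk (f.asFiber x)) := by
  have hx : f.fiberι (f.base x) (f.asFiber x) = x := f.fiberι_asFiber x
  let ψ := ((f.fiberι (f.base x)).stalkMap (f.asFiber x)).hom
  have hinj : Function.Injective ψ := by
    rw [RingHom.injective_iff_ker_eq_bot, FibreStalk.ker_eq f _ (f.asFiber x), FibreStalk.idl,
      Ideal.map_eq_bot_iff_le_ker]
    intro a ha
    rw [RingHom.mem_ker, FibreStalk.stalk_map_eq_zero _ ha, map_zero]
  exact ⟨((X.presheaf.stalkCongr (Inseparable.of_eq hx.symm)).commRingCatIsoToRingEquiv).trans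
    (RingEquiv.ofBijective ψ ⟨hinj, FibreStalk.surjective f _ _⟩)⟩

theorem isOpen_cm (S : Type u) [CommRing S] [Algebra K S] [Algebra.FiniteType K S] :
    IsOpen {q : PrimeSpectrum S | LocCoh.IsCohenMacaulayLocalRing (Localization.AtPrime q.asIdeal)} := by
  haveI : Algebra.FinitePresentation K S := Algebra.FinitePresentation.of_finiteType.mp inferInstance
  let f : Spec (CommRingCat.of S) ⟶ Spec (CommRingCat.of K) := Spec.map (CommRingCat.ofHom (algebraMap K S))
  haveI : LocallyOfFinitePresentation f :=
    (HasRingHomProperty.Spec_iff (P := @LocallyOfFinitePresentation)).mpr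
      (RingHom.finitePresentation_algebraMap.mpr ‹_›)
  haveI : AlgebraicGeometry.Flat f :=
    (HasRingHomProperty.Spec_iff (P := @AlgebraicGeometry.Flat)).mpr
      (RingHom.flat_algebraMap_iff.mpr inferInstance)
  refine (congrArg IsOpen ?_).mpr (CMFlat.Locus.isOpen_cm f)
  ext q
  obtain ⟨e⟩ := exists_fibre_ringEquiv f q
  let e' : Localization.AtPrime q.asIdeal ≃+* (Spec (CommRingCat.of S)).presheaf.stalk q :=
    (IsLocalization.algEquiv q.asIdeal.primeCompl (Localization.AtPrime q.asIdeal)
      ((Spec.structureSheaf S).presheaf.stalk q)).toRingEquiv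
  constructor
  · intro h
    exact ⟨AlgebraicGeometry.Flat.stalkMap f q, @Segre.CM.cmLocal_congr _ _ _ _ (e'.trans e) h⟩
  · rintro ⟨-, h⟩
    exact @Segre.CM.cmLocal_congr _ _ _ _ (e'.trans e).symm h

end Groth.Agent.FibreDepth.OverField
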