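import Mathlib
import Groth.Prelude.Def_MoreMor
import Groth.Agent.FibreDepth.ConstrStatements
import Groth.Agent.FibreDepth.DenseLocus

/-! The fibres all of whose associated points lie in a given open. -/

set_option autoImplicit false
set_option backward.isDefEq.respectTransparency false
set_option linter.style.haveILetI false
noncomputable section
universe u
open CategoryTheory CategoryTheory.Limits AlgebraicGeometry TopologicalSpace Topology IsLocalRing
open scoped TensorProduct

namespace Groth.Agent.FibreDepth.RelAssLocus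
open Gen Fibre Constr GeomLocus DenseLocus

theorem isAssociated_iff {A O M : Type u} [CommRing A] [IsLocalRing A] [CommRing O] [IsLocalRing O] [Algebra A O]
    [AddCommGroup M] [Module A M] (hs : Function.Surjective (algebraMap A O)) (J : Ideal A)
    (hJ : RingHom.ker (algebraMap A O) = J) :
    IsAssociatedPrime (maximalIdeal A) (M ⧸ (J • ⊤ : Submodule A M)) ↔
      IsAssociatedPrime (maximalIdeal O) (O ⊗[A] M) := by
  subst hJ
  let J := RingHom.ker (algebraMap A O)
  let e0 : (A ⧸ J) ≃ₐ[A] O := Ideal.quotientKerAlgEquivOfSurjective (f := Algebra.ofId A O) hs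
  let e : (M ⧸ (J • ⊤ : Submodule A M)) ≃ₗ[A] O ⊗[A] M :=
    (TensorProduct.quotTensorEquivQuotSMul M J).symm.trans
      (TensorProduct.congr e0.toLinearEquiv (LinearEquiv.refl A M))
  rw [e.isAssociatedPrime_iff]
  have hm : (maximalIdeal O).comap (algebraMap A O) = maximalIdeal A :=
    IsLocalRing.eq_maximalIdeal (Ideal.comap_isMaximal_of_surjective _ hs)
  have hc : ∀ v : O ⊗[A] M, (Submodule.colon (⊥ : Submodule A (O ⊗[A] M)) {v}).radical =
      ((Submodule.colon (⊥ : Submodule O (O ⊗[A] M)) {v}).radical).comap (algebraMap A O) := fun v => by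
    rw [Ideal.comap_radical]
    congr 1
    ext a
    simp [Submodule.mem_colon_singleton, algebraMap_smul]
  constructor
  · rintro ⟨-, v, hv⟩
    refine ⟨inferInstance, v, Ideal.comap_injective_of_surjective _ hs ?_⟩
    rw [hm, ← hc]
    exact hv
  · rintro ⟨-, v, hv⟩
    refine ⟨inferInstance, v, ?_⟩
    rw [hc, ← hv, hm]

variable {X Y : Scheme.{u}} (f : X ⟶ Y) [LocallyOfFinitePresentation f] {F : X.Modules} (hF : CohB1.IsFP F)
include hF

theorem relAss_iff (y : Y) (z : ↥(f.fiber y)) :
    f.fiberι y z ∈ MoreMor.relAss f F ↔ z ∈ AssSch.Ass (fib f F y) := by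
  letI := ((f.fiberι y).stalkMap z).hom.toAlgebra
  obtain ⟨e, -⟩ := ModStalk.exists_pullStalk_equiv (f.fiberι y) F z
  refine (isAssociated_iff (M := F.presheaf.stalk (f.fiberι y z)) (FibreStalk.surjective f y z) _ (FibreStalk.ker_eq f y z)).trans ?_
  exact (e.isAssociatedPrime_iff).symm

theorem relAss_iff_dp (x : X) : x ∈ MoreMor.relAss f F ↔ dp f F x = 0 := by
  rw [← Statements.ass_iff f F hF x, ← relAss_iff f hF, Scheme.Hom.fiberι_asFiber]

/-- the points with an associated generization in the fibre, in a given set -/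
theorem lc_assInFamily (Z : ℕ → Set X) (hZ : ∀ i, IsLocallyConstructible (Z i)) :
    IsLocallyConstructible {x : X | ∃ i, x ∈ E f (Loci.T f F i ∩ Z i) i} := by
  have hZi : ∀ i, IsLocallyConstructible (Loci.T f F i ∩ Z i) := fun i =>
    (ConstrStatements.lc_compl (lc_rdepth (f := f) hF (i + 1))).inter (hZ i)
  refine Constr.isLC (f := f) (Unit.isFP_unit X) _ fun A _ m M _ _ _ V φ hc =>
    ⟨⋃ i ∈ Set.Iic m, Sets.E A (φ '' ((fun w : ↥(V : Scheme.{u}) => w.1) ⁻¹' (Loci.T f F i ∩ Z i))) i,
      IsConstructible.biUnion (Set.finite_Iic m) fun i _ => EClosure.isConstructible_E (hc.constr_image _ (hZi i)) i,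
      fun w => ?_⟩
  simp only [Set.mem_setOf_eq, Set.mem_iUnion, exists_prop, Set.mem_Iic]
  constructor
  · rintro ⟨i, hi⟩
    have h := (mem_E_iff' f hc (mem_image_iff f hc _) (Set.image_subset_range _ _) i w).mp hi
    exact ⟨i, by simpa using Families.le_card_of_mem_E h, h⟩
  · rintro ⟨i, -, h⟩
    exact ⟨i, (mem_E_iff' f hc (mem_image_iff f hc _) (Set.image_subset_range _ _) i w).mpr h⟩

theorem lc_assIn (Z : Set X) (hZ : IsLocallyConstructible Z) :
    IsLocallyConstructible {x : X | ∃ i, x ∈ E f (Loci.T f F i ∩ Z) i} := lc_assInFamily f hF (fun _ => Z) fun _ => hZ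

theorem lc_relAssSubset [QuasiCompact f] [QuasiSeparated f] (U : X.Opens) [QuasiCompact (U.ι ≫ f)] :
    IsLocallyConstructible {y : Y | ∀ x ∈ MoreMor.relAss f F, f x = y → x ∈ U} := by
  haveI : QuasiCompact U.ι := QuasiCompact.of_comp U.ι f
  have hU : IsLocallyConstructible (U : Set X) := by
    have := U.ι.isLocallyConstructible_image (lc_univ (X := (U : Scheme.{u})))
    rwa [Set.image_univ, Scheme.Opens.range_ι] at this
  refine (congrArg IsLocallyConstructible (Set.ext fun y => ?_)).mpr
    (ConstrStatements.lc_compl (f.isLocallyConstructible_image (lc_assIn f hF _ (ConstrStatements.lc_compl hU))))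
  rw [Set.mem_compl_iff, Set.mem_setOf_eq]
  constructor
  · rintro h ⟨x, ⟨i, z, ⟨hT, hzU⟩, hzf, -, hi⟩, hxy⟩
    exact hzU (h z ((relAss_iff_dp f hF z).mpr ((Loci.mem_T_of_le i z hi).mp hT).1) (hzf.trans hxy))
  · intro h x hx hxy
    by_contra hxU
    obtain ⟨i, hi⟩ := exists_cd f x
    exact h ⟨x, ⟨i, x, ⟨(Loci.mem_T_of_le i x hi.ge).mpr ⟨(relAss_iff_dp f hF x).mp hx, hi⟩, hxU⟩, rfl,
      specializes_rfl, hi.ge⟩, hxy⟩

end Groth.Agent.FibreDepth.RelAssLocus
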