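import Mathlib
import Groth.Agent.FibreDepth.FibreMaps
import Groth.Agent.FibreDepth.ClosedLocus

/-! Separatedness of the maps of fibres. -/

set_option autoImplicit false
set_option backward.isDefEq.respectTransparency false
set_option linter.style.haveILetI false
universe u
open CategoryTheory CategoryTheory.Limits AlgebraicGeometry TopologicalSpace Topology

namespace Groth.Agent.FibreDepth.SeparatedLocus
open DenseLocus FibreMaps

variable {X Y S : Scheme.{u}} (h : X ⟶ Y) (g : Y ⟶ S)

/-- the fibre of the self fibre product is the self fibre product of the fibre -/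
theorem exists_square (s : S) : ∃ m : pullback (fs h g s) (fs h g s) ⟶ pullback h h, IsPreimmersion m ∧
    pullback.diagonal (fs h g s) ≫ m = (h ≫ g).fiberι s ≫ pullback.diagonal h ∧
    Set.range m.base = (pullback.fst h h ≫ h ≫ g).base ⁻¹' {s} := by
  have sq := isPullback_fs h g s
  let q := fs h g s
  let ι := (h ≫ g).fiberι s
  have hw : (pullback.fst q q ≫ ι) ≫ h = (pullback.snd q q ≫ ι) ≫ h := by
    rw [Category.assoc, Category.assoc, sq.w, ← Category.assoc, ← Category.assoc, pullback.condition]
  let m : pullback q q ⟶ pullback h h := pullback.lift (pullback.fst q q ≫ ι) (pullback.snd q q ≫ ι) hw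
  have h1 : IsPullback (pullback.snd q q ≫ ι) (pullback.fst q q) h (q ≫ g.fiberι s) :=
    (IsPullback.of_hasPullback q q).flip.paste_horiz sq
  have h1' : IsPullback (pullback.snd q q ≫ ι) (pullback.fst q q) h (ι ≫ h) := by
    rw [show ι ≫ h = q ≫ g.fiberι s from sq.w]; exact h1
  have h2 : IsPullback m (pullback.fst q q) (pullback.fst h h) ι := by
    refine IsPullback.of_right ?_ (pullback.lift_fst _ _ _) (IsPullback.of_hasPullback h h).flip
    rw [show m ≫ pullback.snd h h = pullback.snd q q ≫ ι from pullback.lift_snd _ _ _]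
    exact h1'
  refine ⟨m, MorphismProperty.of_isPullback (P := @IsPreimmersion) h2.flip inferInstance, ?_, ?_⟩
  · apply pullback.hom_ext <;> simp [m, q, ι, pullback.lift_fst, pullback.lift_snd]
  · ext p
    constructor
    · rintro ⟨t, rfl⟩
      have e : (pullback.fst h h).base (m t) = ι ((pullback.fst q q).base t) := congrArg (fun φ : _ ⟶ X => φ t) h2.w
      show (h ≫ g).base ((pullback.fst h h).base (m t)) = s
      rw [e]
      exact ((h ≫ g).range_fiberι s).subset ⟨_, rfl⟩
    · intro hp
      obtain ⟨v, hv⟩ : (pullback.fst h h).base p ∈ Set.range ι := by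
        show _ ∈ Set.range ((h ≫ g).fiberι s)
        rw [(h ≫ g).range_fiberι]
        exact hp
      obtain ⟨t, ht, -⟩ := Scheme.Pullback.exists_preimage_pullback (f := pullback.fst h h) (g := ι) p v hv.symm
      refine ⟨h2.isoPullback.inv t, ?_⟩
      rw [← Scheme.Hom.comp_apply, IsPullback.isoPullback_inv_fst]
      exact ht

theorem isSeparated_fs_iff (s : S) : IsSeparated (fs h g s) ↔
    IsClosed (Subtype.val ⁻¹' Set.range (pullback.diagonal h).base : Set ↥((pullback.fst h h ≫ h ≫ g).base ⁻¹' {s})) := by
  obtain ⟨m, hm, hdiag, hrange⟩ := exists_square h g s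
  have hsep : IsSeparated (fs h g s) ↔ IsClosed (Set.range (pullback.diagonal (fs h g s)).base) :=
    ⟨fun _ => (pullback.diagonal (fs h g s)).isClosedEmbedding.isClosed_range,
      fun hc => ⟨IsClosedImmersion.of_isPreimmersion _ hc⟩⟩
  have hpre : m.base ⁻¹' Set.range (pullback.diagonal h).base = Set.range (pullback.diagonal (fs h g s)).base := by
    ext t
    constructor
    · rintro ⟨x, hx⟩
      have hxs : (h ≫ g).base x = s := by
        have e : (pullback.fst h h ≫ h ≫ g).base (m t) = s := hrange.subset ⟨t, rfl⟩
        rw [← hx, ← Scheme.Hom.comp_apply, pullback.diagonal_fst_assoc] at e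
        exact e
      obtain ⟨v, rfl⟩ : x ∈ Set.range ((h ≫ g).fiberι s) := by rw [(h ≫ g).range_fiberι]; exact hxs
      exact ⟨v, m.isEmbedding.injective ((congrArg (fun φ : _ ⟶ pullback h h => φ v) hdiag).trans hx)⟩
    · rintro ⟨v, rfl⟩
      exact ⟨(h ≫ g).fiberι s v, (congrArg (fun φ : _ ⟶ pullback h h => φ v) hdiag).symm⟩
  let e : ↥(pullback (fs h g s) (fs h g s)) ≃ₜ ↥((pullback.fst h h ≫ h ≫ g).base ⁻¹' {s}) :=
    m.isEmbedding.toHomeomorph.trans (Homeomorph.setCongr hrange)
  rw [hsep, ← hpre, ← e.isClosed_preimage]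
  exact Iff.rfl

variable [LocallyOfFinitePresentation g] [QuasiSeparated g]
  [LocallyOfFinitePresentation (h ≫ g)] [QuasiCompact (h ≫ g)] [QuasiSeparated (h ≫ g)]

theorem lc_isSeparated : IsLocallyConstructible {s : S | IsSeparated (fs h g s)} := by
  haveI : LocallyOfFinitePresentation h := Mor.Cancel.locallyOfFinitePresentation_of_comp h g
  haveI : QuasiCompact h := QuasiCompact.of_comp h g
  haveI : QuasiSeparated h := QuasiSeparated.of_comp h g
  haveI : LocallyOfFinitePresentation (pullback.diagonal h ≫ pullback.fst h h) := by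
    rw [pullback.diagonal_fst]; infer_instance
  haveI : LocallyOfFinitePresentation (pullback.diagonal h) :=
    Mor.Cancel.locallyOfFinitePresentation_of_comp (pullback.diagonal h) (pullback.fst h h)
  haveI : QuasiCompact (pullback.diagonal h) := QuasiSeparated.quasiCompact_diagonal
  have hr : IsLocallyConstructible (Set.range (pullback.diagonal h).base) := by
    rw [← Set.image_univ]
    exact (pullback.diagonal h).isLocallyConstructible_image lc_univ
  exact (congrArg IsLocallyConstructible (Set.ext fun s => isSeparated_fs_iff h g s)).mpr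
    (ClosedLocus.lc_isClosed (pullback.fst h h ≫ h ≫ g) hr)

end Groth.Agent.FibreDepth.SeparatedLocus
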