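import Mathlib
import Groth.Agent.FibreDepth.RelAssLocus

/-! Torsion and torsion-free fibres over locally integral fibres. -/

set_option autoImplicit false
set_option backward.isDefEq.respectTransparency false
set_option linter.style.haveILetI false
noncomputable section
universe u
open CategoryTheory CategoryTheory.Limits AlgebraicGeometry TopologicalSpace Topology IsLocalRing
open scoped TensorProduct

namespace Groth.Agent.FibreDepth.TorsionLocus
open Gen Fibre

variable {X S : Scheme.{u}} (f : X ⟶ S) [LocallyOfFinitePresentation f] {F : X.Modules} (hF : CohB1.IsFP F)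
  (hint : ∀ (s : S) (x : ↥(f.fiber s)), IsDomain ((f.fiber s).presheaf.stalk x))

theorem dp_iff (G : X.Modules) (s : S) (v : ↥(f.fiber s)) :
    dpS (fib f G s) v = 0 ↔ dp f G (f.fiberι s v) = 0 :=
  fiber_iff f (P := fun y v => dpS (fib f G y) v = 0) s v

include hint in
/-- generic point of the local ring of the fibre -/
theorem generic (s : S) (x : ↥(f.fiber s)) :
    haveI := hint s x
    dp f (Coh.structureModule X) (f.fiberι s (gen x ⟨⊥, Ideal.isPrime_bot⟩)) = 0 := by
  haveI := hint s x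
  have hO := Unit.isFP_unit X
  rw [← dp_iff]
  refine Loci.dp_eq_zero_of_minSupp hO s _ ⟨?_, fun v hv _ => ?_⟩
  · obtain ⟨e⟩ := Unit.exists_stalk_equiv f s (gen x ⟨⊥, Ideal.isPrime_bot⟩)
    exact e.toEquiv.nontrivial
  · obtain ⟨q, rfl⟩ := (range_gen x v).mpr (hv.trans (gen_specializes x _))
    exact congrArg (gen x) (le_antisymm ((gen_le_iff x q _).mpr hv) (show (⊥ : Ideal _) ≤ q.asIdeal from bot_le))

include hint in
theorem gen_bot_eq (s : S) (x : ↥(f.fiber s)) (h0 : dp f (Coh.structureModule X) (f.fiberι s x) = 0) :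
    haveI := hint s x
    gen x ⟨⊥, Ideal.isPrime_bot⟩ = x := by
  haveI := hint s x
  have hO := Unit.isFP_unit X
  have h := (Loci.mem_ass_iff hO s x).mpr ((dp_iff f _ s x).mpr h0)
  obtain ⟨e⟩ := Unit.exists_stalk_equiv f s x
  obtain ⟨-, v, hv⟩ := (e.isAssociatedPrime_iff (I := maximalIdeal _)).mp h
  have hne : v ≠ 0 := fun hv0 => (maximalIdeal.isMaximal ((f.fiber s).presheaf.stalk x)).ne_top (by
    rw [hv, hv0]; simp)
  have hm : maximalIdeal ((f.fiber s).presheaf.stalk x) = ⊥ := eq_bot_iff.mpr fun a ha => by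
    rw [hv, Ideal.mem_radical_iff] at ha
    obtain ⟨n, hn⟩ := ha
    rw [Submodule.mem_colon_singleton, Submodule.mem_bot, smul_eq_mul] at hn
    exact Ideal.mem_bot.mpr (pow_eq_zero_iff'.mp ((mul_eq_zero.mp hn).resolve_right hne)).1
  conv_rhs => rw [← Loci.gen_closedPoint hO s x]
  exact congrArg (gen x) (PrimeSpectrum.ext hm.symm)

include hF hint in
theorem torsion_top_iff (s : S) :
    (∀ x : ↥(f.fiber s), Submodule.torsion ((f.fiber s).presheaf.stalk x) ((fib f F s).presheaf.stalk x) = ⊤) ↔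
      s ∉ f.base '' {x | ∃ i, x ∈ E f (Loci.T f (Coh.structureModule X) i ∩ {z | dp f F z ≠ ⊤}) i} := by
  haveI := qcoh_fib f hF s
  have key : ∀ x : ↥(f.fiber s), haveI := hint s x
      (Submodule.torsion ((f.fiber s).presheaf.stalk x) ((fib f F s).presheaf.stalk x) = ⊤ ↔
        Subsingleton ((fib f F s).presheaf.stalk (gen x ⟨⊥, Ideal.isPrime_bot⟩))) := fun x => by
    haveI := hint s x
    rw [← not_nontrivial_iff_subsingleton, ← (Loci.fibre_invariants hF s x _).2.2, Module.notMem_support_iff']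
    constructor
    · intro h v
      obtain ⟨a, ha⟩ := (Submodule.mem_torsion_iff v).mp (h.ge Submodule.mem_top)
      exact ⟨a, fun hm => nonZeroDivisors.ne_zero a.2 (Ideal.mem_bot.mp hm), ha⟩
    · intro h
      refine eq_top_iff.mpr fun v _ => ?_
      obtain ⟨a, ha, hav⟩ := h v
      exact (Submodule.mem_torsion_iff v).mpr ⟨⟨a, mem_nonZeroDivisors_of_ne_zero fun h0 => ha (Ideal.mem_bot.mpr h0)⟩, hav⟩
  have hdp : ∀ v : ↥(f.fiber s), dp f F (f.fiberι s v) ≠ ⊤ ↔ Nontrivial ((fib f F s).presheaf.stalk v) := fun v => by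
    rw [← not_subsingleton_iff_nontrivial, Ne, ← fiber_iff f (P := fun y v => dpS (fib f F y) v = ⊤) s v]
    refine not_congr ⟨fun h => ?_, Loci.dp_eq_top _ v⟩
    by_contra hn
    haveI := Fibre.noeth f s v
    haveI := finite_fib f hF s v
    haveI := not_subsingleton_iff_nontrivial.mp hn
    exact IdealDepth.idealDepth_ne_top (maximalIdeal.isMaximal _).ne_top h
  constructor
  · rintro hall ⟨x, ⟨i, z, ⟨hT, hz⟩, hzf, -, hi⟩, hxs⟩
    obtain ⟨h0, -⟩ := (Loci.mem_T_of_le i z hi).mp hT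
    obtain ⟨v, rfl⟩ : z ∈ Set.range (f.fiberι s) := by rw [f.range_fiberι]; exact hzf.trans hxs
    have h1 := (key v).mp (hall v)
    rw [gen_bot_eq f hint s v h0] at h1
    exact not_nontrivial_iff_subsingleton.mpr h1 ((hdp v).mp hz)
  · intro hn x
    haveI := hint s x
    rw [key x, ← not_nontrivial_iff_subsingleton]
    intro hN
    obtain ⟨i, hi⟩ := exists_cd f (f.fiberι s (gen x ⟨⊥, Ideal.isPrime_bot⟩))
    exact hn ⟨_, ⟨i, _, ⟨(Loci.mem_T_of_le i _ hi.ge).mpr ⟨generic f hint s x, hi⟩, (hdp _).mpr hN⟩,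
      rfl, specializes_rfl, hi.ge⟩, (f.range_fiberι s).subset ⟨_, rfl⟩⟩

include hF hint in
theorem torsion_bot_iff (s : S) :
    (∀ x : ↥(f.fiber s), Submodule.torsion ((f.fiber s).presheaf.stalk x) ((fib f F s).presheaf.stalk x) = ⊥) ↔
      s ∉ f.base '' {x | ∃ i, x ∈ E f (Loci.T f F i ∩
        {z | ∃ j, j ≠ i ∧ z ∈ Loci.A f (Coh.structureModule X) j}) i} := by
  have hO := Unit.isFP_unit X
  haveI := qcoh_fib f hF s
  constructor
  · rintro hall ⟨x, ⟨i, z, ⟨hT, j, hji, hA⟩, hzf, -, hi⟩, hxs⟩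
    obtain ⟨h0, hzi⟩ := (Loci.mem_T_of_le i z hi).mp hT
    obtain ⟨η, hηf, hηz, -, hηj⟩ := (Loci.mem_A j z).mp hA
    obtain ⟨v, rfl⟩ : z ∈ Set.range (f.fiberι s) := by rw [f.range_fiberι]; exact hzf.trans hxs
    obtain ⟨w, rfl⟩ : η ∈ Set.range (f.fiberι s) := by rw [f.range_fiberι]; exact (hηf.trans hzf).trans hxs
    haveI := hint s v
    obtain ⟨p, rfl⟩ := (range_gen v w).mpr ((f.fiberι s).isEmbedding.isInducing.specializes_iff.mp hηz)
    obtain ⟨-, m, hm⟩ := (Loci.mem_ass_iff hF s v).mpr ((dp_iff f F s v).mpr h0)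
    by_cases hbot : maximalIdeal ((f.fiber s).presheaf.stalk v) = ⊥
    · have hp : p = IsLocalRing.closedPoint _ := le_antisymm (le_maximalIdeal p.2.ne_top)
        (show maximalIdeal _ ≤ p.asIdeal from hbot.le.trans bot_le)
      rw [hp, Loci.gen_closedPoint hF s v, hzi] at hηj
      exact hji (by exact_mod_cast hηj.symm)
    · obtain ⟨a, ha, ha0⟩ := Submodule.exists_mem_ne_zero_of_ne_bot hbot
      rw [hm, Ideal.mem_radical_iff] at ha
      obtain ⟨n, hn⟩ := ha
      rw [Submodule.mem_colon_singleton, Submodule.mem_bot] at hn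
      have hmem : m ∈ Submodule.torsion _ ((fib f F s).presheaf.stalk v) :=
        (Submodule.mem_torsion_iff m).mpr ⟨⟨a ^ n, mem_nonZeroDivisors_of_ne_zero (pow_ne_zero n ha0)⟩, hn⟩
      rw [hall v, Submodule.mem_bot] at hmem
      refine (maximalIdeal.isMaximal ((f.fiber s).presheaf.stalk v)).ne_top ?_
      rw [hm, hmem]
      simp
  · intro hn x
    haveI := hint s x
    haveI := Fibre.noeth f s x
    haveI := finite_fib f hF s x
    by_contra hne
    obtain ⟨m, hm, hm0⟩ := Submodule.exists_mem_ne_zero_of_ne_bot hne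
    obtain ⟨⟨a, ha⟩, ham⟩ := (Submodule.mem_torsion_iff m).mp hm
    obtain ⟨p, hp, hpc⟩ := exists_le_isAssociatedPrime_of_isNoetherianRing ((f.fiber s).presheaf.stalk x) m hm0
    have hpa : a ∈ p := hpc (Submodule.mem_colon_singleton.mpr ((Submodule.mem_bot _).mpr ham))
    let P : PrimeSpectrum ((f.fiber s).presheaf.stalk x) := ⟨p, hp.isPrime⟩
    haveI : P.asIdeal.IsPrime := P.2
    let η : PrimeSpectrum ((f.fiber s).presheaf.stalk x) := ⟨⊥, Ideal.isPrime_bot⟩
    have hne : η ≠ P := fun he => nonZeroDivisors.ne_zero ha (Ideal.mem_bot.mp (by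
      have : (⊥ : Ideal ((f.fiber s).presheaf.stalk x)) = p := congrArg PrimeSpectrum.asIdeal he
      rw [this]; exact hpa))
    have h0 : dp f F (f.fiberι s (gen x P)) = 0 := by
      rw [← dp_iff, ← (Loci.fibre_invariants hF s x P).1, LocCoh.depth, IdealDepth.eq_zero_iff]
      exact ⟨_, Module.associatedPrimes.mem_associatedPrimes_atPrime_of_mem_associatedPrimes (p := P.asIdeal) hp, le_rfl⟩
    have hfib : ∀ v, f.base (f.fiberι s v) = s := fun v => (f.range_fiberι s).subset ⟨v, rfl⟩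
    have hsp : f.fiberι s (gen x η) ⤳ f.fiberι s (gen x P) :=
      ((gen_le_iff x η P).mp (show (⊥ : Ideal _) ≤ p from bot_le)).map (f.fiberι s).continuous
    obtain ⟨i, hi⟩ := exists_cd f (f.fiberι s (gen x P))
    obtain ⟨j, hj⟩ := exists_cd f (f.fiberι s (gen x η))
    refine hn ⟨f.fiberι s (gen x P), ⟨i, f.fiberι s (gen x P), ⟨(Loci.mem_T_of_le i _ hi.ge).mpr ⟨h0, hi⟩,
      j, fun hij => ?_, (Loci.mem_A j _).mpr ⟨f.fiberι s (gen x η), by rw [hfib, hfib], hsp, generic f hint s x, hj⟩⟩,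
      rfl, specializes_rfl, hi.ge⟩, hfib _⟩
    subst hij
    exact hne (gen_injective x ((f.fiberι s).isEmbedding.injective
      (Loci.eq_of_cd_eq' hF _ _ (by rw [hfib, hfib]) hsp (hj.trans hi.symm))))

variable [QuasiCompact f] [QuasiSeparated f]

include hF hint in
theorem lc_torsion : IsLocallyConstructible {s : S | ∀ x : ↥(f.fiber s),
    Submodule.torsion ((f.fiber s).presheaf.stalk x) ((fib f F s).presheaf.stalk x) = ⊤} := by
  exact (congrArg IsLocallyConstructible (Set.ext fun s => torsion_top_iff f hF hint s)).mpr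
    (ConstrStatements.lc_compl (f.isLocallyConstructible_image
      (RelAssLocus.lc_assInFamily f (Unit.isFP_unit X) (fun _ => {z | dp f F z ≠ ⊤})
        fun _ => ConstrStatements.lc_compl (Constr.lc_top (f := f) hF))))

include hF hint in
theorem lc_torsionFree : IsLocallyConstructible {s : S | ∀ x : ↥(f.fiber s),
    Submodule.torsion ((f.fiber s).presheaf.stalk x) ((fib f F s).presheaf.stalk x) = ⊥} :=
  (congrArg IsLocallyConstructible (Set.ext fun s => torsion_bot_iff f hF hint s)).mpr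
    (ConstrStatements.lc_compl (f.isLocallyConstructible_image
      (RelAssLocus.lc_assInFamily f hF _ fun i => Constr.lc_assDims (f := f) (Unit.isFP_unit X) (fun j => j ≠ i))))

end Groth.Agent.FibreDepth.TorsionLocus
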